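import Cfsg.Agent.Lib.OrthOmega.Structure

/-!
Semisimilarities of a quadratic space and the automorphisms they induce on `EG Q` modulo its centre.
-/

set_option autoImplicit false

namespace Cfsg.Agent.Lib.AutPOmega

open Module QuadraticMap Cfsg.Agent.Lib.Forms Cfsg.Agent.Lib.OrthOmega

variable {F : Type*} [Field F] {V : Type*} [AddCommGroup V] [Module F V]

/-- `EG Q` modulo its centre. -/
abbrev PG (Q : QuadraticForm F V) : Type _ := EG Q ⧸ Subgroup.center (EG Q)

variable {Q : QuadraticForm F V}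

/-- The projection. -/
abbrev toP : EG Q →* PG Q := QuotientGroup.mk' _

theorem toP_surj (x : PG Q) : ∃ g : EG Q, toP g = x := QuotientGroup.mk'_surjective _ x

/-- A semilinear bijection multiplying the form by a constant. -/
structure Semisim (Q : QuadraticForm F V) where
  toAdd : V ≃+ V
  τ : F ≃+* F
  c : F
  c_ne : c ≠ 0
  map_smul' : ∀ (t : F) (v : V), toAdd (t • v) = τ t • toAdd v
  map_Q' : ∀ v : V, Q (toAdd v) = c * τ (Q v)

namespace Semisim

variable (S : Semisim Q)

theorem map_polar (x y : V) : polar Q (S.toAdd x) (S.toAdd y) = S.c * S.τ (polar Q x y) := by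
  simp only [polar, ← map_add, S.map_Q', map_sub, mul_sub]

theorem symm_smul (t : F) (v : V) : S.toAdd.symm (t • v) = S.τ.symm t • S.toAdd.symm v := by
  apply S.toAdd.injective
  rw [S.map_smul', S.toAdd.apply_symm_apply, S.toAdd.apply_symm_apply, S.τ.apply_symm_apply]

/-- Conjugation of a linear map. -/
def conjLin (g : V ≃ₗ[F] V) : V ≃ₗ[F] V where
  toFun v := S.toAdd (g (S.toAdd.symm v))
  invFun v := S.toAdd (g.symm (S.toAdd.symm v))
  map_add' x y := by simp
  map_smul' t v := by
    rw [S.symm_smul, map_smul, S.map_smul', S.τ.apply_symm_apply]; rfl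
  left_inv v := by simp
  right_inv v := by simp

/-- Conjugation as an endomorphism of the orthogonal group. -/
def conjO : orth Q →* orth Q where
  toFun g := ⟨S.conjLin g.1, fun v => by
    show Q (S.toAdd (g.1 (S.toAdd.symm v))) = Q v
    rw [S.map_Q', g.2, ← S.map_Q', S.toAdd.apply_symm_apply]⟩
  map_one' := orth_ext fun v => S.toAdd.apply_symm_apply v
  map_mul' g h := orth_ext fun v => by
    show S.toAdd (g.1 (h.1 _)) = S.toAdd (g.1 (S.toAdd.symm (S.toAdd (h.1 _))))
    rw [S.toAdd.symm_apply_apply]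

theorem conjO_apply (g : orth Q) (v : V) :
    (S.conjO g).1 v = S.toAdd (g.1 (S.toAdd.symm v)) := rfl

theorem map_spair {e u : V} (h : SPair Q e u) : SPair Q (S.toAdd e) (S.c⁻¹ • S.toAdd u) :=
  ⟨by rw [S.map_Q', h.sing, map_zero, mul_zero],
    by rw [polar_smul_right, S.map_polar, h.perp, map_zero, mul_zero, smul_zero]⟩

theorem conjO_rho {e u : V} (h : SPair Q e u) : S.conjO (rho h) = rho (S.map_spair h) := by
  refine orth_ext fun y => ?_
  obtain ⟨x, rfl⟩ := S.toAdd.surjective y
  rw [conjO_apply, S.toAdd.symm_apply_apply, rho_apply, rho_apply, map_sub, map_add,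
    S.map_smul', S.map_smul', polar_smul_left, S.map_polar, S.map_polar, Q_smul, S.map_Q',
    map_add, map_mul]
  have hc := S.c_ne
  simp only [smul_eq_mul, smul_smul]
  congr 1
  · congr 2
    field_simp
  · congr 1
    field_simp

theorem conjO_mem {g : orth Q} (hg : g ∈ EG Q) : S.conjO g ∈ EG Q := by
  have h : EG Q ≤ (EG Q).comap S.conjO := EG_le fun e u hu => by
    show S.conjO (rho hu) ∈ EG Q
    rw [S.conjO_rho]; exact rho_mem _
  exact h hg

/-- The inverse semisimilarity. -/
def inv : Semisim Q where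
  toAdd := S.toAdd.symm
  τ := S.τ.symm
  c := S.τ.symm S.c⁻¹
  c_ne := (EmbeddingLike.map_ne_zero_iff (f := S.τ.symm)).2 (inv_ne_zero S.c_ne)
  map_smul' := S.symm_smul
  map_Q' v := by
    apply S.τ.injective
    rw [map_mul, S.τ.apply_symm_apply, S.τ.apply_symm_apply]
    conv_rhs => rw [← S.toAdd.apply_symm_apply v, S.map_Q']
    rw [← mul_assoc, inv_mul_cancel₀ S.c_ne, one_mul]

/-- Composition. -/
def mul (T : Semisim Q) : Semisim Q where
  toAdd := T.toAdd.trans S.toAdd
  τ := T.τ.trans S.τ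
  c := S.c * S.τ T.c
  c_ne := mul_ne_zero S.c_ne ((EmbeddingLike.map_ne_zero_iff (f := S.τ)).2 T.c_ne)
  map_smul' t v := by
    show S.toAdd (T.toAdd (t • v)) = _
    rw [T.map_smul', S.map_smul']; rfl
  map_Q' v := by
    show Q (S.toAdd (T.toAdd v)) = _
    rw [S.map_Q', T.map_Q', map_mul, ← mul_assoc]; rfl

/-- An isometry as a semisimilarity. -/
def ofOrth (g : orth Q) : Semisim Q where
  toAdd := g.1.toAddEquiv
  τ := RingEquiv.refl F
  c := 1
  c_ne := one_ne_zero
  map_smul' t v := map_smul g.1 t v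
  map_Q' v := by
    show Q (g.1 v) = 1 * Q v
    rw [one_mul]; exact g.2 v

theorem ofOrth_apply (g : orth Q) (v : V) : (ofOrth g).toAdd v = g.1 v := rfl

theorem conjO_ofOrth (g x : orth Q) : (ofOrth g).conjO x = g * x * g⁻¹ := orth_ext fun _ => rfl

/-- The automorphism of `EG Q`. -/
def egAut : MulAut (EG Q) where
  toFun g := ⟨S.conjO g.1, S.conjO_mem g.2⟩
  invFun g := ⟨S.inv.conjO g.1, S.inv.conjO_mem g.2⟩
  left_inv g := Subtype.ext (orth_ext fun v => by
    show S.toAdd.symm (S.toAdd (g.1.1 (S.toAdd.symm (S.toAdd v)))) = _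
    simp)
  right_inv g := Subtype.ext (orth_ext fun v => by
    show S.toAdd (S.toAdd.symm (g.1.1 (S.toAdd (S.toAdd.symm v)))) = _
    simp)
  map_mul' g h := Subtype.ext (map_mul S.conjO g.1 h.1)

theorem egAut_val (g : EG Q) : (S.egAut g).1 = S.conjO g.1 := rfl

/-- The automorphism of `EG Q` modulo its centre. -/
def aut : MulAut (PG Q) :=
  QuotientGroup.congr _ _ S.egAut (Subgroup.characteristic_iff_map_eq.1 inferInstance S.egAut)

theorem aut_toP (g : EG Q) : S.aut (toP g) = toP (S.egAut g) := rfl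

theorem aut_ext {α β : MulAut (PG Q)} (h : ∀ g : EG Q, α (toP g) = β (toP g)) : α = β := by
  refine MulEquiv.ext fun x => ?_
  obtain ⟨g, rfl⟩ := toP_surj x
  exact h g

theorem aut_mul (T : Semisim Q) : (S.mul T).aut = S.aut * T.aut := by
  refine aut_ext fun g => ?_
  rw [MulAut.mul_apply, aut_toP, aut_toP, aut_toP]
  congr 1

theorem aut_inv : S.inv.aut = S.aut⁻¹ := by
  refine eq_inv_of_mul_eq_one_left ?_
  rw [← aut_mul]
  refine aut_ext fun g => ?_
  rw [aut_toP, MulAut.one_apply]
  congr 1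
  refine Subtype.ext (orth_ext fun v => ?_)
  show S.toAdd.symm (S.toAdd (g.1.1 (S.toAdd.symm (S.toAdd v)))) = _
  simp

theorem conj_eq_aut (g : EG Q) : MulAut.conj (toP g) = (ofOrth g.1).aut := by
  refine aut_ext fun x => ?_
  rw [MulAut.conj_apply, aut_toP, ← map_inv, ← map_mul, ← map_mul]
  congr 1

end Semisim

end Cfsg.Agent.Lib.AutPOmega
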