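import Cfsg.Agent.Lib.AutPOmega.Main
import Cfsg.Agent.Lib.OrthOmega.Simple
import Cfsg.Prelude.Def_LieTypeDatum

/-!
The automorphisms of `Cfsg.POmega` are induced by semisimilarities, written with matrices.
-/

set_option autoImplicit false

namespace Cfsg.Agent.Lib.AutPOmega

open Module QuadraticMap Cfsg.Agent.Lib.Forms Cfsg.Agent.Lib.OrthOmega Cfsg.Agent.Lib.OrthStd
open scoped Matrix

variable {F : Type*} [Field F] {ι : Type} [Fintype ι] [DecidableEq ι]

theorem map_mulVec' (σ : F ≃+* F) (M : Matrix ι ι F) (v : ι → F) :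
    M.map σ *ᵥ v = ⇑σ ∘ (M *ᵥ (⇑σ.symm ∘ v)) := funext fun i => by
  refine Eq.trans ?_ (RingHom.map_mulVec σ.toRingHom M (⇑σ.symm ∘ v) i).symm
  congr 1
  funext j
  exact (σ.apply_symm_apply (v j)).symm

variable {Q : QuadraticForm F (ι → F)} {f : (ι → F) → F}

namespace Semisim

/-- The semisimilarity of a pair. -/
def ofPair (hf : ∀ v, f v = Q v) (g : GL ι F) (σ : F ≃+* F) (c : Fˣ)
    (h : ∀ v : ι → F, f ((g : Matrix ι ι F) *ᵥ (fun i => σ (v i))) = (c : F) * σ (f v)) :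
    Semisim Q where
  toAdd :=
    { toFun := fun v => (g : Matrix ι ι F) *ᵥ (⇑σ ∘ v)
      invFun := fun v => ⇑σ.symm ∘ (((g⁻¹ : GL ι F) : Matrix ι ι F) *ᵥ v)
      left_inv := fun v => by
        funext i
        simp [Function.comp_def]
      right_inv := fun v => by
        have : (⇑σ ∘ ⇑σ.symm ∘ (((g⁻¹ : GL ι F) : Matrix ι ι F) *ᵥ v)) =
            (((g⁻¹ : GL ι F) : Matrix ι ι F) *ᵥ v) := funext fun i => σ.apply_symm_apply _
        show (g : Matrix ι ι F) *ᵥ (⇑σ ∘ ⇑σ.symm ∘ (((g⁻¹ : GL ι F) : Matrix ι ι F) *ᵥ v)) = v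
        rw [this, Matrix.mulVec_mulVec]
        simp
      map_add' := fun u v => by
        rw [← Matrix.mulVec_add]
        congr 1
        funext i
        exact map_add σ _ _ }
  τ := σ
  c := c
  c_ne := c.ne_zero
  map_smul' t v := by
    show (g : Matrix ι ι F) *ᵥ (⇑σ ∘ (t • v)) = σ t • ((g : Matrix ι ι F) *ᵥ (⇑σ ∘ v))
    rw [← Matrix.mulVec_smul]
    congr 1
    funext i
    exact map_mul σ _ _
  map_Q' v := by
    rw [← hf, ← hf]
    exact h v

theorem ofPair_apply (hf : ∀ v, f v = Q v) (g : GL ι F) (σ : F ≃+* F) (c : Fˣ)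
    (h : ∀ v : ι → F, f ((g : Matrix ι ι F) *ᵥ (fun i => σ (v i))) = (c : F) * σ (f v))
    (v : ι → F) : (ofPair hf g σ c h).toAdd v = (g : Matrix ι ι F) *ᵥ (⇑σ ∘ v) := rfl

/-- The linear part of a semisimilarity. -/
def linPart (S : Semisim Q) : (ι → F) ≃ₗ[F] (ι → F) where
  toFun v := S.toAdd (⇑S.τ.symm ∘ v)
  invFun v := ⇑S.τ ∘ S.toAdd.symm v
  map_add' u v := by
    rw [← map_add]
    congr 1
    funext i
    exact map_add S.τ.symm _ _
  map_smul' t v := by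
    have : ⇑S.τ.symm ∘ (t • v) = S.τ.symm t • (⇑S.τ.symm ∘ v) :=
      funext fun i => map_mul S.τ.symm _ _
    rw [this, S.map_smul', S.τ.apply_symm_apply]
    rfl
  left_inv v := by
    funext i
    simp
  right_inv v := by
    show S.toAdd (⇑S.τ.symm ∘ (⇑S.τ ∘ S.toAdd.symm v)) = v
    rw [show ⇑S.τ.symm ∘ (⇑S.τ ∘ S.toAdd.symm v) = S.toAdd.symm v from
      funext fun i => S.τ.symm_apply_apply _, S.toAdd.apply_symm_apply]

/-- The matrix of a semisimilarity. -/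
noncomputable def mat (S : Semisim Q) : GL ι F := glEquiv.symm S.linPart

theorem mat_mulVec (S : Semisim Q) (v : ι → F) :
    (S.mat : Matrix ι ι F) *ᵥ v = S.toAdd (⇑S.τ.symm ∘ v) := by
  rw [← glEquiv_apply, mat, MulEquiv.apply_symm_apply]
  rfl

theorem mat_apply (S : Semisim Q) (v : ι → F) :
    (S.mat : Matrix ι ι F) *ᵥ (⇑S.τ ∘ v) = S.toAdd v := by
  rw [mat_mulVec, show ⇑S.τ.symm ∘ (⇑S.τ ∘ v) = v from funext fun i => S.τ.symm_apply_apply _]

theorem isSemisimilarityPair (S : Semisim Q) (hf : ∀ v, f v = Q v) :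
    Cfsg.IsSemisimilarityPair f S.mat S.τ :=
  ⟨Units.mk0 S.c S.c_ne, fun v => by
    show f ((S.mat : Matrix ι ι F) *ᵥ (⇑S.τ ∘ v)) = _
    rw [mat_apply, hf, hf, S.map_Q', Units.val_mk0]⟩

end Semisim

section Transport

variable [Finite F] (hQ : Nondeg Q) (h5 : 5 ≤ finrank F (ι → F)) (hf : ∀ v, f v = Q v)

/-- Automorphisms of `PΩ` as automorphisms of `EG Q` modulo its centre. -/
noncomputable def toPG : MulAut (Cfsg.POmega F f) ≃* MulAut (PG Q) :=
  MulAut.congr (pOmegaEquiv Q hQ h5 hf)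

theorem toPG_apply (β : MulAut (Cfsg.POmega F f)) (x : PG Q) :
    toPG hQ h5 hf β x = pOmegaEquiv Q hQ h5 hf (β ((pOmegaEquiv Q hQ h5 hf).symm x)) := rfl

include hQ h5 in
theorem exists_omega (g : EG Q) : ∃ s : Cfsg.Omega F f, isoOrth Q hf s.1 = g.1 :=
  ⟨((omegaEquiv Q hf).trans (MulEquiv.subgroupCongr (commutator_eq_EG hQ h5))).symm g, by
    have := congrArg Subtype.val
      (((omegaEquiv Q hf).trans (MulEquiv.subgroupCongr (commutator_eq_EG hQ h5))).apply_symm_apply g)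
    exact this⟩

theorem pOmegaEquiv_mk (s : Cfsg.Omega F f) : ∃ g : EG Q, isoOrth Q hf s.1 = g.1 ∧
    pOmegaEquiv Q hQ h5 hf (QuotientGroup.mk s) = toP g :=
  ⟨((omegaEquiv Q hf).trans (MulEquiv.subgroupCongr (commutator_eq_EG hQ h5))) s, rfl, rfl⟩

omit [Finite F] in
theorem conj_matrix_mulVec (S : Semisim Q) (g : GL ι F) (σ : F ≃+* F)
    (hS : ∀ v, S.toAdd v = (g : Matrix ι ι F) *ᵥ (⇑σ ∘ v)) (hτ : S.τ = σ)
    (s : Cfsg.isometryGroup F f) (v : ι → F) :
    ((g : Matrix ι ι F) * (((s : GL ι F) : Matrix ι ι F)).map σ *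
      ((g⁻¹ : GL ι F) : Matrix ι ι F)) *ᵥ v = (S.conjO (isoOrth Q hf s)).1 v := by
  rw [Semisim.conjO_apply, ← Matrix.mulVec_mulVec, ← Matrix.mulVec_mulVec, map_mulVec', hS,
    isoOrth_apply]
  congr 3
  apply S.toAdd.injective
  rw [S.toAdd.apply_symm_apply, hS, show ⇑σ ∘ ⇑σ.symm ∘ (((g⁻¹ : GL ι F) : Matrix ι ι F) *ᵥ v) =
    ((g⁻¹ : GL ι F) : Matrix ι ι F) *ᵥ v from funext fun i => σ.apply_symm_apply _,
    Matrix.mulVec_mulVec]
  simp

theorem induced_iff (S : Semisim Q) (g : GL ι F) (σ : F ≃+* F)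
    (hS : ∀ v, S.toAdd v = (g : Matrix ι ι F) *ᵥ (⇑σ ∘ v)) (hτ : S.τ = σ)
    (β : MulAut (Cfsg.POmega F f)) :
    Cfsg.IsInducedBySemilinearPOmega f g σ β ↔ toPG hQ h5 hf β = S.aut := by
  constructor
  · intro h
    refine Semisim.aut_ext fun k => ?_
    obtain ⟨s, hs⟩ := exists_omega hQ h5 hf k
    obtain ⟨s', hs'⟩ := exists_omega hQ h5 hf (S.egAut k)
    obtain ⟨k₁, hk₁, e₁⟩ := pOmegaEquiv_mk hQ h5 hf s
    obtain ⟨k₂, hk₂, e₂⟩ := pOmegaEquiv_mk hQ h5 hf s'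
    have ek : k₁ = k := Subtype.ext (hk₁.symm.trans hs)
    have ek' : k₂ = S.egAut k := Subtype.ext (hk₂.symm.trans hs')
    have hcond := h s s' (Matrix.ext_of_mulVec_single fun j => by
      rw [conj_matrix_mulVec hf S g σ hS hτ, hs, ← isoOrth_apply Q hf, hs']
      rfl)
    rw [← ek, toPG_apply, ← e₁, MulEquiv.symm_apply_apply, hcond, e₂, ek', e₁, ek, S.aut_toP]
  · intro h s s' hss
    obtain ⟨k₁, hk₁, e₁⟩ := pOmegaEquiv_mk hQ h5 hf s
    obtain ⟨k₂, hk₂, e₂⟩ := pOmegaEquiv_mk hQ h5 hf s'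
    apply (pOmegaEquiv Q hQ h5 hf).injective
    have h1 := congrArg (fun γ : MulAut (PG Q) => γ (toP k₁)) h
    simp only [toPG_apply, ← e₁, MulEquiv.symm_apply_apply] at h1
    rw [h1, e₁, e₂, S.aut_toP]
    congr 1
    refine Subtype.ext (orth_ext fun v => ?_)
    show (S.conjO k₁.1).1 v = k₂.1.1 v
    rw [← hk₁, ← hk₂, ← conj_matrix_mulVec hf S g σ hS hτ, isoOrth_apply, hss]

theorem induced_mat (S : Semisim Q) :
    Cfsg.IsInducedBySemilinearPOmega f S.mat S.τ ((toPG hQ h5 hf).symm S.aut) :=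
  (induced_iff hQ h5 hf S S.mat S.τ (fun v => (S.mat_apply v).symm) rfl _).2
    ((toPG hQ h5 hf).apply_symm_apply _)

end Transport

theorem gammaPOmega_eq_top [Finite F] (hQ : Nondeg Q) (h7 : 7 ≤ finrank F (ι → F))
    (h8 : NoTriality Q) (hf : ∀ v, f v = Q v) : Cfsg.gammaPOmega F f = ⊤ := by
  refine eq_top_iff.2 fun β _ => Subgroup.subset_closure ?_
  obtain ⟨p, hchar⟩ := CharP.exists F
  have : Fact p.Prime := ⟨CharP.char_is_prime F p⟩
  obtain ⟨S, hS⟩ := exists_semisim_aut p hQ h7 h8 (toPG hQ (by omega) hf β)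
  refine ⟨S.mat, S.τ, S.isSemisimilarityPair hf, ?_⟩
  exact (induced_iff hQ (by omega) hf S S.mat S.τ (fun v => (S.mat_apply v).symm) rfl β).2 hS

theorem noTriality_odd (m : ℕ) : NoTriality (qOddC m F) := by
  intro h
  rw [finrank_fun] at h
  simp at h
  omega

theorem noTriality_plus {m : ℕ} (hm : 5 ≤ m) : NoTriality (qPlus (F := F) m) := by
  intro h
  rw [finrank_fun] at h
  simp at h
  omega

theorem qMinusC_nondeg [Finite F] (m : ℕ) {a b : F}
    (hab : ∀ z₁ z₂ : F, z₁ ^ 2 + a * z₁ * z₂ + b * z₂ ^ 2 = 0 → z₁ = 0 ∧ z₂ = 0) :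
    Nondeg (qMinusC m a b) :=
  (prod_nondeg (qPlus_nondeg m) (qBin_nondeg hab)).of_equiv (minusIso m a b).symm

theorem finrank_sing_minus {m : ℕ} {a b : F}
    (hab : ∀ z₁ z₂ : F, z₁ ^ 2 + a * z₁ * z₂ + b * z₂ ^ 2 = 0 → z₁ = 0 ∧ z₂ = 0)
    {U : Submodule F ((Fin m ⊕ Fin m) ⊕ Fin 2 → F)} (hU : ∀ v ∈ U, qMinusC m a b v = 0) :
    finrank F U ≤ m := by
  let X : U →ₗ[F] (Fin m → F) := LinearMap.pi fun i =>
    (LinearMap.proj (Sum.inl (Sum.inl i))).comp U.subtype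
  obtain ⟨C, hC⟩ := Submodule.exists_isCompl (LinearMap.ker X)
  let P : U →ₗ[F] LinearMap.ker X := (LinearMap.ker X).projectionOnto C hC
  let Ψ : U →ₗ[F] (Fin m ⊕ Fin m → F) := LinearMap.pi (Sum.elim
    (fun i => (LinearMap.proj i).comp X)
    (fun i => ((LinearMap.proj (Sum.inl (Sum.inr i))).comp U.subtype).comp
      ((LinearMap.ker X).subtype.comp P)))
  have hker : ∀ u : U, X u = 0 → (∀ i, u.1 (.inl (.inl i)) = 0) ∧ ∀ j, u.1 (.inr j) = 0 := by
    intro u hu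
    refine ⟨fun i => congrFun hu i, ?_⟩
    have h1 := hU u.1 u.2
    rw [← quadFormMinus_eq, Cfsg.quadFormMinus] at h1
    simp only [show ∀ i, u.1 (.inl (.inl i)) = 0 from fun i => congrFun hu i, zero_mul,
      Finset.sum_const_zero, zero_add] at h1
    obtain ⟨h2, h3⟩ := hab _ _ h1
    intro j; fin_cases j <;> assumption
  have hinj : Function.Injective Ψ := by
    rw [injective_iff_map_eq_zero]
    intro u hu
    have hX : X u = 0 := funext fun i => congrFun hu (Sum.inl i)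
    obtain ⟨hx, hz⟩ := hker u hX
    have hP : P u = ⟨u, hX⟩ := Submodule.projectionOnto_apply_left hC ⟨u, hX⟩
    refine Subtype.ext (funext fun k => ?_)
    rcases k with (i | i) | j
    · exact hx i
    · have := congrFun hu (Sum.inr i)
      simpa [Ψ, hP] using this
    · exact hz j
  have hsing : ∀ v ∈ LinearMap.range Ψ, qPlus m v = 0 := by
    rintro _ ⟨u, rfl⟩
    set w := (P u : U) with hw
    obtain ⟨hx, hz⟩ := hker w (P u).2
    have h1 : polar (qMinusC m a b) u.1 w.1 = 0 := by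
      rw [polar, hU _ (U.add_mem u.2 w.2), hU _ u.2, hU _ w.2, sub_zero, sub_zero]
    rw [polar, ← quadFormMinus_eq, ← quadFormMinus_eq, ← quadFormMinus_eq] at h1
    simp only [Cfsg.quadFormMinus, Pi.add_apply, hx, hz, add_zero, zero_mul,
      Finset.sum_const_zero, mul_zero, zero_pow two_ne_zero] at h1
    rw [qPlus_apply]
    simp only [mul_add, Finset.sum_add_distrib] at h1
    simp only [Ψ, LinearMap.pi_apply, Sum.elim_inl, Sum.elim_inr, LinearMap.comp_apply,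
      LinearMap.proj_apply, Submodule.subtype_apply, ← hw]
    refine Eq.trans ?_ h1
    simp only [X, LinearMap.pi_apply, LinearMap.comp_apply, LinearMap.proj_apply,
      Submodule.subtype_apply]
    ring
  let v := Module.finBasis F (LinearMap.range Ψ)
  have hind : LinearIndependent F (fun i => ((v i : LinearMap.range Ψ) : Fin m ⊕ Fin m → F)) :=
    v.linearIndependent.map' (LinearMap.range Ψ).subtype (Submodule.ker_subtype _)
  have h2 := two_mul_finrank_le (qPlus_nondeg m) hind fun i j => by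
    rw [polar, hsing _ (add_mem (v i).2 (v j).2), hsing _ (v i).2, hsing _ (v j).2, sub_zero,
      sub_zero]
  rw [LinearMap.finrank_range_of_inj hinj, finrank_fun] at h2
  simp at h2
  omega

theorem noTriality_minus {m : ℕ} {a b : F}
    (hab : ∀ z₁ z₂ : F, z₁ ^ 2 + a * z₁ * z₂ + b * z₂ ^ 2 = 0 → z₁ = 0 ∧ z₂ = 0) :
    NoTriality (qMinusC m a b) := by
  intro h U hU
  rw [finrank_fun] at h
  simp at h
  have := finrank_sing_minus hab hU
  omega

end Cfsg.Agent.Lib.AutPOmega
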