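import Cfsg.Agent.Lib.AutPOmega.Bridge

/-!
The group of semisimilarities, the kernel of its action on `PΩ`, and orders.
-/

set_option autoImplicit false

namespace Cfsg.Agent.Lib.AutPOmega

open Module QuadraticMap Cfsg.Agent.Lib.Forms Cfsg.Agent.Lib.OrthOmega

variable {F : Type*} [Field F] {V : Type*} [AddCommGroup V] [Module F V]
  {Q : QuadraticForm F V}

namespace Semisim

theorem ext' {S T : Semisim Q} (h : S.toAdd = T.toAdd) (hτ : S.τ = T.τ) (hc : S.c = T.c) :
    S = T := by
  cases S; cases T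
  simp_all

/-- The identity. -/
def one : Semisim Q where
  toAdd := AddEquiv.refl V
  τ := RingEquiv.refl F
  c := 1
  c_ne := one_ne_zero
  map_smul' _ _ := rfl
  map_Q' v := (one_mul (Q v)).symm

instance semisimGroup : Group (Semisim Q) where
  mul S T := S.mul T
  one := one
  inv S := S.inv
  mul_assoc S T U := ext' (AddEquiv.ext fun _ => rfl) (RingEquiv.ext fun _ => rfl) (by
    show S.c * S.τ T.c * S.τ (T.τ U.c) = S.c * S.τ (T.c * T.τ U.c)
    rw [map_mul, mul_assoc])
  one_mul S := ext' (AddEquiv.ext fun _ => rfl) (RingEquiv.ext fun _ => rfl) (one_mul S.c)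
  mul_one S := ext' (AddEquiv.ext fun _ => rfl) (RingEquiv.ext fun _ => rfl) (by
    show S.c * S.τ 1 = S.c
    rw [map_one, mul_one])
  inv_mul_cancel S := ext' (AddEquiv.ext fun v => S.toAdd.symm_apply_apply v)
    (RingEquiv.ext fun t => S.τ.symm_apply_apply t) (by
    show S.τ.symm S.c⁻¹ * S.τ.symm S.c = 1
    rw [← map_mul, inv_mul_cancel₀ S.c_ne, map_one])

theorem mul_toAdd (S T : Semisim Q) (v : V) : (S * T).toAdd v = S.toAdd (T.toAdd v) := rfl

theorem mul_c (S T : Semisim Q) : (S * T).c = S.c * S.τ T.c := rfl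

theorem inv_toAdd (S : Semisim Q) (v : V) : S⁻¹.toAdd v = S.toAdd.symm v := rfl

theorem one_toAdd (v : V) : (1 : Semisim Q).toAdd v = v := rfl

/-- The action on `EG Q` modulo its centre. -/
def autHom : Semisim Q →* MulAut (PG Q) where
  toFun S := S.aut
  map_one' := aut_ext fun g => by
    show toP (egAut _ g) = toP g
    congr 1
  map_mul' S T := S.aut_mul T

theorem autHom_apply (S : Semisim Q) : autHom S = S.aut := rfl

/-- The field automorphism of a semisimilarity. -/
def τHom : Semisim Q →* (F ≃+* F) where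
  toFun S := S.τ
  map_one' := rfl
  map_mul' _ _ := rfl

theorem τHom_apply (S : Semisim Q) : τHom S = S.τ := rfl

/-- Scalars. -/
def scalar : Fˣ →* Semisim Q where
  toFun l :=
    { toAdd := (LinearEquiv.smulOfUnit l).toAddEquiv
      τ := RingEquiv.refl F
      c := (l : F) * l
      c_ne := mul_ne_zero l.ne_zero l.ne_zero
      map_smul' := fun t v => by
        show (l : F) • t • v = t • (l : F) • v
        rw [smul_comm]
      map_Q' := fun v => Q_smul Q _ v }
  map_one' := ext' (AddEquiv.ext fun v => one_smul F v) rfl (one_mul 1)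
  map_mul' l m := ext' (AddEquiv.ext fun v => mul_smul (l : F) (m : F) v) rfl (by
    show ((l * m : Fˣ) : F) * ((l * m : Fˣ) : F) = (l : F) * l * ((m : F) * m)
    rw [Units.val_mul]; ring)

theorem scalar_toAdd (l : Fˣ) (v : V) : (scalar (Q := Q) l).toAdd v = (l : F) • v := rfl

theorem scalar_injective [Nontrivial V] : Function.Injective (scalar (F := F) (Q := Q)) := by
  intro l m h
  obtain ⟨v, hv⟩ := exists_ne (0 : V)
  have h1 : (l : F) • v = (m : F) • v := congrArg (fun S : Semisim Q => S.toAdd v) h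
  exact Units.ext (smul_left_injective F hv h1)

/-- Isometries. -/
def orthHom : orth Q →* Semisim Q where
  toFun g := ofOrth g
  map_one' := ext' (AddEquiv.ext fun _ => rfl) rfl rfl
  map_mul' g h := ext' (AddEquiv.ext fun _ => rfl) rfl (mul_one 1).symm

theorem orthHom_apply (g : orth Q) (v : V) : (orthHom g).toAdd v = g.1 v := rfl

theorem orthHom_injective : Function.Injective (orthHom (Q := Q)) := fun g h he =>
  Subtype.ext (LinearEquiv.ext fun v => congrArg (fun S : Semisim Q => S.toAdd v) he)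

/-- Similarities. -/
def similitudes (Q : QuadraticForm F V) : Subgroup (Semisim Q) := τHom.ker

theorem mem_similitudes {S : Semisim Q} : S ∈ similitudes Q ↔ S.τ = RingEquiv.refl F := Iff.rfl

theorem tau_apply_of_mem {S : Semisim Q} (h : S ∈ similitudes Q) (t : F) : S.τ t = t := by
  rw [mem_similitudes.1 h]; rfl

/-- The multiplier. -/
def mult : similitudes Q →* Fˣ where
  toFun S := Units.mk0 S.1.c S.1.c_ne
  map_one' := Units.ext rfl
  map_mul' S T := Units.ext (by
    show S.1.c * S.1.τ T.1.c = S.1.c * T.1.c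
    rw [tau_apply_of_mem S.2])

/-- A similarity of multiplier one is an isometry. -/
theorem exists_orth {S : Semisim Q} (h : S ∈ similitudes Q) (hc : S.c = 1) :
    ∃ g : orth Q, S = orthHom g := by
  refine ⟨⟨{ S.toAdd with map_smul' := fun t v => (S.map_smul' t v).trans (by
    rw [tau_apply_of_mem h]; rfl) }, fun v => ?_⟩, ext' (AddEquiv.ext fun v => rfl)
      (mem_similitudes.1 h) hc⟩
  show Q (S.toAdd v) = Q v
  rw [S.map_Q', hc, one_mul, tau_apply_of_mem h]

theorem orthHom_mem (g : orth Q) : orthHom g ∈ similitudes Q := rfl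

theorem scalar_mem (l : Fˣ) : scalar l ∈ similitudes Q := rfl

theorem scalar_comm (l : Fˣ) (S : Semisim Q) (h : S ∈ similitudes Q) :
    scalar l * S = S * scalar l := by
  refine ext' (AddEquiv.ext fun v => ?_) ?_ ?_
  · show (l : F) • S.toAdd v = S.toAdd ((l : F) • v)
    rw [S.map_smul', tau_apply_of_mem h]
  · exact RingEquiv.ext fun _ => rfl
  · show (l : F) * l * S.c = S.c * S.τ ((l : F) * l)
    rw [tau_apply_of_mem h, mul_comm]

theorem conj_orthHom (S : Semisim Q) (g : orth Q) :
    S * orthHom g * S⁻¹ = orthHom (S.conjO g) := by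
  refine ext' (AddEquiv.ext fun v => rfl) (RingEquiv.ext fun t => S.τ.apply_symm_apply t) ?_
  show S.c * S.τ 1 * S.τ (S.τ.symm S.c⁻¹) = 1
  rw [map_one, mul_one, S.τ.apply_symm_apply, mul_inv_cancel₀ S.c_ne]

theorem card_similitudes [Finite F] [FiniteDimensional F V] :
    Nat.card (similitudes Q) = Nat.card (mult (Q := Q)).range * Nat.card (orth Q) := by
  have e : orth Q ≃ (mult (Q := Q)).ker := Equiv.ofBijective
    (fun g => ⟨⟨orthHom g, orthHom_mem g⟩, Units.ext rfl⟩)
    ⟨fun g h he => orthHom_injective (congrArg (fun x => x.1.1) he), by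
      rintro ⟨⟨S, hS⟩, hker⟩
      obtain ⟨g, rfl⟩ := exists_orth hS (congrArg Units.val hker)
      exact ⟨g, rfl⟩⟩
  rw [Nat.card_congr e, ← Subgroup.index_ker, Subgroup.index_mul_card]

end Semisim

open Semisim

theorem card_semisim (hsurj : ∀ σ : F ≃+* F, ∃ S : Semisim Q, S.τ = σ) :
    Nat.card (Semisim Q) = Nat.card (F ≃+* F) * Nat.card (similitudes Q) := by
  have h : (τHom (Q := Q)).range = ⊤ := MonoidHom.range_eq_top.2 fun σ => hsurj σ
  rw [← Subgroup.index_mul_card (similitudes Q), similitudes, Subgroup.index_ker, h,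
    Subgroup.card_top]

variable {p : ℕ} [Fact p.Prime] [CharP F p] [Finite F] [FiniteDimensional F V]

/-- A semisimilarity acting trivially is a scalar. -/
theorem ker_autHom (p : ℕ) [Fact p.Prime] [CharP F p] (hQ : Nondeg Q) (h7 : 7 ≤ finrank F V) :
    (autHom (Q := Q)).ker = (scalar (Q := Q)).range := by
  have h5 : 5 ≤ finrank F V := by omega
  ext S
  constructor
  · intro hS
    have hS' : S.aut = 1 := hS
    have hfix : ∀ a : V, a ≠ 0 → Q a = 0 → ∃ t : F, S.toAdd a = t • a := by
      intro a ha0 ha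
      have h1 := S.assoc p hQ h7 ha0 ha
      have h2 := (1 : Semisim Q).assoc p hQ h7 ha0 ha
      rw [hS'] at h1
      rw [show (1 : Semisim Q).aut = 1 from map_one autHom] at h2
      obtain ⟨t, -, ht⟩ := Assoc.unique p hQ h7 h2 h1
      exact ⟨t, by rw [ht, one_toAdd]⟩
    have hsame : ∀ a b : V, Q a = 0 → Q b = 0 → polar Q a b = 0 → LinearIndependent F ![a, b] →
        ∀ s t : F, S.toAdd a = s • a → S.toAdd b = t • b → s = t := by
      intro a b ha hb hab hli s t hs ht
      have hne : a + b ≠ 0 := fun h => one_ne_zero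
        (LinearIndependent.pair_iff.1 hli 1 1 (by rw [one_smul, one_smul, h])).1
      obtain ⟨r, hr⟩ := hfix (a + b) hne (by rw [Q_add, ha, hb, hab, add_zero, add_zero])
      rw [map_add, hs, ht, smul_add] at hr
      have := LinearIndependent.pair_iff.1 hli (s - r) (t - r) (by
        rw [sub_smul, sub_smul]; rw [← sub_eq_zero] at hr; rw [← hr]; abel)
      rw [sub_eq_zero.1 this.1, sub_eq_zero.1 this.2]
    obtain ⟨e, f, hp⟩ := exists_hyp hQ (by omega)
    have hfr := hp.finrank_core
    obtain ⟨l, hl⟩ := hfix e hp.left_ne hp.left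
    have hcore : ∀ w ∈ core Q e f, Q w = 0 → S.toAdd w = l • w := by
      intro w hw hqw
      by_cases hw0 : w = 0
      · rw [hw0, map_zero, smul_zero]
      obtain ⟨t, ht⟩ := hfix w hw0 hqw
      rw [ht, hsame e w hp.left hqw (mem_core.1 hw).1 (lpair_core hp hw hw0 hqw).ind l t hl ht]
    obtain ⟨⟨w₀, hw₀⟩, hw₀0, hqw₀⟩ := exists_singular (hp.nondeg_core hQ) (by omega)
    have hw₀0' : w₀ ≠ 0 := fun h => hw₀0 (Subtype.ext h)
    replace hqw₀ : Q w₀ = 0 := hqw₀
    have hw₀l := hcore w₀ hw₀ hqw₀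
    have hf : S.toAdd f = l • f := by
      obtain ⟨t, ht⟩ := hfix f hp.symm.left_ne hp.right
      rw [ht, hsame f w₀ hp.right hqw₀ (mem_core.1 hw₀).2
        (lpair_core hp.symm ⟨hw₀.2, hw₀.1⟩ hw₀0' hqw₀).ind t l ht hw₀l]
    have hl0 : l ≠ 0 := fun h =>
      hp.left_ne (S.toAdd.injective (by rw [hl, h, zero_smul, map_zero]))
    have hτ : ∀ s : F, S.τ s = s := by
      intro s
      have hli := LinearIndependent.pair_iff.1 (lpair_core hp hw₀ hw₀0' hqw₀).ind
      have hne : s • e + w₀ ≠ 0 := fun h => one_ne_zero (hli s 1 (by rw [one_smul, h])).2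
      obtain ⟨r, hr⟩ := hfix _ hne (by
        rw [Q_add, Q_smul, hp.left, hqw₀, polar_smul_left, (mem_core.1 hw₀).1]; simp)
      rw [map_add, S.map_smul', hl, hw₀l, smul_add, smul_smul, smul_smul] at hr
      have h2 := hli (S.τ s * l - r * s) (l - r)
        (by rw [sub_smul, sub_smul]; rw [← sub_eq_zero] at hr; rw [← hr]; abel)
      rw [← sub_eq_zero.1 h2.2] at h2
      exact mul_right_cancel₀ hl0 (by linear_combination h2.1)
    have hw : ∀ w ∈ core Q e f, S.toAdd w = l • w := by
      intro w hw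
      obtain ⟨s₁, s₂, s₃, m₁, m₂, m₃, q₁, q₂, q₃, rfl⟩ := core_sing_decomp hQ h5 hp hw
      rw [map_add, map_add, hcore _ m₁ q₁, hcore _ m₂ q₂, hcore _ m₃ q₃, smul_add, smul_add]
    have hall : ∀ v, S.toAdd v = l • v := by
      intro v
      obtain ⟨a, b, w, hwm, rfl⟩ : ∃ (a b : F) (w : V), w ∈ core Q e f ∧ v = a • e + b • f + w :=
        ⟨_, _, _, hp.proj_mem v, by abel⟩
      rw [map_add, map_add, S.map_smul', S.map_smul', hl, hf, hw w hwm, hτ, hτ]
      module
    refine ⟨Units.mk0 l hl0, (ext' (AddEquiv.ext hall) (RingEquiv.ext hτ) ?_).symm⟩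
    show S.c = l * l
    have h1 := S.map_Q' (e + f)
    rw [hall, Q_smul, Q_add, hp.left, hp.right, hp.pol, zero_add, zero_add, map_one, mul_one,
      mul_one] at h1
    exact h1.symm
  · rintro ⟨l, rfl⟩
    refine aut_ext fun g => ?_
    rw [autHom_apply, aut_toP, MulAut.one_apply]
    congr 1
    refine Subtype.ext (orth_ext fun v => ?_)
    show (l : F) • g.1.1 (((scalar (Q := Q) l).toAdd).symm v) = g.1.1 v
    rw [← map_smul]
    congr 1
    exact ((scalar (Q := Q) l).toAdd).apply_symm_apply v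

theorem card_mulAut_mul (p : ℕ) [Fact p.Prime] [CharP F p] (hQ : Nondeg Q)
    (h7 : 7 ≤ finrank F V) (h8 : NoTriality Q) :
    Nat.card (MulAut (PG Q)) * Nat.card Fˣ = Nat.card (Semisim Q) := by
  have hsurj : (autHom (Q := Q)).range = ⊤ := MonoidHom.range_eq_top.2 fun α => by
    obtain ⟨S, rfl⟩ := exists_semisim_aut p hQ h7 h8 α
    exact ⟨S, rfl⟩
  have : Nontrivial V := Module.nontrivial_of_finrank_pos (R := F) (by omega)
  have h1 := Subgroup.index_mul_card (autHom (Q := Q)).ker
  rw [Subgroup.index_ker, hsurj, Subgroup.card_top] at h1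
  rw [← h1, ker_autHom p hQ h7]
  congr 1
  exact Nat.card_congr (MonoidHom.ofInjective scalar_injective).toEquiv

end Cfsg.Agent.Lib.AutPOmega
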