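import Cfsg.Agent.Lib.AutPOmega.Lines

/-!
An automorphism of `PΩ` permutes totally singular lines and singular points, keeping incidence.
-/

set_option autoImplicit false

namespace Cfsg.Agent.Lib.AutPOmega

open Module QuadraticMap Cfsg.Agent.Lib.Forms Cfsg.Agent.Lib.OrthOmega

variable {F : Type*} [Field F] {V : Type*} [AddCommGroup V] [Module F V]
  {Q : QuadraticForm F V}

/-- Excludes the eight-dimensional hyperbolic space. -/
def NoTriality (Q : QuadraticForm F V) : Prop :=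
  finrank F V = 8 → ∀ U : Submodule F V, (∀ v ∈ U, Q v = 0) → finrank F U ≤ 3

/-- `Z` is adjacent to four given lines. -/
def Adj4 (Q : QuadraticForm F V) (L M N N' Z : Submodule F V) : Prop :=
  IsLine Q Z ∧ Adj Q Z L ∧ Adj Q Z M ∧ Adj Q Z N ∧ Adj Q Z N'

/-- The test for disjoint perpendicular pairs. -/
def CQ (Q : QuadraticForm F V) (L M : Submodule F V) : Prop :=
  ∃ N N' Z₁ Z₂ : Submodule F V, IsLine Q N ∧ IsLine Q N' ∧ Adj Q N L ∧ Adj Q N M ∧ Adj Q N' L ∧
    Adj Q N' M ∧ N ≠ N' ∧ ¬ Adj Q N N' ∧ Z₁ ≠ Z₂ ∧ Adj4 Q L M N N' Z₁ ∧ Adj4 Q L M N N' Z₂ ∧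
    ∀ Z, Adj4 Q L M N N' Z → Z = Z₁ ∨ Z = Z₂

theorem ne_of_mem_not_perp {U U' : Submodule F V} (hU : IsLine Q U) {x y : V} (hx : x ∈ U')
    (h : ∃ z ∈ U, polar Q x z ≠ 0) (hy : y = x) : U ≠ U' := by
  subst hy
  rintro rfl
  obtain ⟨z, hz, hne⟩ := h
  exact hne (hU.perp hx hz)

theorem sing_span {k : ℕ} {v : Fin k → V} (hq : ∀ i, Q (v i) = 0)
    (hp : ∀ i j, polar Q (v i) (v j) = 0) {x : V} (hx : x ∈ Submodule.span F (Set.range v)) :
    Q x = 0 := by
  have h1 : ∀ i, Submodule.span F (Set.range v) ≤ LinearMap.ker (polarBilin Q (v i)) := fun i => by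
    rw [Submodule.span_le]
    rintro _ ⟨j, rfl⟩
    exact hp i j
  have h2 : ∀ {y z : V}, y ∈ Submodule.span F (Set.range v) →
      z ∈ Submodule.span F (Set.range v) → polar Q y z = 0 := by
    intro y z hy hz
    have : Submodule.span F (Set.range v) ≤ LinearMap.ker (polarBilin Q z) := by
      rw [Submodule.span_le]
      rintro _ ⟨i, rfl⟩
      exact (polar_comm Q z (v i)).trans (h1 i hz)
    exact (polar_comm Q y z).trans (this hy)
  induction hx using Submodule.span_induction with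
  | mem y hy => obtain ⟨i, rfl⟩ := hy; exact hq i
  | zero => exact map_zero Q
  | add y z hy hz hy' hz' => rw [Q_add, hy', hz', h2 hy hz, add_zero, add_zero]
  | smul r y _ hy' => rw [Q_smul, hy', mul_zero]

variable [Finite F] [FiniteDimensional F V]

omit [Finite F] in
theorem two_mul_finrank_le (hQ : Nondeg Q) {k : ℕ} {v : Fin k → V} (hv : LinearIndependent F v)
    (hp : ∀ i j, polar Q (v i) (v j) = 0) : 2 * k ≤ finrank F V := by
  let T : V →ₗ[F] (Fin k → F) := LinearMap.pi fun i => polarBilin Q (v i)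
  have hT : LinearMap.range T = ⊤ := LinearMap.range_eq_top.2 fun r => by
    obtain ⟨x, hx⟩ := exists_dual hQ hv r
    exact ⟨x, funext hx⟩
  have h1 : Submodule.span F (Set.range v) ≤ LinearMap.ker T := by
    rw [Submodule.span_le]
    rintro _ ⟨j, rfl⟩
    exact funext fun i => hp i j
  have h2 := Submodule.finrank_mono h1
  rw [finrank_span_eq_card hv, Fintype.card_fin] at h2
  have h3 := LinearMap.finrank_range_add_finrank_ker T
  rw [hT, finrank_top, Module.finrank_fintype_fun_eq_card, Fintype.card_fin] at h3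
  omega

theorem cq_of_perp {L M : Submodule F V} (hL : IsLine Q L) (hM : IsLine Q M)
    (hperp : Perp Q L M) (hmeet : ¬ Meet L M) : CQ Q L M := by
  obtain ⟨a, haL, ha0⟩ := hL.exists_ne_zero
  obtain ⟨b, hbL, hab, -⟩ := hL.exists_pair haL ha0
  obtain ⟨c, hcM, hc0⟩ := hM.exists_ne_zero
  obtain ⟨d, hdM, hcd, -⟩ := hM.exists_pair hcM hc0
  have hsep : ∀ {x y : V}, x ∈ L → y ∈ M → x + y = 0 → x = 0 ∧ y = 0 := by
    intro x y hx hy hxy
    have hx0 : x = 0 := by
      by_contra hx0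
      exact hmeet ⟨x, hx0, hx, by rw [eq_neg_of_add_eq_zero_left hxy]; exact M.neg_mem hy⟩
    exact ⟨hx0, by rwa [hx0, zero_add] at hxy⟩
  have cross : ∀ {x y : V}, x ∈ L → y ∈ M → x ≠ 0 → y ≠ 0 → LPair Q x y := by
    intro x y hx hy hx0 hy0
    refine ⟨hL.sing x hx, hM.sing y hy, hperp x hx y hy, LinearIndependent.pair_iff.2
      fun s t hst => ?_⟩
    obtain ⟨h1, h2⟩ := hsep (L.smul_mem s hx) (M.smul_mem t hy) hst
    exact ⟨(smul_eq_zero.1 h1).resolve_right hx0, (smul_eq_zero.1 h2).resolve_right hy0⟩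
  have adjL : ∀ {x y : V} (_ : x ∈ L) (_ : y ∈ M) (_ : x ≠ 0) (_ : y ≠ 0),
      Adj Q (Submodule.span F {x, y}) L ∧ Adj Q (Submodule.span F {x, y}) M := by
    intro x y hx hy hx0 hy0
    refine ⟨⟨fun h => hmeet ⟨y, hy0, h ▸ mem_right x y, hy⟩, ⟨x, hx0, mem_left x y, hx⟩, ?_⟩,
      ⟨fun h => hmeet ⟨x, hx0, hx, h ▸ mem_left x y⟩, ⟨y, hy0, mem_right x y, hy⟩, ?_⟩⟩
    · intro u hu v hv
      obtain ⟨s, t, rfl⟩ := Submodule.mem_span_pair.1 hu
      simp [polar_add_left, polar_smul_left, hL.perp hx hv, hperp.symm y hy v hv]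
    · intro u hu v hv
      obtain ⟨s, t, rfl⟩ := Submodule.mem_span_pair.1 hu
      simp [polar_add_left, polar_smul_left, hM.perp hy hv, hperp x hx v hv]
  have pperp : ∀ {x y x' y' : V}, x ∈ L → y ∈ M → x' ∈ L → y' ∈ M →
      Perp Q (Submodule.span F {x, y}) (Submodule.span F {x', y'}) := fun hx hy hx' hy' =>
    perp_span_pair (hL.perp hx hx') (hperp _ hx _ hy') (hperp.symm _ hy _ hx') (hM.perp hy hy')
  have hcross : ∀ {x y x' y' : V}, x ∈ L → y ∈ M → x' ∈ L → y' ∈ M → x' ≠ 0 →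
      x' ∈ Submodule.span F ({x, y} : Set V) → ∃ s : F, x' = s • x := by
    intro x y x' y' hx hy hx' hy' hx'0 h
    obtain ⟨s, t, hst⟩ := Submodule.mem_span_pair.1 h
    refine ⟨s, ?_⟩
    have := (hsep (L.sub_mem (L.smul_mem s hx) hx') (M.smul_mem t hy)
      (by rw [← hst]; abel)).1
    exact (sub_eq_zero.1 this).symm
  have hcross' : ∀ {x y y' : V}, x ∈ L → y ∈ M → y' ∈ M →
      y' ∈ Submodule.span F ({x, y} : Set V) → ∃ t : F, y' = t • y := by
    intro x y y' hx hy hy' h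
    obtain ⟨s, t, hst⟩ := Submodule.mem_span_pair.1 h
    refine ⟨t, ?_⟩
    have := (hsep (L.smul_mem s hx) (M.sub_mem (M.smul_mem t hy) hy')
      (by rw [← hst]; abel)).2
    exact (sub_eq_zero.1 this).symm
  have hac := cross haL hcM ha0 hc0
  have hbd := cross hbL hdM hab.ne' hcd.ne'
  have had := cross haL hdM ha0 hcd.ne'
  have hbc := cross hbL hcM hab.ne' hc0
  have adj4 : ∀ {x y : V}, x ∈ L → y ∈ M → x ≠ 0 → y ≠ 0 →
      Submodule.span F ({x, y} : Set V) ≠ Submodule.span F {a, c} →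
      Submodule.span F ({x, y} : Set V) ≠ Submodule.span F {b, d} →
      Meet (Submodule.span F ({x, y} : Set V)) (Submodule.span F {a, c}) →
      Meet (Submodule.span F ({x, y} : Set V)) (Submodule.span F {b, d}) →
      Adj4 Q L M (Submodule.span F {a, c}) (Submodule.span F {b, d}) (Submodule.span F {x, y}) :=
    fun hx hy hx0 hy0 h1 h2 h3 h4 => ⟨(cross hx hy hx0 hy0).isLine, (adjL hx hy hx0 hy0).1,
      (adjL hx hy hx0 hy0).2, ⟨h1, h3, pperp hx hy haL hcM⟩, ⟨h2, h4, pperp hx hy hbL hdM⟩⟩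
  have nab := not_mem_of_ind hab.ind
  have ncd := not_mem_of_ind hcd.ind
  refine ⟨_, _, _, _, hac.isLine, hbd.isLine, (adjL haL hcM ha0 hc0).1, (adjL haL hcM ha0 hc0).2,
    (adjL hbL hdM hab.ne' hcd.ne').1, (adjL hbL hdM hab.ne' hcd.ne').2, ?_, ?_, ?_,
    adj4 haL hdM ha0 hcd.ne' ?_ ?_ ⟨a, ha0, mem_left a d, mem_left a c⟩
      ⟨d, hcd.ne', mem_right a d, mem_right b d⟩,
    adj4 hbL hcM hab.ne' hc0 ?_ ?_ ⟨c, hc0, mem_right b c, mem_right a c⟩
      ⟨b, hab.ne', mem_left b c, mem_left b d⟩, ?_⟩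
  · intro h
    obtain ⟨s, hs⟩ := hcross haL hcM hbL hdM hab.ne' (h ▸ mem_left b d)
    exact nab s hs
  · rintro ⟨-, ⟨v, hv0, hv1, hv2⟩, -⟩
    obtain ⟨s, t, rfl⟩ := Submodule.mem_span_pair.1 hv1
    obtain ⟨s', t', hst⟩ := Submodule.mem_span_pair.1 hv2
    obtain ⟨h1, h2⟩ := hsep (L.sub_mem (L.smul_mem s haL) (L.smul_mem s' hbL))
      (M.sub_mem (M.smul_mem t hcM) (M.smul_mem t' hdM))
      (by rw [← sub_eq_zero] at hst; rw [← neg_eq_zero.2 hst]; abel)
    rw [sub_eq_add_neg, ← neg_smul] at h1 h2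
    obtain ⟨hs, -⟩ := LinearIndependent.pair_iff.1 hab.ind _ _ h1
    obtain ⟨ht, -⟩ := LinearIndependent.pair_iff.1 hcd.ind _ _ h2
    exact hv0 (by rw [hs, ht, zero_smul, zero_smul, add_zero])
  · intro h
    obtain ⟨s, hs⟩ := hcross haL hdM hbL hcM hab.ne' (h ▸ mem_left b c)
    exact nab s hs
  · intro h
    obtain ⟨t, ht⟩ := hcross' haL hcM hdM (h ▸ mem_right a d)
    exact ncd t ht
  · intro h
    obtain ⟨s, hs⟩ := hcross haL hdM hbL hdM hab.ne' (h.symm ▸ mem_left b d)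
    exact nab s hs
  · intro h
    obtain ⟨s, hs⟩ := hcross haL hcM hbL hcM hab.ne' (h ▸ mem_left b c)
    exact nab s hs
  · intro h
    obtain ⟨t, ht⟩ := hcross' hbL hcM hdM (h.symm ▸ mem_right b d)
    exact ncd t ht
  · rintro Z ⟨hZ, ⟨hZL, hmL, -⟩, ⟨hZM, hmM, -⟩, ⟨-, hmN, -⟩, ⟨-, hmN', -⟩⟩
    obtain ⟨l, hl0, hlZ, hlL⟩ := hmL
    obtain ⟨m, hm0, hmZ, hmM⟩ := hmM
    have hZs : Submodule.span F {l, m} = Z := hZ.span_eq (cross hlL hmM hl0 hm0) hlZ hmZ
    have pick : ∀ {x y : V}, x ∈ L → y ∈ M → Meet Z (Submodule.span F {x, y}) → x ∈ Z ∨ y ∈ Z := by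
      rintro x y hx hy ⟨v, hv0, hvZ, hv⟩
      obtain ⟨s, t, rfl⟩ := Submodule.mem_span_pair.1 hv
      rw [← hZs] at hvZ
      obtain ⟨s', t', hst⟩ := Submodule.mem_span_pair.1 hvZ
      obtain ⟨h1, h2⟩ := hsep (L.sub_mem (L.smul_mem s' hlL) (L.smul_mem s hx))
        (M.sub_mem (M.smul_mem t' hmM) (M.smul_mem t hy))
        (by rw [← sub_eq_zero] at hst; rw [← hst]; abel)
      by_cases hs : s = 0
      · right
        have ht : t ≠ 0 := fun h => hv0 (by rw [hs, h, zero_smul, zero_smul, add_zero])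
        rw [← inv_smul_smul₀ ht y, ← sub_eq_zero.1 h2]
        exact Z.smul_mem _ (Z.smul_mem _ hmZ)
      · left
        rw [← inv_smul_smul₀ hs x, ← sub_eq_zero.1 h1]
        exact Z.smul_mem _ (Z.smul_mem _ hlZ)
    rcases pick haL hcM hmN with ha | hc <;> rcases pick hbL hdM hmN' with hb | hd
    · exact absurd ((hZ.span_eq hab ha hb).symm.trans (hL.span_eq hab haL hbL)) hZL
    · exact Or.inl (hZ.span_eq had ha hd).symm
    · exact Or.inr (hZ.span_eq hbc hb hc).symm
    · exact absurd ((hZ.span_eq hcd hc hd).symm.trans (hM.span_eq hcd hcM hdM)) hZM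

/-- A line meeting both lines of a crossing pair passes through their common point. -/
theorem star {L M : Submodule F V} (hL : IsLine Q L) (hM : IsLine Q M) (hP : PType Q L M) {a : V}
    (ha0 : a ≠ 0) (haL : a ∈ L) (haM : a ∈ M) {K : Submodule F V} (hK : IsLine Q K) :
    a ∈ K ↔ Meet K L ∧ Meet K M := by
  refine ⟨fun h => ⟨⟨a, ha0, h, haL⟩, ⟨a, ha0, h, haM⟩⟩, ?_⟩
  rintro ⟨⟨l, hl0, hlK, hlL⟩, ⟨m, hm0, hmK, hmM⟩⟩
  obtain ⟨u, -, hu, hLu⟩ := hL.exists_pair haL ha0
  obtain ⟨b, -, hb, hMb⟩ := hM.exists_pair haM ha0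
  have hub : polar Q u b ≠ 0 := fun h => hP.2 (by
    rw [← hLu, ← hMb]; exact perp_span_pair hu.spair.self hb.perp hu.spair.perp' h)
  rw [← hLu] at hlL
  rw [← hMb] at hmM
  obtain ⟨s, t, rfl⟩ := Submodule.mem_span_pair.1 hlL
  obtain ⟨s', t', rfl⟩ := Submodule.mem_span_pair.1 hmM
  have h := hK.perp hlK hmK
  simp only [polar_add_left, polar_add_right, polar_smul_left, polar_smul_right, hu.spair.self,
    hb.perp, hu.spair.perp', smul_eq_mul, mul_zero, zero_add, mul_eq_zero, or_iff_left hub] at h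
  rcases h with ht | ht
  · first
    | rw [ht, zero_smul, add_zero] at hl0 hlK
      rw [← inv_smul_smul₀ (fun h : s = 0 => hl0 (by rw [h, zero_smul])) a]
      exact K.smul_mem _ hlK
    | rw [ht, zero_smul, add_zero] at hm0 hmK
      rw [← inv_smul_smul₀ (fun h : s' = 0 => hm0 (by rw [h, zero_smul])) a]
      exact K.smul_mem _ hmK
  · first
    | rw [ht, zero_smul, add_zero] at hl0 hlK
      rw [← inv_smul_smul₀ (fun h : s = 0 => hl0 (by rw [h, zero_smul])) a]
      exact K.smul_mem _ hlK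
    | rw [ht, zero_smul, add_zero] at hm0 hmK
      rw [← inv_smul_smul₀ (fun h : s' = 0 => hm0 (by rw [h, zero_smul])) a]
      exact K.smul_mem _ hmK

theorem not_cq_of_ptype (hQ : Nondeg Q) (h7 : 7 ≤ finrank F V) (h8 : NoTriality Q)
    {L M : Submodule F V} (hL : IsLine Q L) (hM : IsLine Q M) (hP : PType Q L M) :
    ¬ CQ Q L M := by
  rintro ⟨N, N', Z₁, Z₂, hN, hN', hNL, hNM, hN'L, hN'M, hne, hnadj, hZne, hZ₁, hZ₂, hall⟩
  obtain ⟨a, ha0, haL, haM⟩ := hP.1
  have thru : ∀ {K}, IsLine Q K → Adj Q K L → Adj Q K M → a ∈ K := fun hK h1 h2 =>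
    (star hL hM hP ha0 haL haM hK).2 ⟨h1.2.1, h2.2.1⟩
  obtain ⟨u, huL, hu, hLu⟩ := hL.exists_pair haL ha0
  obtain ⟨b, hbM, hb, hMb⟩ := hM.exists_pair haM ha0
  have hub : polar Q u b ≠ 0 := fun h => hP.2 (by
    rw [← hLu, ← hMb]; exact perp_span_pair hu.spair.self hb.perp hu.spair.perp' h)
  have haN := thru hN hNL hNM
  have haN' := thru hN' hN'L hN'M
  obtain ⟨c, hcN, hc, hNc⟩ := hN.exists_pair haN ha0
  obtain ⟨d, hdN, hd, hN'd⟩ := hN'.exists_pair haN' ha0
  have hcd : polar Q c d ≠ 0 := fun h => hnadj ⟨hne, ⟨a, ha0, haN, haN'⟩, by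
    rw [← hNc, ← hN'd]; exact perp_span_pair hc.spair.self hd.perp hc.spair.perp' h⟩
  have get : ∀ {Z}, Adj4 Q L M N N' Z → ∃ w, LPair Q a w ∧ Submodule.span F {a, w} = Z ∧
      polar Q u w = 0 ∧ polar Q b w = 0 ∧ polar Q c w = 0 ∧ polar Q d w = 0 := by
    rintro Z ⟨hZ, h1, h2, h3, h4⟩
    obtain ⟨w, hwZ, hw, hZw⟩ := hZ.exists_pair (thru hZ h1 h2) ha0
    exact ⟨w, hw, hZw, h1.2.2.symm u huL w hwZ, h2.2.2.symm b hbM w hwZ,
      h3.2.2.symm c hcN w hwZ, h4.2.2.symm d hdN w hwZ⟩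
  obtain ⟨w₁, hw₁, hZw₁, hu₁, hb₁, hc₁, hd₁⟩ := get hZ₁
  obtain ⟨w₂, hw₂, hZw₂, hu₂, hb₂, hc₂, hd₂⟩ := get hZ₂
  have third : ∀ {x : V}, LPair Q a x → polar Q u x = 0 → polar Q b x = 0 → polar Q c x = 0 →
      polar Q d x = 0 → x ∈ Submodule.span F ({a, w₁} : Set V) ∨
        x ∈ Submodule.span F ({a, w₂} : Set V) := by
    intro x hx h1 h2 h3 h4
    have hxp : ∀ {K : Submodule F V} {y : V}, Submodule.span F {a, y} = K → polar Q a y = 0 →
        polar Q y x = 0 → Perp Q (Submodule.span F {a, x}) K := fun hK hay hyx =>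
      hK ▸ perp_span_pair hx.spair.self hay hx.spair.perp' ((polar_comm Q _ _).trans hyx)
    have hxi : ∀ {K : Submodule F V} {y z : V}, y ∈ K → polar Q z y ≠ 0 → polar Q a z = 0 →
        polar Q z x = 0 → Submodule.span F ({a, x} : Set V) ≠ K := by
      intro K y z hy hzy haz hzx h
      rw [← h] at hy
      obtain ⟨s, t, rfl⟩ := Submodule.mem_span_pair.1 hy
      apply hzy
      rw [polar_add_right, polar_smul_right, polar_smul_right, polar_comm Q z a, haz, hzx]
      simp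
    rcases hall (Submodule.span F {a, x}) ⟨hx.isLine,
      ⟨hxi huL (by rwa [polar_comm]) hb.perp h2, ⟨a, ha0, mem_left a x, haL⟩, hxp hLu hu.perp h1⟩,
      ⟨hxi hbM hub hu.perp h1, ⟨a, ha0, mem_left a x, haM⟩, hxp hMb hb.perp h2⟩,
      ⟨hxi hcN (by rwa [polar_comm]) hd.perp h4, ⟨a, ha0, mem_left a x, haN⟩, hxp hNc hc.perp h3⟩,
      ⟨hxi hdN hcd hc.perp h3, ⟨a, ha0, mem_left a x, haN'⟩, hxp hN'd hd.perp h4⟩⟩ with h | h
    · left; rw [hZw₁, ← h]; exact mem_right a x
    · right; rw [hZw₂, ← h]; exact mem_right a x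
  have h12 : w₂ ∉ Submodule.span F ({a, w₁} : Set V) := fun h =>
    hZne (by rw [← hZw₁, ← hZw₂]; exact (hw₁.isLine.span_eq hw₂ (mem_left a w₁) h).symm)
  have h21 : w₁ ∉ Submodule.span F ({a, w₂} : Set V) := fun h =>
    hZne (by rw [← hZw₁, ← hZw₂]; exact hw₂.isLine.span_eq hw₁ (mem_left a w₂) h)
  by_cases hww : polar Q w₁ w₂ = 0
  · have hl : LPair Q a (w₁ + w₂) := ⟨hw₁.qa, by rw [Q_add, hw₁.qb, hw₂.qb, hww]; simp,
      (hw₁.spair.add hw₂.spair).perp, pair_ind ha0 fun h => by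
        apply h12
        obtain ⟨s, hs⟩ := Submodule.mem_span_singleton.1 h
        rw [show w₂ = s • a - w₁ by rw [hs, add_sub_cancel_left]]
        exact Submodule.sub_mem _ (Submodule.smul_mem _ _ (mem_left a w₁)) (mem_right a w₁)⟩
    rcases third hl (by rw [polar_add_right, hu₁, hu₂, add_zero])
      (by rw [polar_add_right, hb₁, hb₂, add_zero]) (by rw [polar_add_right, hc₁, hc₂, add_zero])
      (by rw [polar_add_right, hd₁, hd₂, add_zero]) with h | h
    · apply h12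
      have := Submodule.sub_mem _ h (mem_right a w₁)
      rwa [add_sub_cancel_left] at this
    · apply h21
      have := Submodule.sub_mem _ h (mem_right a w₂)
      rwa [add_sub_cancel_right] at this
  by_cases h9 : finrank F V ≤ 8
  · have hua : polar Q u a = 0 := hu.spair.perp'
    have hca : polar Q c a = 0 := hc.spair.perp'
    have hwa : polar Q w₁ a = 0 := hw₁.spair.perp'
    have huc : polar Q u c = 0 := hNL.2.2.symm u huL c hcN
    have hbc : polar Q b c = 0 := hNM.2.2.symm b hbM c hcN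
    have hdu : polar Q d u = 0 := hN'L.2.2 d hdN u huL
    have hs : ∀ i j : Fin 4, polar Q (![a, u, c, w₁] i) (![a, u, c, w₁] j) = 0 := by
      intro i j
      fin_cases i <;> fin_cases j <;>
        simp [hu.spair.self, hu.perp, hc.perp, hw₁.perp, hua, hca, hwa, huc, hu₁, hc₁,
          polar_self', hu.qb, hc.qb, hw₁.qb, polar_comm Q c u, polar_comm Q w₁ u, polar_comm Q w₁ c]
    have hind : LinearIndependent F ![a, u, c, w₁] := by
      rw [Fintype.linearIndependent_iff]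
      intro g hg
      rw [Fin.sum_univ_four] at hg
      simp only [Matrix.cons_val] at hg
      have g1 : g 1 = 0 := by
        have h1 := congrArg (polar Q b) hg
        simpa [polar_add_right, polar_smul_right, polar_comm Q b a, hb.perp, hbc, hb₁,
          polar_comm Q b u, hub] using h1
      have g2 : g 2 = 0 := by
        have h1 := congrArg (polar Q d) hg
        simpa [polar_add_right, polar_smul_right, polar_comm Q d a, hd.perp, hdu, hd₁,
          polar_comm Q d c, hcd] using h1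
      have g3 : g 3 = 0 := by
        have h1 := congrArg (polar Q w₂) hg
        simpa [polar_add_right, polar_smul_right, hw₂.spair.perp', g1, g2,
          polar_comm Q w₂ w₁, hww] using h1
      rw [g1, g2, g3, zero_smul, zero_smul, zero_smul, add_zero, add_zero, add_zero] at hg
      have g0 := (smul_eq_zero.1 hg).resolve_right ha0
      intro i; fin_cases i
      exacts [g0, g1, g2, g3]
    rcases Nat.lt_or_ge (finrank F V) 8 with hlt | hge
    · have := two_mul_finrank_le hQ hind hs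
      omega
    · have h4 := h8 (by omega) (Submodule.span F (Set.range ![a, u, c, w₁])) (fun v hv => sing_span (fun i => by
        fin_cases i
        exacts [hu.qa, hu.qb, hc.qb, hw₁.qb]) hs hv)
      rw [finrank_span_eq_card hind, Fintype.card_fin] at h4
      omega
  let T : V →ₗ[F] (Fin 5 → F) := LinearMap.pi fun i => polarBilin Q (![a, u, b, c, d] i)
  obtain ⟨k, hk, hkn⟩ : ∃ k ∈ LinearMap.ker T,
      k ∉ Submodule.span F (Set.range ![a, w₁, w₂]) := by
    by_contra hcon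
    push Not at hcon
    have h1 := Submodule.finrank_mono
      (show LinearMap.ker T ≤ Submodule.span F (Set.range ![a, w₁, w₂]) from hcon)
    have h2 := finrank_range_le_card (R := F) ![a, w₁, w₂]
    have h3 := LinearMap.finrank_range_add_finrank_ker T
    have h4 := Submodule.finrank_le (LinearMap.range T)
    rw [Module.finrank_fintype_fun_eq_card, Fintype.card_fin] at h4
    rw [Fintype.card_fin, Set.finrank] at h2
    omega
  have hk0 : ∀ i, polar Q (![a, u, b, c, d] i) k = 0 := fun i => congrFun hk i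
  have hka : polar Q a k = 0 := hk0 0
  have hku : polar Q u k = 0 := hk0 1
  have hkb : polar Q b k = 0 := hk0 2
  have hkc : polar Q c k = 0 := hk0 3
  have hkd : polar Q d k = 0 := hk0 4
  set γ := polar Q w₁ w₂ with hγ
  set k' := k - (polar Q w₂ k / γ) • w₁ - (polar Q w₁ k / γ) • w₂ with hk'
  set x := (-Q k' / γ) • w₁ + w₂ + k' with hx
  have hk1 : polar Q w₁ k' = 0 := by
    simp only [hk', polar_sub_right, polar_smul_right, polar_self', hw₁.qb, smul_eq_mul, ← hγ]
    field_simp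
    ring
  have hk2 : polar Q w₂ k' = 0 := by
    simp only [hk', polar_sub_right, polar_smul_right, polar_self', hw₂.qb, smul_eq_mul,
      polar_comm Q w₂ w₁, ← hγ]
    field_simp
    ring
  have hqx : Q x = 0 := by
    rw [hx, Q_add, Q_add, Q_smul, hw₁.qb, hw₂.qb, polar_add_left, polar_smul_left, polar_smul_left,
      hk1, hk2, ← hγ]
    simp only [smul_eq_mul, mul_zero, add_zero, zero_add]
    field_simp
    ring
  have hperp : ∀ z, polar Q z w₁ = 0 → polar Q z w₂ = 0 → polar Q z k = 0 → polar Q z x = 0 := by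
    intro z e₁ e₂ e₃
    simp [hx, hk', polar_add_right, polar_sub_right, polar_smul_right, e₁, e₂, e₃]
  have hkmem : x ∉ Submodule.span F ({a, w₁} : Set V) ∧
      x ∉ Submodule.span F ({a, w₂} : Set V) := by
    have hw : ∀ i : Fin 3, ![a, w₁, w₂] i ∈ Submodule.span F (Set.range ![a, w₁, w₂]) :=
      fun i => Submodule.subset_span ⟨i, rfl⟩
    have key : x ∉ Submodule.span F (Set.range ![a, w₁, w₂]) := fun h => hkn (by
      have e : k = x - (-Q k' / γ) • w₁ - w₂ + (polar Q w₂ k / γ) • w₁ +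
          (polar Q w₁ k / γ) • w₂ := by rw [hx, hk']; abel
      rw [e]
      exact add_mem (add_mem (sub_mem (sub_mem h (Submodule.smul_mem _ _ (hw 1))) (hw 2))
        (Submodule.smul_mem _ _ (hw 1))) (Submodule.smul_mem _ _ (hw 2)))
    constructor <;> intro h <;> apply key <;> revert h <;> apply Submodule.span_le.2 <;>
      rintro y (rfl | rfl)
    exacts [hw 0, hw 1, hw 0, hw 2]
  have hl : LPair Q a x := ⟨hw₁.qa, hqx, hperp a hw₁.perp hw₂.perp hka,
    pair_ind ha0 fun h => hkmem.1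
      (Submodule.span_mono (Set.singleton_subset_iff.2 (Set.mem_insert a {w₁})) h)⟩
  rcases third hl (hperp u hu₁ hu₂ hku) (hperp b hb₁ hb₂ hkb) (hperp c hc₁ hc₂ hkc)
    (hperp d hd₁ hd₂ hkd) with h | h
  · exact hkmem.1 h
  · exact hkmem.2 h

end Cfsg.Agent.Lib.AutPOmega
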