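import Cfsg.Agent.Lib.AutPOmega.Group
import Cfsg.Agent.Lib.AutPSL.Card
import Cfsg.Agent.Lib.AutPSL.Out

/-!
Semisimilarities of the three coordinate forms: field automorphisms, multipliers, orders.
-/

set_option autoImplicit false

namespace Cfsg.Agent.Lib.AutPOmega

open Module QuadraticMap Cfsg.Agent.Lib.Forms Cfsg.Agent.Lib.OrthOmega Cfsg.Agent.Lib.OrthStd
open scoped Matrix

variable {F : Type*} [Field F] {ι : Type} [Fintype ι] [DecidableEq ι]
  {Q : QuadraticForm F (ι → F)}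

namespace Semisim

/-- The coordinatewise field automorphism. -/
def ofField (Q : QuadraticForm F (ι → F)) (σ : F ≃+* F)
    (h : ∀ v : ι → F, Q (⇑σ ∘ v) = σ (Q v)) : Semisim Q where
  toAdd :=
    { toFun := fun v => ⇑σ ∘ v
      invFun := fun v => ⇑σ.symm ∘ v
      left_inv := fun v => funext fun i => σ.symm_apply_apply _
      right_inv := fun v => funext fun i => σ.apply_symm_apply _
      map_add' := fun u v => funext fun i => map_add σ _ _ }
  τ := σ
  c := 1
  c_ne := one_ne_zero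
  map_smul' t v := funext fun i => map_mul σ _ _
  map_Q' v := by
    rw [one_mul]; exact h v

theorem ofField_apply (σ : F ≃+* F) (h : ∀ v : ι → F, Q (⇑σ ∘ v) = σ (Q v)) (v : ι → F) :
    (ofField Q σ h).toAdd v = ⇑σ ∘ v := rfl

/-- A similarity from a linear equivalence. -/
def ofLin {V : Type*} [AddCommGroup V] [Module F V] {Q : QuadraticForm F V} (g : V ≃ₗ[F] V)
    (c : Fˣ) (h : ∀ v, Q (g v) = (c : F) * Q v) : Semisim Q where
  toAdd := g.toAddEquiv
  τ := RingEquiv.refl F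
  c := c
  c_ne := c.ne_zero
  map_smul' t v := map_smul g t v
  map_Q' v := h v

theorem det_mat_sq (hQ : Nondeg Q) (S : Semisim Q) (h : S ∈ similitudes Q) :
    (S.mat : Matrix ι ι F).det * (S.mat : Matrix ι ι F).det = S.c ^ Fintype.card ι := by
  set G := (S.mat : Matrix ι ι F) with hG
  have happ : ∀ v, G *ᵥ v = S.toAdd v := fun v => by
    rw [hG, mat_mulVec]
    congr 1
    funext i
    rw [mem_similitudes.1 h]
    rfl
  have hmul : Gᵀ * gram Q * G = S.c • gram Q := by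
    ext i j
    have h1 := S.map_polar (Pi.single i 1) (Pi.single j 1)
    rw [← happ, ← happ, tau_apply_of_mem h, polar_eq_gram, polar_eq_gram, Matrix.dotProduct_mulVec,
      Matrix.dotProduct_mulVec, ← Matrix.vecMul_transpose, Matrix.vecMul_vecMul,
      Matrix.dotProduct_mulVec, Matrix.vecMul_vecMul, ← Matrix.dotProduct_mulVec,
      ← Matrix.dotProduct_mulVec] at h1
    simpa [Matrix.mul_assoc] using h1
  have h2 := congrArg Matrix.det hmul
  rw [Matrix.det_mul, Matrix.det_mul, Matrix.det_transpose, Matrix.det_smul] at h2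
  apply mul_right_cancel₀ (gram_det_ne_zero hQ)
  linear_combination h2

end Semisim

open Semisim

/-- In odd dimension every multiplier is a square. -/
theorem mult_range_le_sq (hQ : Nondeg Q) (hodd : Odd (Fintype.card ι)) :
    (mult (Q := Q)).range ≤ (powMonoidHom 2 : Fˣ →* Fˣ).range := by
  rintro _ ⟨⟨S, hS⟩, rfl⟩
  obtain ⟨k, hk⟩ := hodd
  have h := det_mat_sq hQ S hS
  rw [hk, pow_succ] at h
  have hd : (S.mat : Matrix ι ι F).det ≠ 0 :=
    ((Matrix.isUnit_iff_isUnit_det _).1 S.mat.isUnit).ne_zero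
  refine ⟨Units.mk0 ((S.mat : Matrix ι ι F).det / S.c ^ k) (div_ne_zero hd (pow_ne_zero _ S.c_ne)),
    Units.ext ?_⟩
  show ((S.mat : Matrix ι ι F).det / S.c ^ k) ^ 2 = S.c
  rw [div_pow, div_eq_iff (pow_ne_zero _ (pow_ne_zero _ S.c_ne)), _root_.sq, h]
  ring

theorem sq_le_mult_range : (powMonoidHom 2 : Fˣ →* Fˣ).range ≤ (mult (Q := Q)).range := by
  rintro _ ⟨l, rfl⟩
  exact ⟨⟨scalar l, scalar_mem l⟩, Units.ext (_root_.sq (l : F)).symm⟩

theorem two_mul_card_sq [Finite F] (h2 : (2 : F) ≠ 0) :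
    2 * Nat.card (powMonoidHom 2 : Fˣ →* Fˣ).range = Nat.card Fˣ := by
  have hk : Nat.card (powMonoidHom 2 : Fˣ →* Fˣ).ker = 2 := by
    rw [Nat.card_eq_two_iff]
    refine ⟨1, ⟨-1, Units.ext (by simp)⟩, fun h => h2 ?_, Set.eq_univ_of_forall fun x => ?_⟩
    · have := congrArg (fun z : (powMonoidHom 2 : Fˣ →* Fˣ).ker => ((z : Fˣ) : F)) h
      simp at this
      linear_combination this
    · have h1 := congrArg Units.val (MonoidHom.mem_ker.1 x.2)
      simp only [powMonoidHom_apply, Units.val_pow_eq_pow_val, Units.val_one, sq_eq_one_iff] at h1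
      rcases h1 with h | h
      · exact Or.inl (Subtype.ext (Units.ext h))
      · exact Or.inr (Subtype.ext (Units.ext h))
  have h := Subgroup.index_mul_card (powMonoidHom 2 : Fˣ →* Fˣ).ker
  rw [Subgroup.index_ker, hk] at h
  rw [mul_comm]; exact h

/-! ### The odd form -/

theorem odd_field (m : ℕ) (σ : F ≃+* F) (v : Unit ⊕ (Fin m ⊕ Fin m) → F) :
    qOddC m F (⇑σ ∘ v) = σ (qOddC m F v) := by
  simp [← quadFormOdd_eq, Cfsg.quadFormOdd, map_sum]

theorem plus_field (m : ℕ) (σ : F ≃+* F) (v : Fin m ⊕ Fin m → F) :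
    qPlus m (⇑σ ∘ v) = σ (qPlus m v) := by
  simp [qPlus_apply, map_sum]

theorem mult_range_odd [Finite F] (m : ℕ) (h2 : (2 : F) ≠ 0) :
    (mult (Q := qOddC m F)).range = (powMonoidHom 2 : Fˣ →* Fˣ).range :=
  le_antisymm (mult_range_le_sq (qOddC_nondeg m h2) ⟨m, by simp; omega⟩) sq_le_mult_range

/-- Scaling the first halves of the hyperbolic pairs. -/
def plusScale (m : ℕ) (c : Fˣ) : (Fin m ⊕ Fin m → F) ≃ₗ[F] (Fin m ⊕ Fin m → F) where
  toFun v := Sum.elim (fun i => (c : F) * v (.inl i)) (fun i => v (.inr i))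
  map_add' u v := by funext j; rcases j with i | i <;> simp [mul_add]
  map_smul' t v := by funext j; rcases j with i | i <;> simp [mul_left_comm]
  invFun v := Sum.elim (fun i => ((c⁻¹ : Fˣ) : F) * v (.inl i)) (fun i => v (.inr i))
  left_inv v := by funext j; rcases j with i | i <;> simp
  right_inv v := by funext j; rcases j with i | i <;> simp

theorem qPlus_plusScale (m : ℕ) (c : Fˣ) (v : Fin m ⊕ Fin m → F) :
    qPlus m (plusScale m c v) = (c : F) * qPlus m v := by
  simp [qPlus_apply, plusScale, Finset.mul_sum, mul_assoc]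

theorem mult_range_plus (m : ℕ) : (mult (Q := qPlus (F := F) m)).range = ⊤ :=
  MonoidHom.range_eq_top.2 fun c =>
    ⟨⟨ofLin (plusScale m c) c (qPlus_plusScale m c), rfl⟩, Units.ext rfl⟩

/-! ### The minus form -/

/-- Multiplication by `u₁ + u₂θ` on the binary part, `θ² = aθ - b`. -/
def binMul (a b u₁ u₂ : F) : (Fin 2 → F) →ₗ[F] (Fin 2 → F) where
  toFun z := ![u₁ * z 0 - b * u₂ * z 1, u₁ * z 1 + u₂ * z 0 + a * u₂ * z 1]
  map_add' x y := by funext j; fin_cases j <;> simp <;> ring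
  map_smul' t x := by funext j; fin_cases j <;> simp <;> ring

theorem qBin_binMul (a b u₁ u₂ : F) (z : Fin 2 → F) :
    qBin a b (binMul a b u₁ u₂ z) = qBin a b ![u₁, u₂] * qBin a b z := by
  simp [qBin_apply, binMul]
  ring

theorem mult_range_minus [Finite F] (m : ℕ) {a b : F}
    (hab : ∀ z₁ z₂ : F, z₁ ^ 2 + a * z₁ * z₂ + b * z₂ ^ 2 = 0 → z₁ = 0 ∧ z₂ = 0) :
    (mult (Q := qMinusC m a b)).range = ⊤ := by
  refine MonoidHom.range_eq_top.2 fun c => ?_
  obtain ⟨u, hu⟩ := exists_Q_eq (qBin_nondeg hab)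
    (by rw [Module.finrank_fin_fun]) (c : F)
  let g : ((Fin m ⊕ Fin m) ⊕ Fin 2 → F) →ₗ[F] ((Fin m ⊕ Fin m) ⊕ Fin 2 → F) :=
    ((minusSplit m F).symm.toLinearMap.comp
      ((plusScale m c).toLinearMap.prodMap (binMul a b (u 0) (u 1)))).comp (minusSplit m F).toLinearMap
  have hg : ∀ v, qMinusC m a b (g v) = (c : F) * qMinusC m a b v := fun v => by
    have hu2 : qBin a b ![u 0, u 1] = c := by
      rw [show (![u 0, u 1] : Fin 2 → F) = u from funext fun j => by fin_cases j <;> rfl, hu]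
    show ((qPlus (F := F) m).prod (qBin a b)) (minusSplit m F (g v)) = _
    simp only [g, LinearMap.comp_apply, LinearEquiv.coe_coe, LinearEquiv.apply_symm_apply,
      LinearMap.prodMap_apply, QuadraticMap.prod_apply, qPlus_plusScale, qBin_binMul, hu2]
    rw [← mul_add]
    rfl
  have hinj : Function.Injective g := by
    refine (injective_iff_map_eq_zero g).2 fun v hv => qMinusC_nondeg m hab v fun y => ?_
    have h1 : (c : F) * polar (qMinusC m a b) v y = polar (qMinusC m a b) (g v) (g y) := by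
      simp only [polar, ← map_add, hg, mul_sub]
    rw [hv, polar_zero_left] at h1
    exact (mul_eq_zero.1 h1).resolve_left c.ne_zero
  exact ⟨⟨ofLin (LinearEquiv.ofBijective g
    ⟨hinj, LinearMap.surjective_of_injective hinj⟩) c hg, rfl⟩, Units.ext rfl⟩

/-- The Frobenius semilinear map of the binary part sends `(z₁, z₂)` to
`z₁ᵖ (1, 0) + z₂ᵖ (x, y)`. -/
theorem exists_binary_frobenius [Finite F] (p : ℕ) [Fact p.Prime] [CharP F p] {a b : F}
    (hab : ∀ z₁ z₂ : F, z₁ ^ 2 + a * z₁ * z₂ + b * z₂ ^ 2 = 0 → z₁ = 0 ∧ z₂ = 0) :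
    ∃ x y : F, y ≠ 0 ∧ 2 * x + a * y = a ^ p ∧ x ^ 2 + a * x * y + b * y ^ 2 = b ^ p ∧
      (p ≠ 2 → y ^ 2 = (a ^ 2 - 4 * b) ^ (p - 1) ∧ y = (a ^ 2 - 4 * b) ^ ((p - 1) / 2)) ∧
      (p = 2 → x = b ∧ y = a) := by
  rcases (Fact.out : p.Prime).eq_two_or_odd' with hp | hp
  · subst hp
    have h2 : (2 : F) = 0 := by exact_mod_cast CharP.cast_eq_zero F 2
    have ha : a ≠ 0 := fun ha => by
      obtain ⟨r, hr⟩ := exists_sqrt h2 b
      have := (hab r 1 (by rw [ha]; linear_combination hr + b * h2)).2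
      exact one_ne_zero this
    exact ⟨b, a, ha, by linear_combination b * h2, by linear_combination (a ^ 2 * b) * h2,
      fun h => absurd rfl h, fun _ => ⟨rfl, rfl⟩⟩
  · have hp2 : p ≠ 2 := fun h => by rw [h] at hp; exact absurd hp (by decide)
    have h2 : (2 : F) ≠ 0 := fun h => hp2 (by
      have : ((2 : ℕ) : F) = 0 := by exact_mod_cast h
      exact (Nat.prime_dvd_prime_iff_eq (Fact.out : p.Prime) Nat.prime_two).1
        ((CharP.cast_eq_zero_iff F p 2).1 this))
    set Δ := a ^ 2 - 4 * b with hΔ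
    have hΔ0 : Δ ≠ 0 := fun h => one_ne_zero (hab (-a / 2) 1 (by
      field_simp; rw [hΔ] at h; linear_combination -h)).2
    obtain ⟨k, hk⟩ := hp
    have hk' : (p - 1) / 2 = k := by omega
    set y := Δ ^ k with hy
    have hy2 : Δ * y ^ 2 = Δ ^ p := by rw [hy, ← pow_mul, hk]; ring
    have hfr : Δ ^ p = (a ^ p) ^ 2 - 4 * b ^ p := by
      rw [hΔ, sub_pow_char (p := p), mul_pow, ← pow_mul, mul_comm 2 p, pow_mul]
      congr 2
      have := map_natCast (frobenius F p) 4
      rw [frobenius_def] at this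
      exact_mod_cast this
    refine ⟨(a ^ p - a * y) / 2, y, pow_ne_zero _ hΔ0, by field_simp; ring, ?_,
      fun _ => ⟨?_, by rw [hk']⟩, fun h => absurd h hp2⟩
    · have h4 : (4 : F) ≠ 0 := by
        rw [show (4 : F) = 2 * 2 by norm_num]; exact mul_ne_zero h2 h2
      have h3 : Δ * y ^ 2 = (a ^ p) ^ 2 - 4 * b ^ p := hy2.trans hfr
      rw [hΔ] at h3
      field_simp
      linear_combination -h3
    · rw [hy, ← pow_mul, hk]; congr 1; omega

/-- The Frobenius semisimilarity of the minus form. -/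
theorem exists_minus_frobenius [Finite F] (m : ℕ) (p : ℕ) [Fact p.Prime] [CharP F p] {a b : F}
    (hab : ∀ z₁ z₂ : F, z₁ ^ 2 + a * z₁ * z₂ + b * z₂ ^ 2 = 0 → z₁ = 0 ∧ z₂ = 0) :
    ∃ (S : Semisim (qMinusC m a b)) (x y : F),
      (∀ t, S.τ t = t ^ p) ∧ S.c = 1 ∧ y ≠ 0 ∧
      (p ≠ 2 → y = (a ^ 2 - 4 * b) ^ ((p - 1) / 2)) ∧ (p = 2 → x = b ∧ y = a) ∧
      ∀ v, S.toAdd v = Sum.elim (fun i => v (.inl i) ^ p)
        ![v (.inr 0) ^ p + x * v (.inr 1) ^ p, y * v (.inr 1) ^ p] := by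
  obtain ⟨x, y, hy, h1, h2, h3, h4⟩ := exists_binary_frobenius p hab
  have hfrob : Function.Bijective (frobenius F p) :=
    Finite.injective_iff_bijective.1 (frobenius_inj F p)
  let G : ((Fin m ⊕ Fin m) ⊕ Fin 2 → F) → ((Fin m ⊕ Fin m) ⊕ Fin 2 → F) := fun v =>
    Sum.elim (fun i => v (.inl i) ^ p)
      ![v (.inr 0) ^ p + x * v (.inr 1) ^ p, y * v (.inr 1) ^ p]
  have hadd : ∀ u v, G (u + v) = G u + G v := fun u v => by
    funext j
    rcases j with i | j
    · simp [G, add_pow_char]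
    · fin_cases j <;> simp [G, add_pow_char, mul_add] <;> ring
  have hinj : Function.Injective G := by
    refine (injective_iff_map_eq_zero (AddMonoidHom.mk' G hadd)).2 fun v hv => ?_
    have hp0 : p ≠ 0 := (Fact.out : p.Prime).ne_zero
    have e1 : v (.inr 1) = 0 := by
      have := congrFun hv (.inr 1)
      simpa [G, hy, hp0] using this
    have e0 : v (.inr 0) = 0 := by
      have := congrFun hv (.inr 0)
      simpa [G, e1, hp0] using this
    funext j
    rcases j with i | j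
    · have := congrFun hv (.inl i)
      simpa [G, hp0] using this
    · fin_cases j <;> assumption
  let τ : F ≃+* F := RingEquiv.ofBijective (frobenius F p) hfrob
  have hτ : ∀ t, τ t = t ^ p := fun t => frobenius_def p t
  refine ⟨⟨AddEquiv.ofBijective (AddMonoidHom.mk' G hadd)
    ⟨hinj, (Finite.injective_iff_surjective (f := G)).1 hinj⟩, τ, 1, one_ne_zero, ?_, ?_⟩,
    x, y, hτ, rfl, hy, fun h => (h3 h).2, h4, fun v => rfl⟩
  · intro t v
    show G (t • v) = τ t • G v
    funext j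
    rcases j with i | j
    · simp [G, hτ, mul_pow]
    · fin_cases j <;> simp [G, hτ, mul_pow] <;> ring
  · intro v
    show qMinusC m a b (G v) = 1 * τ (qMinusC m a b v)
    rw [one_mul, ← quadFormMinus_eq, ← quadFormMinus_eq, Cfsg.quadFormMinus, Cfsg.quadFormMinus,
      map_add τ, map_sum, hτ]
    simp only [G, Sum.elim_inl, Sum.elim_inr, Matrix.cons_val_zero, Matrix.cons_val_one, hτ,
      mul_pow, add_pow_char, pow_right_comm _ 2 p]
    linear_combination ((v (.inr 0) ^ p) * (v (.inr 1) ^ p)) * h1 + ((v (.inr 1) ^ p) ^ 2) * h2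

theorem minus_tau_surjective [Finite F] (m : ℕ) {a b : F}
    (hab : ∀ z₁ z₂ : F, z₁ ^ 2 + a * z₁ * z₂ + b * z₂ ^ 2 = 0 → z₁ = 0 ∧ z₂ = 0) (σ : F ≃+* F) :
    ∃ S : Semisim (qMinusC m a b), S.τ = σ := by
  obtain ⟨p, hp⟩ := CharP.exists F
  have : Fact p.Prime := ⟨CharP.char_is_prime F p⟩
  obtain ⟨S, x, y, hτ, -⟩ := exists_minus_frobenius m p hab
  letI := ZMod.algebra F p
  have : Fintype F := Fintype.ofFinite F
  let e : F ≃ₐ[ZMod p] F := AlgEquiv.ofRingEquiv (f := σ) fun r =>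
    DFunLike.congr_fun (Subsingleton.elim (σ.toRingHom.comp (algebraMap (ZMod p) F))
      (algebraMap (ZMod p) F)) r
  obtain ⟨i, hi⟩ := (FiniteField.bijective_frobeniusAlgEquivOfAlgebraic_pow (ZMod p) F).2 e
  refine ⟨S ^ (i : ℕ), RingEquiv.ext fun t => ?_⟩
  have h1 : (τHom (S ^ (i : ℕ))) t = t ^ p ^ (i : ℕ) := by
    generalize (i : ℕ) = k
    induction k generalizing t with
    | zero => simp
    | succ k ih =>
      rw [pow_succ, map_mul]
      show τHom (S ^ k) (S.τ t) = _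
      rw [hτ, ih, ← pow_mul, pow_succ']
  rw [← τHom_apply, h1]
  have h2 := DFunLike.congr_fun hi t
  have h3 : ∀ (k : ℕ) (u : F), ((FiniteField.frobeniusAlgEquivOfAlgebraic (ZMod p) F) ^ k) u =
      u ^ p ^ k := by
    intro k
    induction k with
    | zero => simp
    | succ k ih =>
      intro u
      rw [pow_succ, AlgEquiv.mul_apply, ih]
      simp [FiniteField.coe_frobeniusAlgEquivOfAlgebraic, ZMod.card, ← pow_mul, pow_succ']
  rw [h3] at h2
  exact h2

/-! ### Orders -/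

section Cards

variable [Finite F] (p : ℕ) [Fact p.Prime] [CharP F p]

include p in
/-- The order formula. -/
theorem card_mulAut_pOmega (hQ : Nondeg Q) (h7 : 7 ≤ finrank F (ι → F)) (h8 : NoTriality Q)
    {f : (ι → F) → F} (hf : ∀ v, f v = Q v) (hsurj : ∀ σ : F ≃+* F, ∃ S : Semisim Q, S.τ = σ) :
    Nat.card (MulAut (Cfsg.POmega F f)) * Nat.card Fˣ =
      Nat.card (F ≃+* F) * (Nat.card (mult (Q := Q)).range *
        Nat.card (Cfsg.isometryGroup F f)) := by
  rw [Nat.card_congr (toPG hQ (by omega) hf).toEquiv, card_mulAut_mul p hQ h7 h8,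
    card_semisim hsurj, card_similitudes, Nat.card_congr (isoOrth Q hf).toEquiv]

end Cards

theorem card_isometry_odd [Fintype F] {q : ℕ} (hF : Fintype.card F = q) (hodd : Odd q) (m : ℕ)
    (hm : 2 ≤ m) :
    Nat.card (Cfsg.isometryGroup F (Cfsg.quadFormOdd m F)) =
      4 * Nat.card (Cfsg.POmega F (Cfsg.quadFormOdd m F)) := by
  have h1 := two_mul_card_pOmega_odd hF hodd m hm
  have h2 := card_orth_odd hF hodd m
  rw [mul_assoc] at h2
  rw [h2, ← h1]; ring

theorem card_isometry_minus [Fintype F] {q : ℕ} (hF : Fintype.card F = q) (m : ℕ) (hm : 3 ≤ m)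
    {a b : F} (hab : ∀ z₁ z₂ : F, z₁ ^ 2 + a * z₁ * z₂ + b * z₂ ^ 2 = 0 → z₁ = 0 ∧ z₂ = 0) :
    Nat.card (Cfsg.isometryGroup F (Cfsg.quadFormMinus (m - 1) F a b)) =
      2 * Nat.gcd 4 (q ^ m + 1) * Nat.card (Cfsg.POmega F (Cfsg.quadFormMinus (m - 1) F a b)) := by
  rw [mul_assoc, card_pOmega_minus hF m hm hab, card_orth_minus hF m (by omega) hab]
  ring

theorem card_isometry_plus [Fintype F] {q : ℕ} (hF : Fintype.card F = q) (m : ℕ) (hm : 3 ≤ m) :
    Nat.card (Cfsg.isometryGroup F (Cfsg.quadFormPlus m F)) =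
      2 * Nat.gcd 4 (q ^ m - 1) * Nat.card (Cfsg.POmega F (Cfsg.quadFormPlus m F)) := by
  rw [mul_assoc, card_pOmega_plus hF m hm, card_orth_plus hF m (by omega)]
  ring

end Cfsg.Agent.Lib.AutPOmega
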