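import Cfsg.Agent.Lib.AutPOmega.Parity
import Cfsg.Agent.Lib.AutPOmega.Models
import Cfsg.Prelude.Def_LieTypeDatum

/-!
The named subgroups `pgoAut`, `poAut`, `psoAut`, `inndiagPOmega*` of `Aut(PΩ)` as images of groups
of similarities.
-/

set_option autoImplicit false

namespace Cfsg.Agent.Lib.AutPOmega

open Module QuadraticMap Cfsg.Agent.Lib.Forms Cfsg.Agent.Lib.OrthOmega Cfsg.Agent.Lib.OrthStd
open Cfsg.Agent.Lib.Forms.MaxSingular Semisim
open scoped Matrix

variable {F : Type*} [Field F] {ι : Type} [Fintype ι] [DecidableEq ι]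
  {Q : QuadraticForm F (ι → F)} {f : (ι → F) → F}

/-- The action of semisimilarities on `PΩ`. -/
noncomputable def omegaAct [Finite F] (hQ : Nondeg Q) (h5 : 5 ≤ finrank F (ι → F))
    (hf : ∀ v, f v = Q v) : Semisim Q →* MulAut (Cfsg.POmega F f) :=
  (toPG hQ h5 hf).symm.toMonoidHom.comp autHom

theorem omegaAct_induced [Finite F] (hQ : Nondeg Q) (h5 : 5 ≤ finrank F (ι → F))
    (hf : ∀ v, f v = Q v) (S : Semisim Q) :
    Cfsg.IsInducedBySemilinearPOmega f S.mat S.τ (omegaAct hQ h5 hf S) :=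
  induced_mat hQ h5 hf S

theorem omegaAct_surjective [Finite F] (hQ : Nondeg Q) (h5 : 5 ≤ finrank F (ι → F))
    (h7 : 7 ≤ finrank F (ι → F)) (h8 : NoTriality Q) (hf : ∀ v, f v = Q v) :
    Function.Surjective (omegaAct hQ h5 hf) := by
  intro β
  obtain ⟨p, hchar⟩ := CharP.exists F
  have : Fact p.Prime := ⟨CharP.char_is_prime F p⟩
  obtain ⟨S, hS⟩ := exists_semisim_aut p hQ h7 h8 (toPG hQ h5 hf β)
  exact ⟨S, (toPG hQ h5 hf).symm_apply_eq.2 hS.symm⟩

theorem ker_omegaAct [Finite F] (hQ : Nondeg Q) (h5 : 5 ≤ finrank F (ι → F))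
    (h7 : 7 ≤ finrank F (ι → F)) (hf : ∀ v, f v = Q v) :
    (omegaAct hQ h5 hf).ker = (Semisim.scalar (Q := Q)).range := by
  obtain ⟨p, hchar⟩ := CharP.exists F
  have : Fact p.Prime := ⟨CharP.char_is_prime F p⟩
  rw [← ker_autHom p hQ h7]
  ext S
  simp only [omegaAct, MonoidHom.mem_ker, MonoidHom.comp_apply, MulEquiv.coe_toMonoidHom,
    map_eq_one_iff _ (toPG hQ h5 hf).symm.injective]

theorem conj_eq_omegaAct [Finite F] (hQ : Nondeg Q) (h5 : 5 ≤ finrank F (ι → F))
    (hf : ∀ v, f v = Q v) : Cfsg.Inn (Cfsg.POmega F f) =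
      ((EG Q).map Semisim.orthHom).map (omegaAct hQ h5 hf) := by
  have key : ∀ g : EG Q, omegaAct hQ h5 hf (Semisim.orthHom g.1) =
      MulAut.conj ((pOmegaEquiv Q hQ h5 hf).symm (toP g)) := by
    intro g
    show (toPG hQ h5 hf).symm (Semisim.ofOrth g.1).aut = _
    rw [← Semisim.conj_eq_aut, MulEquiv.symm_apply_eq]
    refine MulEquiv.ext fun x => ?_
    rw [toPG_apply, MulAut.conj_apply, MulAut.conj_apply, map_mul, map_mul, map_inv,
      MulEquiv.apply_symm_apply, MulEquiv.apply_symm_apply]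
  ext β
  constructor
  · rintro ⟨x, rfl⟩
    obtain ⟨g, hg⟩ := toP_surj (pOmegaEquiv Q hQ h5 hf x)
    refine ⟨Semisim.orthHom g.1, ⟨g.1, g.2, rfl⟩, ?_⟩
    rw [key, hg, MulEquiv.symm_apply_apply]
  · rintro ⟨_, ⟨g, hg, rfl⟩, rfl⟩
    exact ⟨_, (key ⟨g, hg⟩).symm⟩

namespace Semisim

/-- The similarity of a matrix of the similarity group. -/
noncomputable def ofGL (hf : ∀ v, f v = Q v) (g : Geo.quadSimilarityGroup (F := F) f) : Semisim Q :=
  ofPair hf g.1 (RingEquiv.refl F) (Classical.choose g.2) fun v => Classical.choose_spec g.2 v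

theorem ofGL_apply (hf : ∀ v, f v = Q v) (g : Geo.quadSimilarityGroup (F := F) f) (v : ι → F) :
    (ofGL hf g).toAdd v = (g.1 : Matrix ι ι F) *ᵥ v := rfl

theorem ofGL_mem (hf : ∀ v, f v = Q v) (g : Geo.quadSimilarityGroup (F := F) f) :
    ofGL hf g ∈ similitudes Q := rfl

theorem mat_mulVec_of_mem {S : Semisim Q} (h : S ∈ similitudes Q) (v : ι → F) :
    (S.mat : Matrix ι ι F) *ᵥ v = S.toAdd v := by
  rw [mat_mulVec]
  congr 1
  funext i
  rw [mem_similitudes.1 h]
  rfl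

theorem mat_ofGL (hf : ∀ v, f v = Q v) (g : Geo.quadSimilarityGroup (F := F) f) :
    (ofGL hf g).mat = g.1 :=
  Units.ext (Matrix.ext_of_mulVec_single fun i => by
    rw [mat_mulVec_of_mem (ofGL_mem hf g), ofGL_apply])

theorem mat_mem (hf : ∀ v, f v = Q v) {S : Semisim Q} (h : S ∈ similitudes Q) :
    S.mat ∈ Geo.quadSimilarityGroup (F := F) f :=
  ⟨Units.mk0 S.c S.c_ne, fun v => by
    rw [mat_mulVec_of_mem h, hf, hf, S.map_Q', tau_apply_of_mem h, Units.val_mk0]⟩

theorem mat_mul {S T : Semisim Q} (hS : S ∈ similitudes Q) (hT : T ∈ similitudes Q) :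
    (S * T).mat = S.mat * T.mat :=
  Units.ext (Matrix.ext_of_mulVec_single fun i => by
    rw [mat_mulVec_of_mem (mul_mem hS hT), Units.val_mul, ← Matrix.mulVec_mulVec,
      mat_mulVec_of_mem hT, mat_mulVec_of_mem hS]
    rfl)

theorem mat_orth_mem (hf : ∀ v, f v = Q v) (g : orth Q) :
    (orthHom g).mat ∈ Cfsg.isometryGroup F f := fun u _ => by
  show f ((orthHom g).mat.1 *ᵥ u) = f u
  rw [mat_mulVec_of_mem (orthHom_mem g), hf, hf, orthHom_apply, g.2]

end Semisim

theorem closure_eq_map [Finite F] (hQ : Nondeg Q) (h5 : 5 ≤ finrank F (ι → F))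
    (hf : ∀ v, f v = Q v) (P : GL ι F → Prop) (hP : ∀ g, P g → g ∈ Geo.quadSimilarityGroup (F := F) f)
    (H : Subgroup (Semisim Q)) (hH : H ≤ similitudes Q)
    (hiff : ∀ S ∈ similitudes Q, S ∈ H ↔ P S.mat) :
    Subgroup.closure {β : MulAut (Cfsg.POmega F f) | ∃ g, P g ∧
      Cfsg.IsInducedBySemilinearPOmega f g (RingEquiv.refl F) β} = H.map (omegaAct hQ h5 hf) := by
  refine le_antisymm ((Subgroup.closure_le _).2 ?_) ?_
  · rintro β ⟨g, hg, hβ⟩
    refine ⟨ofGL hf ⟨g, hP g hg⟩, (hiff _ (ofGL_mem hf _)).2 (by rwa [mat_ofGL]), ?_⟩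
    have h := (induced_iff hQ h5 hf (ofGL hf ⟨g, hP g hg⟩) g (RingEquiv.refl F)
      (fun v => rfl) rfl β).1 hβ
    show (toPG hQ h5 hf).symm (autHom (ofGL hf ⟨g, hP g hg⟩)) = β
    rw [autHom_apply, ← h, MulEquiv.symm_apply_apply]
  · rintro β ⟨S, hS, rfl⟩
    refine Subgroup.subset_closure ⟨S.mat, (hiff S (hH hS)).1 hS, ?_⟩
    have h := omegaAct_induced hQ h5 hf S
    rwa [mem_similitudes.1 (hH hS)] at h

theorem pgoAut_eq [Finite F] (hQ : Nondeg Q) (h5 : 5 ≤ finrank F (ι → F))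
    (hf : ∀ v, f v = Q v) : Cfsg.pgoAut F f = (similitudes Q).map (omegaAct hQ h5 hf) :=
  closure_eq_map hQ h5 hf _ (fun _ h => h) _ le_rfl fun _ h => iff_of_true h (mat_mem hf h)

theorem orth_range_le : (orthHom (Q := Q)).range ≤ similitudes Q := by
  rintro _ ⟨g, rfl⟩; exact orthHom_mem g

theorem mem_orth_range_iff [Finite F] (hQ : Nondeg Q) (h5 : 5 ≤ finrank F (ι → F))
    (hf : ∀ v, f v = Q v) {S : Semisim Q} (hS : S ∈ similitudes Q) :
    S ∈ (orthHom (Q := Q)).range ↔ S.mat ∈ Cfsg.isometryGroup F f := by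
  constructor
  · rintro ⟨g, rfl⟩; exact mat_orth_mem hf g
  · intro h
    obtain ⟨v, hv⟩ := exists_Q_eq hQ (by omega) (1 : F)
    have h1 : f ((S.mat : Matrix ι ι F) *ᵥ v) = f v := h v v
    rw [mat_mulVec_of_mem hS, hf, hf, S.map_Q', hv, map_one, mul_one] at h1
    obtain ⟨g, rfl⟩ := exists_orth hS h1
    exact ⟨g, rfl⟩

theorem poAut_eq [Finite F] (hQ : Nondeg Q) (h5 : 5 ≤ finrank F (ι → F))
    (hf : ∀ v, f v = Q v) : Cfsg.poAut F f = (orthHom (Q := Q)).range.map (omegaAct hQ h5 hf) :=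
  closure_eq_map hQ h5 hf _ (fun g h => ⟨1, fun v => by
    rw [Units.val_one, one_mul]; exact h v v⟩) _ orth_range_le fun _ h => mem_orth_range_iff hQ h5 hf h

theorem det_orth (hQ : Nondeg Q) (h : (∃ a : F, a ≠ 0 ∧ a ≠ 1) ∨ finrank F (ι → F) ≠ 4)
    (g : orth Q) : LinearEquiv.det g.1 = negOnePow F (dicksonHom hQ h g) := by
  have he : LinearEquiv.det.comp (orth Q).subtype = (negOnePow F).comp (dicksonHom hQ h) := by
    refine MonoidHom.eq_of_eqOn_dense (closure_reflSet hQ h) ?_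
    rintro _ ⟨v, hv, rfl⟩
    rw [MonoidHom.comp_apply, MonoidHom.comp_apply, dicksonHom_orefl hQ h hv]
    apply Units.ext
    show ((LinearEquiv.det (refl Q v) : Fˣ) : F) = _
    rw [LinearEquiv.coe_det, ← LinearMap.det_toMatrix']
    have hm : LinearMap.toMatrix' (refl Q v).toLinearMap = Cfsg.reflectionMatrix (⇑Q) v :=
      Matrix.ext_of_mulVec_single fun i => by
        rw [reflectionMatrix_mulVec, LinearMap.toMatrix'_mulVec]
        rfl
    rw [hm, det_reflectionMatrix Q hv]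
    show _ = ((if Multiplicative.ofAdd (1 : ZMod 2) = 1 then (1 : Fˣ) else -1 : Fˣ) : F)
    rw [if_neg (by decide)]
    simp
  exact DFunLike.congr_fun he g

theorem det_mat_orth (g : orth Q) :
    ((orthHom g).mat : Matrix ι ι F).det = (LinearEquiv.det g.1 : Fˣ) := by
  rw [LinearEquiv.coe_det, ← LinearMap.det_toMatrix']
  congr 1

theorem det_mat_scalar (l : Fˣ) :
    ((scalar (Q := Q) l).mat : Matrix ι ι F).det = (l : F) ^ Fintype.card ι := by
  have h : ((scalar (Q := Q) l).mat : Matrix ι ι F) = (l : F) • (1 : Matrix ι ι F) :=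
    Matrix.ext_of_mulVec_single fun i => by
      rw [mat_mulVec_of_mem (scalar_mem l), Matrix.smul_mulVec, Matrix.one_mulVec]
      rfl
  rw [h, Matrix.det_smul, Matrix.det_one, mul_one]

/-! ### Hyperbolic forms -/

section Hyp

variable [Finite F] (hQ : Nondeg Q) {m : ℕ} (hV : finrank F (ι → F) = 2 * m)
  {U : Submodule F (ι → F)} (hU : IsMax Q m U)

theorem isMax_iff (hf : ∀ v, f v = Q v) (hQ : Nondeg Q) (hV : finrank F (ι → F) = 2 * m)
    (hU : IsMax Q m U) (W : Submodule F (ι → F)) :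
    Cfsg.IsMaxTotallySingular f W ↔ IsMax Q m W := by
  constructor
  · rintro ⟨h1, h2⟩
    have h1' : ∀ w ∈ W, Q w = 0 := fun w hw => (hf w).symm.trans (h1 w hw)
    have h3 := Forms.two_mul_finrank_le hQ W h1'
    refine ⟨?_, h1'⟩
    rw [← hU.1]
    exact finrank_eq_of_maximal hQ W U h1' hU.2
      (fun X hWX hX => h2 X (fun x hx => (hf x).trans (hX x hx)) hWX) (by rw [hU.1]; omega)
  · intro h
    refine ⟨fun w hw => (hf w).trans (h.2 w hw), fun X hX hWX => ?_⟩
    have h3 := Forms.two_mul_finrank_le hQ X fun x hx => (hf x).symm.trans (hX x hx)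
    exact (Submodule.eq_of_le_of_finrank_le hWX (by rw [h.1]; omega)).symm

theorem preserves_iff (hf : ∀ v, f v = Q v) (hQ : Nondeg Q) (hV : finrank F (ι → F) = 2 * m)
    (hU : IsMax Q m U) {S : Semisim Q} (hS : S ∈ similitudes Q) :
    Cfsg.PreservesSingularClasses f (S.mat : Matrix ι ι F) ↔ famHom hQ hV hU S = 1 := by
  have himg : ∀ W, Cfsg.imageSubmodule (S.mat : Matrix ι ι F) W = S.mapSub W := fun W => by
    ext v
    rw [mem_mapSub]
    constructor
    · rintro ⟨w, hw, rfl⟩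
      rwa [Matrix.toLin'_apply, mat_mulVec_of_mem hS, AddEquiv.symm_apply_apply]
    · exact fun h => ⟨_, h, by
        rw [Matrix.toLin'_apply, mat_mulVec_of_mem hS, AddEquiv.apply_symm_apply]⟩
  constructor
  · intro h
    have h1 := h U ((isMax_iff hf hQ hV hU U).2 hU)
    rw [Cfsg.SameParityClass, himg, hU.1] at h1
    exact famHom_eq_one.2 h1
  · intro h W hW
    have hW' := (isMax_iff hf hQ hV hU W).1 hW
    rw [Cfsg.SameParityClass, himg, hW'.1]
    exact (famHom_indep hW').1 h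

theorem det_plusScale (m : ℕ) (c : Fˣ) :
    LinearMap.det (plusScale m c).toLinearMap = (c : F) ^ m := by
  rw [← LinearMap.det_toMatrix']
  have h : LinearMap.toMatrix' (plusScale m c).toLinearMap =
      Matrix.diagonal (Sum.elim (fun _ : Fin m => (c : F)) fun _ : Fin m => 1) :=
    Matrix.ext_of_mulVec_single fun i => by
      funext j
      rw [LinearMap.toMatrix'_mulVec, Matrix.mulVec_diagonal]
      rcases j with j | j <;> simp [plusScale]
  rw [h, Matrix.det_diagonal, Fintype.prod_sum_type]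
  simp

include hQ hV hU in
/-- In odd characteristic the parity of a similarity is read off from its determinant. -/
theorem famHom_det (h2 : (2 : F) ≠ 0) (e : Q.IsometryEquiv (qPlus (F := F) m)) {S : Semisim Q}
    (hS : S ∈ similitudes Q) :
    famHom hQ hV hU S = 1 ↔ (S.mat : Matrix ι ι F).det = S.c ^ m := by
  have h01 : (∃ a : F, a ≠ 0 ∧ a ≠ 1) ∨ finrank F (ι → F) ≠ 4 := Or.inl (exists_ne01 h2)
  set c : Fˣ := Units.mk0 S.c S.c_ne with hc
  set g := e.toLinearEquiv.trans ((plusScale m c).trans e.toLinearEquiv.symm) with hg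
  have hgQ : ∀ v, Q (g v) = (c : F) * Q v := fun v => by
    rw [← e.map_app, ← e.map_app v, ← qPlus_plusScale]
    exact congrArg (qPlus m) (e.toLinearEquiv.apply_symm_apply _)
  set D : Semisim Q := ofLin g c hgQ with hD
  have hDs : D ∈ similitudes Q := rfl
  obtain ⟨h, hh⟩ : ∃ h, D⁻¹ * S = orthHom h := exists_orth (mul_mem (inv_mem hDs) hS) (by
    show D.τ.symm D.c⁻¹ * D.τ.symm S.c = 1
    rw [← map_mul, show D.c = S.c from rfl, inv_mul_cancel₀ S.c_ne, map_one])
  have hSD : S = D * orthHom h := by rw [← hh, mul_inv_cancel_left]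
  have hfam : famHom hQ hV hU D = 1 := by
    set W := (stdX F m).comap e.toLinearEquiv.toLinearMap with hWdef
    have hW : IsMax Q m W := ⟨by
      rw [hWdef, Submodule.comap_equiv_eq_map_symm, LinearEquiv.finrank_map_eq, isMax_stdX.1],
      fun w hw => by rw [← e.map_app]; exact isMax_stdX.2 _ hw⟩
    rw [famHom_indep hW]
    have hle : W ≤ D.mapSub W := fun v hv => by
      show e.toLinearEquiv (g.symm v) ∈ stdX F m
      have hv' : e.toLinearEquiv v ∈ stdX F m := hv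
      rw [hg]
      simp only [LinearEquiv.trans_symm, LinearEquiv.symm_symm, LinearEquiv.trans_apply,
        LinearEquiv.apply_symm_apply]
      simp only [stdX, Submodule.mem_iInf, LinearMap.mem_ker, LinearMap.proj_apply] at hv' ⊢
      intro i
      exact hv' i
    rw [inf_eq_left.2 hle, hW.1, Nat.sub_self]
    exact ⟨0, rfl⟩
  have hdetD : (D.mat : Matrix ι ι F).det = S.c ^ m := by
    have h1 : (D.mat : Matrix ι ι F) = LinearMap.toMatrix' g.toLinearMap :=
      Matrix.ext_of_mulVec_single fun i => by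
        rw [mat_mulVec_of_mem hDs, LinearMap.toMatrix'_mulVec]; rfl
    rw [h1, LinearMap.det_toMatrix']
    have h2 : g.toLinearMap = (e.toLinearEquiv.symm : _ →ₗ[F] _) ∘ₗ (plusScale m c).toLinearMap ∘ₗ
        (e.toLinearEquiv.symm.symm : _ →ₗ[F] _) := by
      ext v; rfl
    rw [h2, LinearMap.det_conj, det_plusScale]
    rfl
  rw [hSD, map_mul, hfam, one_mul, mat_mul hDs (orthHom_mem h), Units.val_mul, Matrix.det_mul,
    hdetD, famHom_orth hQ hV hU h01, det_mat_orth, det_orth hQ h01]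
  have hc' : (D * orthHom h).c = S.c := by rw [← hSD]
  rw [hc']
  rcases mult_zmod2_cases (dicksonHom hQ h01 h) with hd | hd <;> rw [hd]
  · simp
  · refine iff_of_false (by decide) fun h3 => h2 ?_
    have h4 : S.c ^ m * (-1) = S.c ^ m * 1 := by
      rw [mul_one]
      refine Eq.trans ?_ h3
      show _ = S.c ^ m * ((if Multiplicative.ofAdd (1 : ZMod 2) = 1 then (1 : Fˣ) else -1 : Fˣ) : F)
      rw [if_neg (by decide)]
      simp
    linear_combination -(mul_left_cancel₀ (pow_ne_zero m S.c_ne) h4)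

end Hyp

/-- The proper similarities of a hyperbolic form. -/
noncomputable def properPlus [Finite F] (hQ : Nondeg Q) {m : ℕ}
    (hV : finrank F (ι → F) = 2 * m) {U : Submodule F (ι → F)} (hU : IsMax Q m U) :
    Subgroup (Semisim Q) := similitudes Q ⊓ (famHom hQ hV hU).ker

theorem inndiagPOmegaOdd_eq [Finite F] (m : ℕ) (h2 : (2 : F) ≠ 0)
    (h5 : 5 ≤ finrank F (Unit ⊕ (Fin m ⊕ Fin m) → F)) :
    Cfsg.inndiagPOmegaOdd m F =
      (similitudes (qOddC m F)).map (omegaAct (qOddC_nondeg m h2) h5 (quadFormOdd_eq m)) :=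
  closure_eq_map _ h5 _ _ (fun _ h => h) _ le_rfl fun _ h =>
    iff_of_true h (mat_mem (quadFormOdd_eq m) h)

theorem inndiagPOmegaPlus_eq [Finite F] (m : ℕ) (h5 : 5 ≤ finrank F (Fin m ⊕ Fin m → F)) :
    Cfsg.inndiagPOmegaPlus m F =
      (properPlus (qPlus_nondeg m) finrank_space (isMax_stdX (F := F) (m := m))).map
        (omegaAct (qPlus_nondeg m) h5 (quadFormPlus_eq m)) := by
  refine Eq.trans ?_ (closure_eq_map (qPlus_nondeg m) h5 (quadFormPlus_eq m)
    (fun g => g ∈ Geo.quadSimilarityGroup (F := F) (Cfsg.quadFormPlus m F) ∧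
      Cfsg.PreservesSingularClasses (Cfsg.quadFormPlus m F) (g : Matrix _ _ F))
    (fun g h => h.1) _ inf_le_left fun S hS => ?_)
  · show Subgroup.closure _ = Subgroup.closure _
    congr 1
    ext β
    exact ⟨fun ⟨g, h1, h2, h3⟩ => ⟨g, ⟨h1, h2⟩, h3⟩, fun ⟨g, ⟨h1, h2⟩, h3⟩ => ⟨g, h1, h2, h3⟩⟩
  · rw [preserves_iff (quadFormPlus_eq m) (qPlus_nondeg m) finrank_space isMax_stdX hS]
    exact ⟨fun h => ⟨mat_mem (quadFormPlus_eq m) hS, h.2⟩, fun h => ⟨hS, h.2⟩⟩

end Cfsg.Agent.Lib.AutPOmega
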