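import Cfsg.Agent.Lib.AutPOmega.InnDiag

/-!
Proper similarities of the minus form, read over a quadratic extension.
-/

set_option autoImplicit false

namespace Cfsg.Agent.Lib.AutPOmega

open Module QuadraticMap Cfsg.Agent.Lib.Forms Cfsg.Agent.Lib.OrthOmega Cfsg.Agent.Lib.OrthStd
open Cfsg.Agent.Lib.Forms.MaxSingular Semisim
open scoped Matrix

variable {F : Type*} [Field F] {ι : Type} [Fintype ι] [DecidableEq ι]

/-- Two quadratic forms with the same values on the standard basis and its pairs agree. -/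
theorem quad_ext {Q₁ Q₂ : QuadraticForm F (ι → F)}
    (h1 : ∀ i, Q₁ (Pi.single i 1) = Q₂ (Pi.single i 1))
    (h2 : ∀ i j, polar Q₁ (Pi.single i 1) (Pi.single j 1) =
      polar Q₂ (Pi.single i 1) (Pi.single j 1)) (v : ι → F) : Q₁ v = Q₂ v := by
  have hv : v = ∑ i, v i • (Pi.single i (1 : F) : ι → F) := pi_eq_sum_univ' v
  rw [hv, QuadraticMap.map_sum', QuadraticMap.map_sum']
  congr 1
  · refine Finset.sum_congr rfl fun ij _ => ?_
    induction ij using Sym2.ind with
    | h i j =>
      simp only [Sym2.map_mk, polarSym2_sym2Mk, polar_smul_left, polar_smul_right, h2]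
  · exact Finset.sum_congr rfl fun i _ => by rw [Q_smul, Q_smul, h1]

variable {K : Type*} [Field K]

theorem map_single (φ : F →+* K) (i : ι) :
    (⇑φ ∘ (Pi.single i (1 : F) : ι → F)) = Pi.single i (1 : K) := by
  funext j
  by_cases h : j = i
  · subst h; simp
  · simp [h]

variable {Q : QuadraticForm F (ι → F)} {Q' : QuadraticForm K (ι → K)} {φ : F →+* K}

theorem polar_map_field (hφ : ∀ v, Q' (⇑φ ∘ v) = φ (Q v)) (u v : ι → F) :
    polar Q' (⇑φ ∘ u) (⇑φ ∘ v) = φ (polar Q u v) := by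
  have h : (⇑φ ∘ u) + (⇑φ ∘ v) = ⇑φ ∘ (u + v) := funext fun i => (map_add φ _ _).symm
  simp only [polar, h, hφ, map_sub]

theorem mulVec_map_field (φ : F →+* K) (G : Matrix ι ι F) (v : ι → F) :
    G.map φ *ᵥ (⇑φ ∘ v) = ⇑φ ∘ (G *ᵥ v) := funext fun i => (RingHom.map_mulVec φ G v i).symm

namespace Semisim

theorem extQ (hφ : ∀ v, Q' (⇑φ ∘ v) = φ (Q v)) {S : Semisim Q} (hS : S ∈ similitudes Q)
    (w : ι → K) :
    Q' ((S.mat : Matrix ι ι F).map φ *ᵥ w) = φ S.c * Q' w := by
  have h := quad_ext (Q₁ := Q'.comp (Matrix.mulVecLin ((S.mat : Matrix ι ι F).map φ)))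
    (Q₂ := φ S.c • Q') (fun i => ?_) (fun i j => ?_) w
  · exact h
  · show Q' ((S.mat : Matrix ι ι F).map φ *ᵥ Pi.single i 1) = φ S.c * Q' (Pi.single i 1)
    rw [← map_single φ i, mulVec_map_field, hφ, hφ, mat_mulVec_of_mem hS, S.map_Q',
      tau_apply_of_mem hS, map_mul]
  · rw [show polar (⇑(φ S.c • Q')) (Pi.single i (1 : K)) (Pi.single j 1) =
        φ S.c * polar Q' (Pi.single i 1) (Pi.single j 1) by
      simp [polar, mul_sub]]
    show polar (fun w => Q' ((S.mat : Matrix ι ι F).map φ *ᵥ w)) _ _ = _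
    simp only [polar, Matrix.mulVec_add]
    show polar Q' ((S.mat : Matrix ι ι F).map φ *ᵥ Pi.single i 1)
      ((S.mat : Matrix ι ι F).map φ *ᵥ Pi.single j 1) = φ S.c * polar Q' _ _
    rw [← map_single φ i, ← map_single φ j, mulVec_map_field, mulVec_map_field,
      polar_map_field hφ, polar_map_field hφ, mat_mulVec_of_mem hS, mat_mulVec_of_mem hS,
      S.map_polar, tau_apply_of_mem hS, map_mul]

/-- Extension of similarities to a larger field. -/
noncomputable def extK (hφ : ∀ v, Q' (⇑φ ∘ v) = φ (Q v)) : similitudes Q →* Semisim Q' where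
  toFun S := ofPair (f := ⇑Q') (fun _ => rfl)
    ((Units.map φ.mapMatrix.toMonoidHom) S.1.mat) (RingEquiv.refl K)
    ((Units.map φ.toMonoidHom) (Units.mk0 S.1.c S.1.c_ne)) fun w => extQ hφ S.2 w
  map_one' := ext' (AddEquiv.ext fun w => by
    show ((1 : Semisim Q).mat : Matrix ι ι F).map φ *ᵥ w = w
    have h : ((1 : Semisim Q).mat : Matrix ι ι F) = 1 := Matrix.ext_of_mulVec_single fun i => by
      rw [mat_mulVec_of_mem (one_mem _), Matrix.one_mulVec, one_toAdd]
    rw [h, Matrix.map_one φ (map_zero φ) (map_one φ), Matrix.one_mulVec]) rfl (map_one φ)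
  map_mul' S T := ext' (AddEquiv.ext fun w => by
    show ((S.1 * T.1).mat : Matrix ι ι F).map φ *ᵥ w =
      (S.1.mat : Matrix ι ι F).map φ *ᵥ ((T.1.mat : Matrix ι ι F).map φ *ᵥ w)
    rw [mat_mul S.2 T.2, Units.val_mul, Matrix.map_mul, Matrix.mulVec_mulVec]) rfl (by
    show φ (S.1.c * S.1.τ T.1.c) = φ S.1.c * φ T.1.c
    rw [tau_apply_of_mem S.2, map_mul])

theorem extK_mem (hφ : ∀ v, Q' (⇑φ ∘ v) = φ (Q v)) (S : similitudes Q) :
    extK hφ S ∈ similitudes Q' := rfl

theorem extK_mat (hφ : ∀ v, Q' (⇑φ ∘ v) = φ (Q v)) (S : similitudes Q) :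
    ((extK hφ S).mat : Matrix ι ι K) = (S.1.mat : Matrix ι ι F).map φ :=
  Matrix.ext_of_mulVec_single fun i => by
    rw [mat_mulVec_of_mem (extK_mem hφ S)]
    rfl

theorem extK_orefl (hφ : ∀ v, Q' (⇑φ ∘ v) = φ (Q v)) (v : ι → F) :
    extK hφ ⟨orthHom (orefl Q v), orthHom_mem _⟩ = orthHom (orefl Q' (⇑φ ∘ v)) := by
  refine ext' (AddEquiv.ext fun w => ?_) rfl (map_one φ)
  show ((orthHom (orefl Q v)).mat : Matrix ι ι F).map φ *ᵥ w = refl Q' (⇑φ ∘ v) w
  rw [← reflectionMatrix_mulVec]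
  congr 1
  refine Matrix.ext_of_mulVec_single fun i => ?_
  rw [reflectionMatrix_mulVec, ← map_single φ i, mulVec_map_field,
    mat_mulVec_of_mem (orthHom_mem _), orthHom_apply, refl_apply, hφ, polar_map_field hφ]
  funext j
  show φ (refl Q v (Pi.single i 1) j) = _
  simp [refl_apply, map_inv₀]

end Semisim

open Semisim

/-! ### The minus form over a quadratic extension -/

section Minus

variable [Algebra F K] (m : ℕ) (a b : F)

theorem minus_field (v : (Fin m ⊕ Fin m) ⊕ Fin 2 → F) :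
    qMinusC m (algebraMap F K a) (algebraMap F K b) (⇑(algebraMap F K) ∘ v) =
      algebraMap F K (qMinusC m a b v) := by
  simp [← quadFormMinus_eq, Cfsg.quadFormMinus, map_sum]

theorem exists_root [Finite F] (hK : finrank F K = 2)
    (hab : ∀ z₁ z₂ : F, z₁ ^ 2 + a * z₁ * z₂ + b * z₂ ^ 2 = 0 → z₁ = 0 ∧ z₂ = 0) :
    ∃ r : K, r ^ 2 + algebraMap F K a * r + algebraMap F K b = 0 := by
  obtain ⟨p, hp⟩ := CharP.exists F
  have : Fact p.Prime := ⟨CharP.char_is_prime F p⟩
  set P : Polynomial F := Polynomial.X ^ 2 + Polynomial.C a * Polynomial.X + Polynomial.C b with hP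
  have hdeg : P.natDegree = 2 := by rw [hP]; compute_degree!
  have hmonic : P.Monic := by rw [hP]; monicity!
  have hirr : Irreducible P := by
    rw [hmonic.irreducible_iff_roots_eq_zero_of_degree_le_three (by omega) (by omega)]
    refine Multiset.eq_zero_of_forall_notMem fun x hx => ?_
    rw [Polynomial.mem_roots hmonic.ne_zero, hP] at hx
    simp at hx
    exact one_ne_zero (hab x 1 (by linear_combination hx)).2
  have : Fact (Irreducible P) := ⟨hirr⟩
  let e : AdjoinRoot P ≃ₐ[F] K :=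
    (FiniteField.algEquivExtension F p 2 (AdjoinRoot P)
      ((finrank_quotient_span_eq_natDegree (f := P)).trans hdeg)).trans
      (FiniteField.algEquivExtension F p 2 K hK).symm
  refine ⟨e (AdjoinRoot.root P), ?_⟩
  have h0 : Polynomial.aeval (AdjoinRoot.root P) P = 0 := by
    rw [AdjoinRoot.aeval_eq, AdjoinRoot.mk_self]
  have h1 := congrArg e h0
  rw [← Polynomial.aeval_algHom_apply, map_zero] at h1
  simpa [P] using h1

/-- Over a field where the binary part splits, the minus form is hyperbolic. -/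
theorem exists_hyperbolic {a b r : K} (hr : r ^ 2 + a * r + b = 0) (hd : 2 * r + a ≠ 0) :
    Nonempty ((qMinusC m a b).IsometryEquiv (qPlus (F := K) (m + 1))) := by
  let g : ((Fin m ⊕ Fin m) ⊕ Fin 2 → K) →ₗ[K] (Fin (m + 1) ⊕ Fin (m + 1) → K) :=
    LinearMap.pi (Sum.elim
      (Fin.cases (LinearMap.proj (Sum.inr 0) - r • LinearMap.proj (Sum.inr 1))
        fun i => LinearMap.proj (Sum.inl (Sum.inl i)))
      (Fin.cases (LinearMap.proj (Sum.inr 0) + (a + r) • LinearMap.proj (Sum.inr 1))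
        fun i => LinearMap.proj (Sum.inl (Sum.inr i))))
  have hg : ∀ v, qPlus (m + 1) (g v) = qMinusC m a b v := fun v => by
    rw [qPlus_apply, Fin.sum_univ_succ, ← quadFormMinus_eq, Cfsg.quadFormMinus]
    simp [g]
    linear_combination -(v (.inr 1) ^ 2) * hr
  have hinj : Function.Injective g := by
    refine (injective_iff_map_eq_zero g).2 fun v hv => ?_
    have h0 := congrFun hv (.inl 0)
    have h0' := congrFun hv (.inr 0)
    simp [g] at h0 h0'
    have h1 : v (.inr 1) = 0 :=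
      (mul_eq_zero.1 (by linear_combination h0' - h0 : (2 * r + a) * v (.inr 1) = 0)).resolve_left hd
    rw [h1, mul_zero, sub_zero] at h0
    funext j
    rcases j with (i | i) | j
    · simpa [g] using congrFun hv (.inl i.succ)
    · simpa [g] using congrFun hv (.inr i.succ)
    · fin_cases j <;> assumption
  have hfr : finrank K ((Fin m ⊕ Fin m) ⊕ Fin 2 → K) = finrank K (Fin (m + 1) ⊕ Fin (m + 1) → K) := by
    rw [finrank_fun, finrank_fun]; simp; ring
  exact ⟨{ LinearEquiv.ofBijective g ⟨hinj,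
      (LinearMap.injective_iff_surjective_of_finrank_eq_finrank hfr).1 hinj⟩ with
    map_app' := hg }⟩

theorem exists_hyperbolic_ext [Finite F] (hK : finrank F K = 2)
    (hab : ∀ z₁ z₂ : F, z₁ ^ 2 + a * z₁ * z₂ + b * z₂ ^ 2 = 0 → z₁ = 0 ∧ z₂ = 0) :
    Nonempty ((qMinusC m (algebraMap F K a) (algebraMap F K b)).IsometryEquiv
      (qPlus (F := K) (m + 1))) := by
  obtain ⟨r, hr⟩ := exists_root a b hK hab
  refine exists_hyperbolic m hr fun hd => ?_
  have h4 : algebraMap F K (a ^ 2 - 4 * b) = 0 := by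
    rw [map_sub, map_mul, map_pow, map_ofNat]
    linear_combination -4 * hr + (2 * r + algebraMap F K a) * hd
  rw [map_eq_zero] at h4
  by_cases h2 : (2 : F) = 0
  · have ha : a = 0 := by
      have h5 : a ^ 2 = 0 := by linear_combination h4 + 2 * b * h2
      exact pow_eq_zero_iff two_ne_zero |>.1 h5
    obtain ⟨s, hs⟩ := exists_sqrt h2 b
    exact one_ne_zero (hab s 1 (by rw [ha]; linear_combination hs + b * h2)).2
  · exact one_ne_zero (hab (-a / 2) 1 (by field_simp; linear_combination -h4)).2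

/-- A quadratic extension. -/
theorem exists_quadratic_extension.{u} (F : Type u) [Field F] [Finite F] :
    ∃ (K : Type u) (_ : Field K) (_ : Algebra F K), finrank F K = 2 := by
  obtain ⟨p, hp⟩ := CharP.exists F
  have : Fact p.Prime := ⟨CharP.char_is_prime F p⟩
  exact ⟨ULift.{u} (FiniteField.Extension F p 2), inferInstance, inferInstance,
    by rw [LinearEquiv.finrank_eq ULift.moduleEquiv, FiniteField.finrank_extension]⟩

end Minus

/-- The proper similarities of the minus form, judged in a given quadratic extension. -/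
def properMinusK (K : Type*) [Field K] [Algebra F K] (m : ℕ) (a b : F) (S : Semisim (qMinusC m a b)) :
    Prop :=
  Cfsg.PreservesSingularClasses (Cfsg.quadFormMinus m K (algebraMap F K a) (algebraMap F K b))
    ((S.mat : Matrix _ _ F).map (algebraMap F K))

section Char

variable [Finite F] {m : ℕ} {a b : F}
  (hab : ∀ z₁ z₂ : F, z₁ ^ 2 + a * z₁ * z₂ + b * z₂ ^ 2 = 0 → z₁ = 0 ∧ z₂ = 0)

omit [Finite F] in
theorem ne01_or (F : Type*) [Field F] (hm : 3 ≤ m) :
    (∃ x : F, x ≠ 0 ∧ x ≠ 1) ∨ finrank F ((Fin m ⊕ Fin m) ⊕ Fin 2 → F) ≠ 4 :=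
  Or.inr (by rw [finrank_fun]; simp; omega)

open Classical in
/-- The proper similarities of the minus form: the Dickson invariant in characteristic two, the
determinant otherwise. -/
noncomputable def properMinus (hm : 3 ≤ m) : Subgroup (Semisim (qMinusC m a b)) :=
  if (2 : F) = 0 then
    (scalar (Q := qMinusC m a b)).range ⊔
      ((dicksonHom (qMinusC_nondeg m hab) (ne01_or F hm)).ker).map orthHom
  else
    { carrier := {S | S ∈ similitudes (qMinusC m a b) ∧
        (S.mat : Matrix ((Fin m ⊕ Fin m) ⊕ Fin 2) ((Fin m ⊕ Fin m) ⊕ Fin 2) F).det = S.c ^ (m + 1)}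
      one_mem' := ⟨one_mem _, by
        have h : ((1 : Semisim (qMinusC m a b)).mat : Matrix ((Fin m ⊕ Fin m) ⊕ Fin 2) ((Fin m ⊕ Fin m) ⊕ Fin 2) F) = 1 :=
          Matrix.ext_of_mulVec_single fun i => by
            rw [mat_mulVec_of_mem (one_mem _), Matrix.one_mulVec, one_toAdd]
        rw [h, Matrix.det_one]
        exact (one_pow _).symm⟩
      mul_mem' := by
        rintro S T ⟨hS, hS'⟩ ⟨hT, hT'⟩
        refine ⟨mul_mem hS hT, ?_⟩
        rw [mat_mul hS hT, Units.val_mul, Matrix.det_mul, hS', hT', mul_c, tau_apply_of_mem hS,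
          mul_pow]
      inv_mem' := by
        rintro S ⟨hS, hS'⟩
        refine ⟨inv_mem hS, ?_⟩
        have h1 : (S.mat : Matrix ((Fin m ⊕ Fin m) ⊕ Fin 2) ((Fin m ⊕ Fin m) ⊕ Fin 2) F) * ((S⁻¹).mat : Matrix ((Fin m ⊕ Fin m) ⊕ Fin 2) ((Fin m ⊕ Fin m) ⊕ Fin 2) F) = 1 := by
          rw [← Units.val_mul, ← mat_mul hS (inv_mem hS), mul_inv_cancel]
          exact Matrix.ext_of_mulVec_single fun i => by
            rw [mat_mulVec_of_mem (one_mem _), Matrix.one_mulVec, one_toAdd]
        have h2 := congrArg Matrix.det h1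
        rw [Matrix.det_mul, hS', Matrix.det_one] at h2
        have h3 : S.c * S⁻¹.c = 1 := by
          have := congrArg Semisim.c (mul_inv_cancel S)
          rw [mul_c, tau_apply_of_mem hS] at this
          exact this
        apply mul_left_cancel₀ (pow_ne_zero (m + 1) S.c_ne)
        rw [h2, ← mul_pow, h3, one_pow] }

include hab in
theorem properMinus_le (hm : 3 ≤ m) :
    properMinus hab hm ≤ similitudes (qMinusC m a b) := by
  unfold properMinus
  split_ifs with h2
  · refine sup_le ?_ ?_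
    · rintro _ ⟨l, rfl⟩; exact scalar_mem l
    · rintro _ ⟨g, -, rfl⟩; exact orthHom_mem g
  · exact fun S hS => hS.1

include hab in
theorem properMinusK_iff (hm : 3 ≤ m) {K : Type*} [Field K] [Algebra F K] (hK : finrank F K = 2)
    {S : Semisim (qMinusC m a b)} (hS : S ∈ similitudes (qMinusC m a b)) :
    properMinusK K m a b S ↔ S ∈ properMinus hab hm := by
  have : Module.Finite F K := Module.finite_of_finrank_pos (by omega)
  have : Finite K := Module.finite_of_finite F
  have hinjK := (algebraMap F K).injective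
  obtain ⟨e⟩ := exists_hyperbolic_ext m a b hK hab
  have hQK : Nondeg (qMinusC m (algebraMap F K a) (algebraMap F K b)) :=
    (qPlus_nondeg (m + 1)).of_equiv e.symm
  have hV : finrank K ((Fin m ⊕ Fin m) ⊕ Fin 2 → K) = 2 * (m + 1) := by
    rw [finrank_fun]; simp; ring
  have hU : IsMax (qMinusC m (algebraMap F K a) (algebraMap F K b)) (m + 1)
      ((stdX K (m + 1)).comap e.toLinearEquiv.toLinearMap) := ⟨by
    rw [Submodule.comap_equiv_eq_map_symm, LinearEquiv.finrank_map_eq, isMax_stdX.1],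
    fun w hw => by rw [← e.map_app]; exact isMax_stdX.2 _ hw⟩
  set X := extK (minus_field (K := K) m a b)
  rw [properMinusK, ← extK_mat (minus_field (K := K) m a b) ⟨S, hS⟩,
    preserves_iff (quadFormMinus_eq m _ _) hQK hV hU (extK_mem _ _)]
  by_cases h2 : (2 : F) = 0
  · rw [properMinus, if_pos h2]
    have hdick : ∀ g : orth (qMinusC m a b), famHom hQK hV hU (X ⟨orthHom g, orthHom_mem g⟩) =
        dicksonHom (qMinusC_nondeg m hab) (ne01_or F hm) g := by
      intro g
      have he : ((famHom hQK hV hU).comp X).comp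
          (orthHom.codRestrict (similitudes (qMinusC m a b)) orthHom_mem) =
          dicksonHom (qMinusC_nondeg m hab) (ne01_or F hm) := by
        refine MonoidHom.eq_of_eqOn_dense (closure_reflSet (qMinusC_nondeg m hab) (ne01_or F hm)) ?_
        rintro _ ⟨v, hv, rfl⟩
        show famHom hQK hV hU (X ⟨orthHom (orefl _ v), _⟩) = _
        rw [extK_orefl, famHom_orefl hQK hV hU (by
          rw [minus_field]
          exact fun h0 => hv (hinjK (h0.trans (map_zero _).symm))), dicksonHom_orefl _ _ hv]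
      exact DFunLike.congr_fun he g
    have hscal : ∀ l : Fˣ, famHom hQK hV hU (X ⟨scalar l, scalar_mem l⟩) = 1 := by
      intro l
      have : X ⟨scalar l, scalar_mem l⟩ = scalar ((Units.map (algebraMap F K).toMonoidHom) l) := by
        refine ext' (AddEquiv.ext fun w => ?_) rfl (map_mul (algebraMap F K) _ _)
        show ((scalar (Q := qMinusC m a b) l).mat : Matrix ((Fin m ⊕ Fin m) ⊕ Fin 2) ((Fin m ⊕ Fin m) ⊕ Fin 2) F).map (algebraMap F K) *ᵥ w =
          algebraMap F K (l : F) • w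
        have hm' : ((scalar (Q := qMinusC m a b) l).mat : Matrix ((Fin m ⊕ Fin m) ⊕ Fin 2) ((Fin m ⊕ Fin m) ⊕ Fin 2) F) = (l : F) • 1 :=
          Matrix.ext_of_mulVec_single fun i => by
            rw [mat_mulVec_of_mem (scalar_mem l), Matrix.smul_mulVec, Matrix.one_mulVec]; rfl
        rw [hm']
        ext i
        simp [Matrix.mulVec, dotProduct, Matrix.one_apply, apply_ite (algebraMap F K)]
      rw [this, famHom_scalar]
    constructor
    · intro h
      obtain ⟨t, ht⟩ := exists_sqrt h2 S.c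
      have ht0 : t ≠ 0 := fun h0 => S.c_ne (by rw [← ht, h0, mul_zero])
      obtain ⟨g, hg⟩ : ∃ g, (scalar (Units.mk0 t ht0))⁻¹ * S = orthHom g :=
        exists_orth (mul_mem (inv_mem (scalar_mem _)) hS) (by
          show (t * t)⁻¹ * S.c = 1
          rw [ht, inv_mul_cancel₀ S.c_ne])
      have hSg : S = scalar (Units.mk0 t ht0) * orthHom g := by rw [← hg, mul_inv_cancel_left]
      subst hSg
      refine Subgroup.mul_mem_sup ⟨_, rfl⟩ ⟨g, ?_, rfl⟩
      rw [SetLike.mem_coe, MonoidHom.mem_ker, ← hdick]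
      rw [show (⟨scalar (Units.mk0 t ht0) * orthHom g, hS⟩ : similitudes (qMinusC m a b)) =
        ⟨_, scalar_mem _⟩ * ⟨_, orthHom_mem g⟩ from rfl, map_mul, map_mul, hscal, one_mul] at h
      exact h
    · intro h
      have hle : (scalar (Q := qMinusC m a b)).range ⊔
          ((dicksonHom (qMinusC_nondeg m hab) (ne01_or F hm)).ker).map orthHom ≤
          (((famHom hQK hV hU).comp X).ker).map (similitudes (qMinusC m a b)).subtype := by
        refine sup_le ?_ ?_
        · rintro _ ⟨l, rfl⟩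
          exact ⟨⟨_, scalar_mem l⟩, hscal l, rfl⟩
        · rintro _ ⟨g, hg, rfl⟩
          exact ⟨⟨_, orthHom_mem g⟩, (hdick g).trans hg, rfl⟩
      obtain ⟨x, hx, hxS⟩ := hle h
      have : x = ⟨S, hS⟩ := Subtype.ext hxS
      rw [this] at hx
      exact hx
  · have h2K : (2 : K) ≠ 0 := fun h => h2 (hinjK (by rw [map_ofNat, map_zero]; exact h))
    rw [famHom_det hQK hV hU h2K e (extK_mem _ _), properMinus, if_neg h2]
    show _ ↔ S ∈ similitudes _ ∧ _
    rw [and_iff_right hS, extK_mat, ← RingHom.mapMatrix_apply, ← RingHom.map_det]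
    show algebraMap F K _ = algebraMap F K S.c ^ (m + 1) ↔ _
    rw [← map_pow, hinjK.eq_iff]

end Char

theorem inndiagPOmegaMinus_eq [Finite F] {m : ℕ} (hm : 3 ≤ m) {a b : F}
    (hab : ∀ z₁ z₂ : F, z₁ ^ 2 + a * z₁ * z₂ + b * z₂ ^ 2 = 0 → z₁ = 0 ∧ z₂ = 0)
    (h5 : 5 ≤ finrank F ((Fin m ⊕ Fin m) ⊕ Fin 2 → F)) :
    Cfsg.inndiagPOmegaMinus m F a b = (properMinus hab hm).map
      (omegaAct (qMinusC_nondeg m hab) h5 (quadFormMinus_eq m a b)) := by
  refine Eq.trans ?_ (closure_eq_map (qMinusC_nondeg m hab) h5 (quadFormMinus_eq m a b)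
    (fun g => g ∈ Geo.quadSimilarityGroup (F := F) (Cfsg.quadFormMinus m F a b) ∧
      Cfsg.PreservesSingularClassesMinus m a b (g : Matrix ((Fin m ⊕ Fin m) ⊕ Fin 2) ((Fin m ⊕ Fin m) ⊕ Fin 2) F))
    (fun g h => h.1) _ (properMinus_le hab hm) fun S hS => ?_)
  · show Subgroup.closure _ = Subgroup.closure _
    congr 1
    ext β
    exact ⟨fun ⟨g, h1, h2, h3⟩ => ⟨g, ⟨h1, h2⟩, h3⟩, fun ⟨g, ⟨h1, h2⟩, h3⟩ => ⟨g, h1, h2, h3⟩⟩
  · constructor
    · intro h
      obtain ⟨K, iK, iA, hK⟩ := exists_quadratic_extension F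
      exact ⟨mat_mem (quadFormMinus_eq m a b) hS, K, iK, iA, hK,
        (properMinusK_iff hab hm hK hS).2 h⟩
    · rintro ⟨-, K, iK, iA, hK, h⟩
      exact (properMinusK_iff hab hm hK hS).1 h

end Cfsg.Agent.Lib.AutPOmega
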