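import Cfsg.Agent.Lib.AutPOmega.Root

/-!
Totally singular lines, and the relations between them read off from their root elements.
-/

set_option autoImplicit false

namespace Cfsg.Agent.Lib.AutPOmega

open Module QuadraticMap Cfsg.Agent.Lib.Forms Cfsg.Agent.Lib.OrthOmega

variable {F : Type*} [Field F] {V : Type*} [AddCommGroup V] [Module F V]
  {Q : QuadraticForm F V}

/-- A totally singular two-dimensional subspace. -/
structure IsLine (Q : QuadraticForm F V) (L : Submodule F V) : Prop where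
  fr : finrank F L = 2
  sing : ∀ v ∈ L, Q v = 0

/-- Two subspaces share a non-zero vector. -/
def Meet (L M : Submodule F V) : Prop := ∃ v, v ≠ 0 ∧ v ∈ L ∧ v ∈ M

/-- Two subspaces are perpendicular. -/
def Perp (Q : QuadraticForm F V) (L M : Submodule F V) : Prop := ∀ x ∈ L, ∀ y ∈ M, polar Q x y = 0

/-- Two different lines meeting and perpendicular. -/
def Adj (Q : QuadraticForm F V) (L M : Submodule F V) : Prop := L ≠ M ∧ Meet L M ∧ Perp Q L M

/-- Meeting and not perpendicular. -/
def PType (Q : QuadraticForm F V) (L M : Submodule F V) : Prop := Meet L M ∧ ¬ Perp Q L M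

theorem Meet.symm {L M : Submodule F V} (h : Meet L M) : Meet M L := by
  obtain ⟨v, h0, h1, h2⟩ := h
  exact ⟨v, h0, h2, h1⟩

theorem Perp.symm {L M : Submodule F V} (h : Perp Q L M) : Perp Q M L :=
  fun x hx y hy => (polar_comm Q x y).trans (h y hy x hx)

theorem mem_left (a b : V) : a ∈ Submodule.span F ({a, b} : Set V) :=
  Submodule.subset_span (Set.mem_insert a {b})

theorem mem_right (a b : V) : b ∈ Submodule.span F ({a, b} : Set V) :=
  Submodule.subset_span (Set.mem_insert_of_mem a rfl)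

theorem perp_span_pair {a b c d : V} (h1 : polar Q a c = 0) (h2 : polar Q a d = 0)
    (h3 : polar Q b c = 0) (h4 : polar Q b d = 0) :
    Perp Q (Submodule.span F {a, b}) (Submodule.span F {c, d}) := by
  intro x hx y hy
  obtain ⟨s, t, rfl⟩ := Submodule.mem_span_pair.1 hx
  obtain ⟨s', t', rfl⟩ := Submodule.mem_span_pair.1 hy
  simp [polar_add_left, polar_add_right, polar_smul_left, polar_smul_right, h1, h2, h3, h4]

theorem LPair.isLine {a b : V} (h : LPair Q a b) : IsLine Q (Submodule.span F {a, b}) := by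
  refine ⟨?_, fun v hv => sing_span_pair h.qa h.qb h.perp hv⟩
  have h1 := finrank_span_eq_card h.ind
  rwa [Matrix.range_cons_cons_empty, Fintype.card_fin] at h1

theorem IsLine.perp {L : Submodule F V} (hL : IsLine Q L) {x y : V} (hx : x ∈ L) (hy : y ∈ L) :
    polar Q x y = 0 := by
  rw [polar, hL.sing _ (L.add_mem hx hy), hL.sing x hx, hL.sing y hy, sub_zero, sub_zero]

theorem IsLine.exists_ne_zero {L : Submodule F V} (hL : IsLine Q L) : ∃ v ∈ L, v ≠ 0 := by
  refine Submodule.exists_mem_ne_zero_of_ne_bot fun h => ?_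
  have := hL.fr
  rw [h, finrank_bot] at this
  omega

theorem pair_ind {a b : V} (ha : a ≠ 0) (hb : b ∉ Submodule.span F {a}) :
    LinearIndependent F ![a, b] :=
  (LinearIndependent.pair_iff' ha).2 fun s h => hb (Submodule.mem_span_singleton.2 ⟨s, h⟩)

theorem not_mem_of_ind {a b : V} (h : LinearIndependent F ![a, b]) (s : F) : b ≠ s • a := fun e => by
  have := (LinearIndependent.pair_iff.1 h s (-1) (by rw [e, neg_one_smul, add_neg_cancel])).2
  exact one_ne_zero (neg_eq_zero.1 this)

section FD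

variable [FiniteDimensional F V]

theorem IsLine.eq_of_le {L M : Submodule F V} (hL : IsLine Q L) (hM : IsLine Q M) (h : L ≤ M) :
    L = M := Submodule.eq_of_le_of_finrank_eq h (by rw [hL.fr, hM.fr])

theorem IsLine.span_eq {L : Submodule F V} (hL : IsLine Q L) {a b : V} (h : LPair Q a b)
    (ha : a ∈ L) (hb : b ∈ L) : Submodule.span F {a, b} = L :=
  h.isLine.eq_of_le hL (Submodule.span_le.2 (by rintro x (rfl | rfl) <;> assumption))

theorem IsLine.exists_pair {L : Submodule F V} (hL : IsLine Q L) {a : V} (ha : a ∈ L)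
    (ha0 : a ≠ 0) : ∃ b ∈ L, LPair Q a b ∧ Submodule.span F {a, b} = L := by
  obtain ⟨b, hb, hb'⟩ : ∃ b ∈ L, b ∉ Submodule.span F {a} := by
    by_contra hc
    push Not at hc
    have h1 := Submodule.finrank_mono (show L ≤ Submodule.span F {a} from hc)
    rw [hL.fr, finrank_span_singleton ha0] at h1
    omega
  have h : LPair Q a b := ⟨hL.sing a ha, hL.sing b hb, hL.perp ha hb, pair_ind ha0 hb'⟩
  exact ⟨b, hb, h, hL.span_eq h ha hb⟩

theorem IsLine.mem_of_meet_two {L M : Submodule F V} (hL : IsLine Q L) (hM : IsLine Q M)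
    (hne : L ≠ M) {a v : V} (ha0 : a ≠ 0) (haL : a ∈ L) (haM : a ∈ M) (hvL : v ∈ L) (hvM : v ∈ M) :
    ∃ s : F, v = s • a := by
  by_contra hc
  push Not at hc
  have h : LPair Q a v := ⟨hL.sing a haL, hL.sing v hvL, hL.perp haL hvL,
    pair_ind ha0 fun h => by
      obtain ⟨s, hs⟩ := Submodule.mem_span_singleton.1 h
      exact hc s hs.symm⟩
  exact hne ((hL.span_eq h haL hvL).symm.trans (hM.span_eq h haM hvM))

end FD

/-- `x` is a root element of the line `L`. -/
def OnLine (Q : QuadraticForm F V) (L : Submodule F V) (x : PG Q) : Prop :=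
  ∃ (a b : V) (h : LPair Q a b), Submodule.span F {a, b} = L ∧ x = rt h

theorem OnLine.isLine {L : Submodule F V} {x : PG Q} (h : OnLine Q L x) : IsLine Q L := by
  obtain ⟨a, b, h, rfl, -⟩ := h
  exact h.isLine

theorem N_comb (a b : V) (s t s' t' : F) :
    N Q (s • a + t • b) (s' • a + t' • b) = (s * t' - t * s') • N Q a b := by
  refine LinearMap.ext fun x => ?_
  simp only [LinearMap.smul_apply, N_apply, polar_add_left, polar_smul_left, smul_eq_mul]
  module

theorem N_perp {a b y : V} (h1 : polar Q a y = 0) (h2 : polar Q b y = 0) : N Q a b y = 0 := by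
  rw [N_apply, h1, h2, zero_smul, zero_smul, sub_zero]

section Char

variable {p : ℕ} [Fact p.Prime] [CharP F p] [Finite F] [FiniteDimensional F V]
  (hQ : Nondeg Q) (h5 : 5 ≤ finrank F V)

theorem rho_eq_of_rt_eq (p : ℕ) [Fact p.Prime] [CharP F p] (hQ : Nondeg Q)
    (h5 : 5 ≤ finrank F V) {a b c d : V} (h : LPair Q a b) (k : LPair Q c d) (he : rt h = rt k) :
    rho h.spair = rho k.spair :=
  congrArg Subtype.val (toP_inj_of_pow (p := p) hQ h5 (i := 1) (j := 1)
    (by rw [pow_one]; exact rE_pow_char _) (by rw [pow_one]; exact rE_pow_char _) he)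

omit [Finite F] in
theorem exists_smul_of_onLine (hQ : Nondeg Q) {L : Submodule F V} {x : PG Q} (hx : OnLine Q L x)
    {a b : V} (hab : LPair Q a b) (hL : Submodule.span F {a, b} = L) :
    ∃ (d : F) (hs : SPair Q a (d • b)), d ≠ 0 ∧ x = toP (rE hs) := by
  obtain ⟨a', b', h, hspan, rfl⟩ := hx
  have ha := mem_left (F := F) a' b'
  have hb := mem_right (F := F) a' b'
  rw [hspan, ← hL] at ha hb
  obtain ⟨s, t, ha'⟩ := Submodule.mem_span_pair.1 ha
  obtain ⟨s', t', hb'⟩ := Submodule.mem_span_pair.1 hb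
  have hN : N Q a' b' = (s * t' - t * s') • N Q a b := by rw [← ha', ← hb', N_comb]
  refine ⟨s * t' - t * s', hab.spair.smul _, fun h0 => ?_, ?_⟩
  · rw [h0, zero_smul] at hN
    exact rho_ne_one hQ h (orth_ext fun v => by
      rw [rho_sing_apply _ h.qb, hN, LinearMap.zero_apply, add_zero]; rfl)
  · rw [rt]
    congr 1
    refine Subtype.ext (orth_ext fun v => ?_)
    show (rho h.spair).1 v = (rho (hab.spair.smul _)).1 v
    rw [rho_sing_apply _ h.qb, rho_sing_apply _ (by rw [Q_smul, hab.qb, mul_zero]), N_smul, hN]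

omit [Finite F] in
theorem IsLine.exists_onLine {L : Submodule F V} (hL : IsLine Q L) : ∃ x, OnLine Q L x := by
  obtain ⟨a, ha, ha0⟩ := hL.exists_ne_zero
  obtain ⟨b, -, h, hs⟩ := hL.exists_pair ha ha0
  exact ⟨rt h, a, b, h, hs, rfl⟩

include hQ h5

theorem OnLine.rootLike {L : Submodule F V} {x : PG Q} (h : OnLine Q L x) : RootLike p x := by
  obtain ⟨a, b, h, -, rfl⟩ := h
  exact rootLike_rt hQ h5 h

theorem OnLine.unique (p : ℕ) [Fact p.Prime] [CharP F p] {L M : Submodule F V} {x : PG Q}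
    (h : OnLine Q L x) (h' : OnLine Q M x) : L = M := by
  obtain ⟨a, b, h, rfl, rfl⟩ := h
  obtain ⟨c, d, h', rfl, he⟩ := h'
  exact span_eq_of_rho_eq hQ h h' (rho_eq_of_rt_eq p hQ h5 h h' he)

theorem exists_onLine_of_rootLike {x : PG Q} (hx : RootLike p x) : ∃ L, OnLine Q L x := by
  obtain ⟨a, b, h, rfl⟩ := exists_rt_of_rootLike hQ h5 hx
  exact ⟨_, a, b, h, rfl, rfl⟩

theorem commute_iff (p : ℕ) [Fact p.Prime] [CharP F p] {L M : Submodule F V} {x y : PG Q}
    (hx : OnLine Q L x) (hy : OnLine Q M y) : Commute x y ↔ Meet L M ∨ Perp Q L M := by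
  constructor
  · intro hc
    by_contra hne
    push Not at hne
    obtain ⟨a, b, h, rfl, rfl⟩ := hx
    obtain ⟨c, d, k, rfl, rfl⟩ := hy
    have hc' := congrArg Subtype.val (toP_commute (p := p) hQ h5 (j := 1)
      (by rw [pow_one]; exact rE_pow_char _) hc).eq
    have hzero : ∀ v, N Q a b (N Q c d v) = 0 := by
      intro v
      have h1 := congrArg (fun g : orth Q => g.1 v) hc'
      change (rho h.spair).1 ((rho k.spair).1 v) = (rho k.spair).1 ((rho h.spair).1 v) at h1
      simp only [rho_sing_apply _ h.qb, rho_sing_apply _ k.qb, map_add] at h1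
      have h2 : N Q a b (N Q c d v) = N Q c d (N Q a b v) := by
        rw [← sub_eq_zero] at h1 ⊢
        rw [← h1]; abel
      by_contra h0
      exact hne.1 ⟨_, h0, N_mem a b _, h2 ▸ N_mem c d _⟩
    apply hne.2
    have key : ∀ v, polar Q a (N Q c d v) = 0 ∧ polar Q b (N Q c d v) = 0 := fun v => by
      have h1 := hzero v
      rw [N_apply, sub_eq_add_neg, ← neg_smul] at h1
      have h2 := LinearIndependent.pair_iff.1 h.ind _ _ ((add_comm _ _).trans h1)
      exact ⟨h2.2, neg_eq_zero.1 h2.1⟩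
    obtain ⟨v₁, h11, h12⟩ := exists_dual_pair hQ k.ind 1 0
    obtain ⟨v₂, h21, h22⟩ := exists_dual_pair hQ k.ind 0 (-1)
    have hd : N Q c d v₁ = d := by simp [N_apply, h11, h12]
    have hcv : N Q c d v₂ = c := by simp [N_apply, h21, h22]
    refine perp_span_pair ?_ ?_ ?_ ?_
    · have := (key v₂).1; rwa [hcv] at this
    · have := (key v₁).1; rwa [hd] at this
    · have := (key v₂).2; rwa [hcv] at this
    · have := (key v₁).2; rwa [hd] at this
  · rintro (⟨v, hv0, hvL, hvM⟩ | hperp)
    · obtain ⟨u, -, hu, hLu⟩ := hx.isLine.exists_pair hvL hv0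
      obtain ⟨b, -, hb, hMb⟩ := hy.isLine.exists_pair hvM hv0
      obtain ⟨d, hs, -, rfl⟩ := exists_smul_of_onLine hQ hx hu hLu
      obtain ⟨d', hs', -, rfl⟩ := exists_smul_of_onLine hQ hy hb hMb
      refine Commute.map ?_ toP
      show rE hs * rE hs' = rE hs' * rE hs
      rw [rE_mul, rE_mul]
      exact rE_congr _ _ rfl (add_comm _ _)
    · obtain ⟨a, b, h, rfl, rfl⟩ := hx
      obtain ⟨c, d, k, rfl, rfl⟩ := hy
      refine Commute.map ?_ toP
      refine Subtype.ext (orth_ext fun v => ?_)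
      show (rho h.spair).1 ((rho k.spair).1 v) = (rho k.spair).1 ((rho h.spair).1 v)
      simp only [rho_sing_apply _ h.qb, rho_sing_apply _ k.qb, map_add]
      rw [N_perp (hperp a (mem_left a b) _ (N_mem c d v)) (hperp b (mem_right a b) _ (N_mem c d v)),
        N_perp (hperp.symm c (mem_left c d) _ (N_mem a b v))
          (hperp.symm d (mem_right c d) _ (N_mem a b v))]
      abel

theorem adj_iff {L M : Submodule F V} {x y : PG Q} (hx : OnLine Q L x) (hy : OnLine Q M y)
    (hne : L ≠ M) : Commute x y ∧ RootLike p (x * y) ↔ Meet L M ∧ Perp Q L M := by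
  rw [commute_iff hQ h5 p hx hy]
  constructor
  · rintro ⟨hc, hroot⟩
    obtain ⟨K, a₀, b₀, h₀, hK, he⟩ := exists_onLine_of_rootLike hQ h5 hroot
    rcases hc with ⟨v, hv0, hvL, hvM⟩ | hperp
    · refine ⟨⟨v, hv0, hvL, hvM⟩, ?_⟩
      obtain ⟨u, -, hu, hLu⟩ := hx.isLine.exists_pair hvL hv0
      obtain ⟨b, -, hb, hMb⟩ := hy.isLine.exists_pair hvM hv0
      obtain ⟨d, hs, hd, rfl⟩ := exists_smul_of_onLine hQ hx hu hLu
      obtain ⟨d', hs', hd', rfl⟩ := exists_smul_of_onLine hQ hy hb hMb
      rw [← map_mul, rE_mul] at he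
      have heq : rho (hs.add hs') = rho h₀.spair :=
        congrArg Subtype.val (toP_inj_of_pow (p := p) hQ h5 (i := 1) (j := 1)
          (by rw [pow_one]; exact rE_pow_char _) (by rw [pow_one]; exact rE_pow_char _) he)
      by_contra hperp
      have hub : polar Q u b ≠ 0 := fun h => hperp (by
        rw [← hLu, ← hMb]
        exact perp_span_pair hu.spair.self hb.perp hu.spair.perp' h)
      set w := d • u + d' • b with hw
      have hQw : Q w ≠ 0 := by
        rw [hw, Q_comb, hu.qb, hb.qb]; simp [hd, hd', hub]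
      have hind : LinearIndependent F ![v, w] := LinearIndependent.pair_iff.2 fun s t hst => by
        have ht : t = 0 := by
          by_contra ht
          apply hQw
          have : w = (-(t⁻¹ * s)) • v := by
            rw [neg_smul, ← smul_smul, eq_neg_of_add_eq_zero_left hst, smul_neg, neg_neg, smul_smul,
              inv_mul_cancel₀ ht, one_smul]
          rw [this, Q_smul, hu.qa, mul_zero]
        rw [ht, zero_smul, add_zero] at hst
        exact ⟨(smul_eq_zero.1 hst).resolve_right hv0, ht⟩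
      obtain ⟨z, hz1, hz2⟩ := exists_dual_pair hQ hind 1 (-Q w)
      have h1 := congrArg (fun g : orth Q => g.1 z) heq
      simp only [rho_apply (hs.add hs'), hz1, one_smul, mul_one, ← hw, hz2, neg_add_cancel,
        zero_smul, sub_zero, rho_sing_apply _ h₀.qb] at h1
      exact hQw (by rw [add_left_cancel h1]; exact sing_span_pair h₀.qa h₀.qb h₀.perp (N_mem _ _ _))
    · refine ⟨?_, hperp⟩
      by_contra hmeet
      obtain ⟨a, b, h, rfl, rfl⟩ := hx
      obtain ⟨c, d, k, rfl, rfl⟩ := hy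
      rw [rt, rt, ← map_mul] at he
      have hcomm : Commute (rE h.spair) (rE k.spair) := toP_commute (p := p) hQ h5 (j := 1)
        (by rw [pow_one]; exact rE_pow_char _)
        ((commute_iff hQ h5 p ⟨a, b, h, rfl, rfl⟩ ⟨c, d, k, rfl, rfl⟩).2 (Or.inr hperp))
      have heq := congrArg Subtype.val (toP_inj_of_pow (p := p) hQ h5 (i := 1) (j := 1)
        (by rw [pow_one, hcomm.mul_pow, rE_pow_char, rE_pow_char, one_mul])
        (by rw [pow_one]; exact rE_pow_char _) he)
      have hsum : ∀ v, N Q a b v + N Q c d v = N Q a₀ b₀ v := by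
        intro v
        have h1 := congrArg (fun g : orth Q => g.1 v) heq
        change (rho h.spair).1 ((rho k.spair).1 v) = (rho h₀.spair).1 v at h1
        simp only [rho_sing_apply _ h.qb, rho_sing_apply _ k.qb, rho_sing_apply _ h₀.qb, map_add,
          N_perp (hperp a (mem_left a b) _ (N_mem c d v)) (hperp b (mem_right a b) _ (N_mem c d v)),
          add_zero] at h1
        rw [← sub_eq_zero] at h1 ⊢
        rw [← h1]; abel
      have hind : LinearIndependent F ![a, b, c, d] := by
        rw [Fintype.linearIndependent_iff]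
        intro g hg
        rw [Fin.sum_univ_four] at hg
        simp only [Matrix.cons_val] at hg
        have h0 : g 0 • a + g 1 • b = 0 := by
          by_contra h0
          refine hmeet ⟨_, h0, Submodule.mem_span_pair.2 ⟨_, _, rfl⟩,
            Submodule.mem_span_pair.2 ⟨-g 2, -g 3, ?_⟩⟩
          rw [← sub_eq_zero, ← neg_eq_zero.2 hg]
          simp only [neg_smul]; abel
        have h1 := LinearIndependent.pair_iff.1 h.ind _ _ h0
        rw [h0, zero_add] at hg
        have h2 := LinearIndependent.pair_iff.1 k.ind _ _ hg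
        intro i; fin_cases i
        exacts [h1.1, h1.2, h2.1, h2.2]
      have hle : ∀ (r : Fin 4 → F),
          r 0 • b - r 1 • a + (r 2 • d - r 3 • c) ∈ Submodule.span F ({a₀, b₀} : Set V) := by
        intro r
        obtain ⟨z, hz⟩ := exists_dual hQ hind r
        have := hsum z
        rw [N_apply, N_apply, show polar Q a z = r 0 from hz 0, show polar Q b z = r 1 from hz 1,
          show polar Q c z = r 2 from hz 2, show polar Q d z = r 3 from hz 3] at this
        rw [this]; exact N_mem _ _ _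
      have ha : a ∈ Submodule.span F ({a₀, b₀} : Set V) := by simpa using hle ![0, -1, 0, 0]
      have hb : b ∈ Submodule.span F ({a₀, b₀} : Set V) := by simpa using hle ![1, 0, 0, 0]
      have hc : c ∈ Submodule.span F ({a₀, b₀} : Set V) := by simpa using hle ![0, 0, 0, -1]
      have hd : d ∈ Submodule.span F ({a₀, b₀} : Set V) := by simpa using hle ![0, 0, 1, 0]
      exact hne ((h₀.isLine.span_eq h ha hb).trans (h₀.isLine.span_eq k hc hd).symm)
  · rintro ⟨⟨v, hv0, hvL, hvM⟩, hperp⟩
    refine ⟨Or.inr hperp, ?_⟩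
    obtain ⟨u, huL, hu, hLu⟩ := hx.isLine.exists_pair hvL hv0
    obtain ⟨b, hbM, hb, hMb⟩ := hy.isLine.exists_pair hvM hv0
    obtain ⟨d, hs, hd, rfl⟩ := exists_smul_of_onLine hQ hx hu hLu
    obtain ⟨d', hs', hd', rfl⟩ := exists_smul_of_onLine hQ hy hb hMb
    have hind : LinearIndependent F ![v, d • u + d' • b] := pair_ind hv0 fun hm => by
      obtain ⟨s, hsv⟩ := Submodule.mem_span_singleton.1 hm
      have hbL : b ∈ L := by
        rw [← inv_smul_smul₀ hd' b, show d' • b = s • v - d • u by rw [hsv, add_sub_cancel_left]]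
        exact L.smul_mem _ (L.sub_mem (L.smul_mem _ hvL) (L.smul_mem _ huL))
      exact hne ((hx.isLine.span_eq hb hvL hbL).symm.trans hMb)
    have hl : LPair Q v (d • u + d' • b) := ⟨hu.qa,
      by rw [Q_comb, hu.qb, hb.qb, hperp u huL b hbM]; ring, (hs.add hs').perp, hind⟩
    rw [← map_mul, rE_mul]
    exact rootLike_rt hQ h5 hl

end Char

/-! ### Existence of lines -/

section Exist

variable [Finite F] [FiniteDimensional F V]

theorem exists_three_sing (hQ : Nondeg Q) (h3 : 3 ≤ finrank F V) (w : V) :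
    ∃ s₁ s₂ s₃ : V, Q s₁ = 0 ∧ Q s₂ = 0 ∧ Q s₃ = 0 ∧ w = s₁ + s₂ + s₃ := by
  obtain ⟨g, h, hp⟩ := exists_hyp hQ h3
  set w₀ := w - polar Q h w • g - polar Q g w • h with hw
  refine ⟨(polar Q h w + Q w₀) • g, (polar Q g w - 1) • h, (-Q w₀) • g + (1 : F) • h + w₀,
    by rw [Q_smul, hp.left, mul_zero], by rw [Q_smul, hp.right, mul_zero],
    by rw [hp.Q_comb_core _ _ (hp.proj_mem w)]; ring, ?_⟩
  rw [hw]
  module

theorem core_sing_decomp (hQ : Nondeg Q) (h5 : 5 ≤ finrank F V) {e f : V} (hp : HypPair Q e f)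
    {w : V} (hw : w ∈ core Q e f) : ∃ s₁ s₂ s₃ : V, s₁ ∈ core Q e f ∧ s₂ ∈ core Q e f ∧
      s₃ ∈ core Q e f ∧ Q s₁ = 0 ∧ Q s₂ = 0 ∧ Q s₃ = 0 ∧ w = s₁ + s₂ + s₃ := by
  have hfr := hp.finrank_core
  obtain ⟨s₁, s₂, s₃, h1, h2, h3, he⟩ :=
    exists_three_sing (hp.nondeg_core hQ) (by omega) ⟨w, hw⟩
  exact ⟨s₁, s₂, s₃, s₁.2, s₂.2, s₃.2, h1, h2, h3, congrArg Subtype.val he⟩

theorem lpair_core {e f w : V} (hp : HypPair Q e f) (hw : w ∈ core Q e f) (hw0 : w ≠ 0)
    (hqw : Q w = 0) : LPair Q e w := by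
  refine ⟨hp.left, hqw, (mem_core.1 hw).1, pair_ind hp.left_ne fun hm => ?_⟩
  obtain ⟨s, rfl⟩ := Submodule.mem_span_singleton.1 hm
  have h1 := (mem_core.1 hw).2
  rw [polar_smul_right, hp.pol', smul_eq_mul, mul_one] at h1
  exact hw0 (by rw [h1, zero_smul])

theorem exists_core_not_perp (hQ : Nondeg Q) (h5 : 5 ≤ finrank F V) {e f : V}
    (hp : HypPair Q e f) {y : V} (hy : y ∈ core Q e f) (hy0 : y ≠ 0) :
    ∃ b ∈ core Q e f, Q b = 0 ∧ polar Q b y ≠ 0 := by
  obtain ⟨⟨z, hz⟩, hz1⟩ := exists_polar_eq_one (hp.nondeg_core hQ) (x := ⟨y, hy⟩)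
    (fun h => hy0 (congrArg Subtype.val h))
  rw [res_polar] at hz1
  obtain ⟨s₁, s₂, s₃, m₁, m₂, m₃, q₁, q₂, q₃, rfl⟩ := core_sing_decomp hQ h5 hp hz
  by_contra hc
  push Not at hc
  rw [polar_add_right, polar_add_right, polar_comm Q y s₁, polar_comm Q y s₂, polar_comm Q y s₃,
    hc _ m₁ q₁, hc _ m₂ q₂, hc _ m₃ q₃] at hz1
  simp at hz1

theorem exists_core_not_mem (hQ : Nondeg Q) (h5 : 5 ≤ finrank F V) {e f : V}
    (hp : HypPair Q e f) (y : V) :
    ∃ b ∈ core Q e f, Q b = 0 ∧ b ∉ Submodule.span F {y} := by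
  by_contra hc
  push Not at hc
  have hfr := hp.finrank_core
  have h1 : core Q e f ≤ Submodule.span F {y} := by
    intro z hz
    obtain ⟨s₁, s₂, s₃, m₁, m₂, m₃, q₁, q₂, q₃, rfl⟩ := core_sing_decomp hQ h5 hp hz
    exact add_mem (add_mem (hc _ m₁ q₁) (hc _ m₂ q₂)) (hc _ m₃ q₃)
  have h2 := Submodule.finrank_mono h1
  have h3 : finrank F (Submodule.span F ({y} : Set V)) ≤ 1 := by
    simpa using finrank_span_le_card ({y} : Set V)
  omega

/-- Lines are separated by their commuting relation. -/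
theorem exists_separating (hQ : Nondeg Q) (h5 : 5 ≤ finrank F V) {L M : Submodule F V}
    (hL : IsLine Q L) (hM : IsLine Q M) (hne : L ≠ M) :
    ∃ K, IsLine Q K ∧ (Meet L K ∨ Perp Q L K) ∧ ¬ (Meet M K ∨ Perp Q M K) := by
  by_cases hA : ∃ a ∈ L, a ∉ M ∧ ∃ y ∈ M, polar Q a y ≠ 0
  · obtain ⟨a, haL, haM, y, hyM, hay⟩ := hA
    have ha0 : a ≠ 0 := fun h => haM (h ▸ M.zero_mem)
    obtain ⟨f, hp⟩ := exists_hypPair hQ ha0 (hL.sing a haL)
    have hy0 : y ≠ 0 := fun h => hay (by rw [h, polar_zero_right])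
    obtain ⟨m, hmM, hm, hMm⟩ := hM.exists_pair hyM hy0
    set μ := polar Q a m / polar Q a y
    set m' := m - μ • y with hm'
    obtain ⟨b, hb, hqb, hbm⟩ :=
      exists_core_not_mem hQ h5 hp (m' - polar Q f m' • a - polar Q a m' • f)
    have hb0 : b ≠ 0 := fun h => hbm (h ▸ Submodule.zero_mem _)
    have hl := lpair_core hp hb hb0 hqb
    refine ⟨_, hl.isLine, Or.inl ⟨a, ha0, haL, mem_left a b⟩, ?_⟩
    rintro (⟨v, hv0, hvM, hvK⟩ | hperp)
    · obtain ⟨s, t, hst⟩ := Submodule.mem_span_pair.1 hvK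
      rw [← hMm] at hvM
      obtain ⟨α, β, hαβ⟩ := Submodule.mem_span_pair.1 hvM
      have hm'0 : polar Q a m' = 0 := by
        rw [hm', polar_sub_right, polar_smul_right, smul_eq_mul, div_mul_cancel₀ _ hay, sub_self]
      have hv : v = (α + β * μ) • y + β • m' := by rw [← hαβ, hm']; module
      have hav : polar Q a v = 0 := by
        rw [← hst, polar_add_right, polar_smul_right, polar_smul_right, hp.pol_ee,
          (mem_core.1 hb).1, smul_zero, smul_zero, add_zero]
      rw [hv, polar_add_right, polar_smul_right, polar_smul_right, hm'0, smul_zero, add_zero,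
        smul_eq_mul, mul_eq_zero, or_iff_left hay] at hav
      rw [hav, zero_smul, zero_add] at hv
      have hsf : s = β * polar Q f m' := by
        have h1 := congrArg (polar Q f) (hst.trans hv)
        simpa [polar_add_right, polar_smul_right, hp.pol', (mem_core.1 hb).2] using h1
      have htb : t • b = β • (m' - polar Q f m' • a - polar Q a m' • f) := by
        rw [hm'0, zero_smul, sub_zero, smul_sub, smul_smul, ← hsf, ← hv, ← hst, add_sub_cancel_left]
      by_cases ht : t = 0
      · rw [ht, zero_smul, add_zero] at hst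
        rw [hMm] at hvM
        have hs : s ≠ 0 := fun h => hv0 (by rw [← hst, h, zero_smul])
        apply haM
        rw [← inv_smul_smul₀ hs a, hst]
        exact M.smul_mem _ hvM
      · apply hbm
        rw [← inv_smul_smul₀ ht b, htb, smul_smul]
        exact Submodule.smul_mem _ _ (Submodule.mem_span_singleton_self _)
    · exact hay (hperp.symm a (mem_left a b) y hyM)
  · push Not at hA
    obtain ⟨a, haL, haM⟩ : ∃ a ∈ L, a ∉ M := by
      by_contra hc
      push Not at hc
      exact hne (hL.eq_of_le hM hc)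
    have ha0 : a ≠ 0 := fun h => haM (h ▸ M.zero_mem)
    obtain ⟨f, hp⟩ := exists_hypPair hQ ha0 (hL.sing a haL)
    obtain ⟨m, hmM, hm0⟩ := hM.exists_ne_zero
    have ham : polar Q a m = 0 := hA a haL haM m hmM
    have hproj : m - polar Q f m • a ∈ core Q a f := by
      have := hp.proj_mem m; rwa [ham, zero_smul, sub_zero] at this
    obtain ⟨b, hb, hqb, hbm⟩ := exists_core_not_perp hQ h5 hp hproj fun h => by
      rw [sub_eq_zero] at h
      by_cases hf : polar Q f m = 0
      · exact hm0 (by rw [h, hf, zero_smul])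
      · apply haM
        rw [← inv_smul_smul₀ hf a, ← h]
        exact M.smul_mem _ hmM
    rw [polar_sub_right, polar_smul_right, polar_comm Q b a, (mem_core.1 hb).1, smul_zero,
      sub_zero] at hbm
    have hb0 : b ≠ 0 := fun h => hbm (by rw [h, polar_zero_left])
    have hl := lpair_core hp hb hb0 hqb
    refine ⟨_, hl.isLine, Or.inl ⟨a, ha0, haL, mem_left a b⟩, ?_⟩
    rintro (⟨v, hv0, hvM, hvK⟩ | hperp)
    · obtain ⟨s, t, rfl⟩ := Submodule.mem_span_pair.1 hvK
      have h1 := hM.perp hvM hmM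
      rw [polar_add_left, polar_smul_left, polar_smul_left, ham, smul_zero, zero_add,
        smul_eq_mul, mul_eq_zero, or_iff_left hbm] at h1
      rw [h1, zero_smul, add_zero] at hv0 hvM
      have hs : s ≠ 0 := fun h => hv0 (by rw [h, zero_smul])
      apply haM
      rw [← inv_smul_smul₀ hs a]
      exact M.smul_mem _ hvM
    · exact hbm (hperp.symm b (mem_right a b) m hmM)

end Exist

end Cfsg.Agent.Lib.AutPOmega
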