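import Cfsg.Agent.Lib.AutPOmega.Points

/-!
Every automorphism of `EG Q` modulo its centre is induced by a semisimilarity
(dimension at least seven, not the eight-dimensional hyperbolic space).
-/

set_option autoImplicit false

namespace Cfsg.Agent.Lib.AutPOmega

open Module QuadraticMap Cfsg.Agent.Lib.Forms Cfsg.Agent.Lib.OrthOmega

variable {F : Type*} [Field F] {V : Type*} [AddCommGroup V] [Module F V]
  {Q : QuadraticForm F V}

theorem spair_core {e f w : V} (hp : HypPair Q e f) (hw : w ∈ core Q e f) : SPair Q e w :=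
  ⟨hp.left, (mem_core.1 hw).1⟩

/-- `toP ρ(e, w)` for `w` in the core of a hyperbolic pair. -/
def ce {e f : V} (hp : HypPair Q e f) (w : core Q e f) : PG Q := toP (rE (spair_core hp w.2))

theorem ce_add {e f : V} (hp : HypPair Q e f) (v w : core Q e f) :
    ce hp (v + w) = ce hp v * ce hp w := by
  rw [ce, ce, ce, ← map_mul, rE_mul]

theorem ce_zero {e f : V} (hp : HypPair Q e f) : ce hp 0 = 1 := by
  have : rE (spair_core hp (0 : core Q e f).2) = 1 := Subtype.ext (rho_eq_one (spair_core hp (0 : core Q e f).2) rfl)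
  rw [ce, this, map_one]

variable {p : ℕ} [Fact p.Prime] [CharP F p] [Finite F] [FiniteDimensional F V]

theorem ce_inj (p : ℕ) [Fact p.Prime] [CharP F p] (hQ : Nondeg Q) (h5 : 5 ≤ finrank F V)
    {e f : V} (hp : HypPair Q e f) {v w : core Q e f} (h : ce hp v = ce hp w) : v = w := by
  have h1 := congrArg (fun g : EG Q => g.1.1 f) (toP_inj_of_pow (p := p) hQ h5 (i := 1) (j := 1)
    (by rw [pow_one]; exact rE_pow_char _) (by rw [pow_one]; exact rE_pow_char _) h)
  simp only [rE, rho_apply, hp.pol, one_smul, mul_one, polar_comm Q (v : V) f,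
    polar_comm Q (w : V) f, (mem_core.1 v.2).2, (mem_core.1 w.2).2, zero_add] at h1
  have h2 := congrArg (polar Q f) h1
  simp only [polar_sub_right, polar_add_right, polar_smul_right, hp.pol', (mem_core.1 v.2).2,
    (mem_core.1 w.2).2, smul_eq_mul, mul_one] at h2
  have h3 : Q (v : V) = Q (w : V) := by linear_combination -h2
  rw [h3] at h1
  exact Subtype.ext (add_left_cancel (sub_left_injective h1))

theorem root_through (hQ : Nondeg Q) {e f : V} (hp : HypPair Q e f) {K : Submodule F V}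
    {x : PG Q} (hx : OnLine Q K x) (he : e ∈ K) :
    ∃ w : core Q e f, Q (w : V) = 0 ∧ (w : V) ∈ K ∧ x = ce hp w := by
  obtain ⟨b, hbK, hb, hKb⟩ := hx.isLine.exists_pair he hp.left_ne
  obtain ⟨d, hs, -, rfl⟩ := exists_smul_of_onLine hQ hx hb hKb
  have hm : d • b + (-polar Q f (d • b)) • e ∈ core Q e f := by
    refine mem_core.2 ⟨?_, ?_⟩
    · rw [polar_add_right, polar_smul_right _ (-polar Q f (d • b)), hs.perp, hp.pol_ee, smul_zero,
        add_zero]
    · rw [polar_add_right, polar_smul_right _ (-polar Q f (d • b)), hp.pol', smul_eq_mul, mul_one,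
        add_neg_cancel]
  refine ⟨⟨_, hm⟩, ?_, K.add_mem (K.smul_mem _ hbK) (K.smul_mem _ he), ?_⟩
  · exact hx.isLine.sing _ (K.add_mem (K.smul_mem _ hbK) (K.smul_mem _ he))
  · rw [ce]
    congr 1
    exact Subtype.ext (rho_shift hs _ (spair_core hp hm)).symm

variable (p) (hQ : Nondeg Q) (h7 : 7 ≤ finrank F V)
include p hQ h7

omit [Fact p.Prime] [CharP F p] in
theorem exists_perp_sing {e f : V} (hp : HypPair Q e f) (w : core Q e f) (hw0 : w ≠ 0)
    (hqw : Q (w : V) = 0) (w' : core Q e f) (hqw' : Q (w' : V) = 0) :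
    ∃ z : core Q e f, Q (z : V) = 0 ∧ polar Q (w : V) z = 0 ∧ polar Q (w' : V) z = 0 ∧
      LinearIndependent F ![(w : V), (z : V)] := by
  have hW := hp.nondeg_core hQ
  have hfr := hp.finrank_core
  by_cases hww : polar Q (w : V) w' = 0
  · by_cases hind : LinearIndependent F ![(w : V), (w' : V)]
    · exact ⟨w', hqw', hww, by rw [polar_self', hqw', mul_zero], hind⟩
    · have hw0' : (w : V) ≠ 0 := fun h => hw0 (Subtype.ext h)
      rw [LinearIndependent.pair_iff' hw0'] at hind
      push Not at hind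
      obtain ⟨s, hs⟩ := hind
      obtain ⟨h, hk⟩ := exists_hypPair hW hw0 hqw
      have hfr2 := hk.finrank_core
      obtain ⟨⟨z, hz⟩, hz0, hqz⟩ := exists_singular (hk.nondeg_core hW) (by omega)
      have hwz : polar Q (w : V) z = 0 := hz.1
      refine ⟨z, hqz, hwz, by rw [← hs, polar_smul_left, hwz, smul_zero],
        (LinearIndependent.pair_iff' hw0').2 fun t ht => hz0 (Subtype.ext ?_)⟩
      have h1 : polar Q (h : V) (z : V) = 0 := hz.2
      have h2 : polar Q (h : V) (w : V) = 1 := hk.pol'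
      rw [← ht, polar_smul_right, h2, smul_eq_mul, mul_one] at h1
      exact Subtype.ext (by rw [← ht, h1, zero_smul]; rfl)
  · set c := polar Q (w : V) w' with hc
    have hk : HypPair (res Q (core Q e f)) w (c⁻¹ • w') := by
      refine ⟨hqw, ?_, ?_⟩
      · show Q (c⁻¹ • (w' : V)) = 0
        rw [Q_smul, hqw', mul_zero]
      · show polar Q (w : V) (c⁻¹ • (w' : V)) = 1
        rw [polar_smul_right, smul_eq_mul, inv_mul_cancel₀ hww]
    have hfr2 := hk.finrank_core
    obtain ⟨⟨z, hz⟩, hz0, hqz⟩ := exists_singular (hk.nondeg_core hW) (by omega)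
    have hwz : polar Q (w : V) z = 0 := hz.1
    have h1 : polar Q (c⁻¹ • (w' : V)) (z : V) = 0 := hz.2
    rw [polar_smul_left, smul_eq_mul, mul_eq_zero, or_iff_right (inv_ne_zero hww)] at h1
    refine ⟨z, hqz, hwz, h1, (LinearIndependent.pair_iff' fun h => hw0 (Subtype.ext h)).2
      fun t ht => hz0 (Subtype.ext (Subtype.ext ?_))⟩
    rw [← ht, polar_smul_right, polar_comm Q (w' : V) w, ← hc, smul_eq_mul, mul_eq_zero,
      or_iff_left hww] at h1
    rw [← ht, h1, zero_smul]
    rfl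

theorem exists_phi (h8 : NoTriality Q) {e f : V} (hp : HypPair Q e f) {α : MulAut (PG Q)}
    (he : Assoc α e e) :
    ∃ φ : core Q e f ≃+ core Q e f, (∀ w, α (ce hp w) = ce hp (φ w)) ∧
      ∀ w : core Q e f, Q (w : V) = 0 → Q (φ w : V) = 0 := by
  have h5 : 5 ≤ finrank F V := by omega
  have hsing : ∀ w : core Q e f, Q (w : V) = 0 →
      ∃ w' : core Q e f, Q (w' : V) = 0 ∧ α (ce hp w) = ce hp w' := by
    intro w hw
    by_cases hw0 : w = 0
    · exact ⟨0, map_zero Q, by rw [hw0, ce_zero, map_one]⟩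
    have hl := lpair_core hp w.2 (fun h => hw0 (Subtype.ext h)) hw
    obtain ⟨K, hK⟩ := exists_img p hQ h7 α hl.isLine
    obtain ⟨w', h1, -, h2⟩ := root_through hQ hp ((hK.2.2 _).1 ⟨e, w, hl, rfl, rfl⟩)
      ((he.2.2.2.2 _ _ hK).1 (mem_left e (w : V)))
    exact ⟨w', h1, h2⟩
  have hall : ∀ w : core Q e f, ∃ w', α (ce hp w) = ce hp w' := by
    intro w
    obtain ⟨s₁, s₂, s₃, m₁, m₂, m₃, q₁, q₂, q₃, hw⟩ := core_sing_decomp hQ h5 hp w.2
    obtain ⟨t₁, -, e₁⟩ := hsing ⟨s₁, m₁⟩ q₁
    obtain ⟨t₂, -, e₂⟩ := hsing ⟨s₂, m₂⟩ q₂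
    obtain ⟨t₃, -, e₃⟩ := hsing ⟨s₃, m₃⟩ q₃
    refine ⟨t₁ + t₂ + t₃, ?_⟩
    rw [show w = ⟨s₁, m₁⟩ + ⟨s₂, m₂⟩ + ⟨s₃, m₃⟩ from Subtype.ext hw, ce_add, ce_add, ce_add, ce_add,
      map_mul, map_mul, e₁, e₂, e₃]
  choose φ₀ hφ₀ using hall
  have hadd : ∀ v w, φ₀ (v + w) = φ₀ v + φ₀ w := fun v w => ce_inj p hQ h5 hp (by
    rw [← hφ₀, ce_add, map_mul, hφ₀, hφ₀, ce_add])
  have hinj : Function.Injective φ₀ := fun v w h =>
    ce_inj p hQ h5 hp (α.injective (by rw [hφ₀, hφ₀, h]))
  have : Finite V := Module.finite_of_finite F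
  refine ⟨AddEquiv.ofBijective (AddMonoidHom.mk' φ₀ hadd)
    ⟨hinj, (Finite.injective_iff_surjective (f := φ₀)).1 hinj⟩, hφ₀, fun w hw => ?_⟩
  obtain ⟨w', h1, h2⟩ := hsing w hw
  show Q (φ₀ w : V) = 0
  rwa [ce_inj p hQ h5 hp ((hφ₀ w).symm.trans h2)]

theorem exists_semilinear {e f : V} (hp : HypPair Q e f) {α : MulAut (PG Q)}
    {φ : core Q e f ≃+ core Q e f} (hφ : ∀ w, α (ce hp w) = ce hp (φ w))
    (hφs : ∀ w : core Q e f, Q (w : V) = 0 → Q (φ w : V) = 0) :
    ∃ τ : F ≃+* F, ∀ (t : F) (w : core Q e f), φ (t • w) = τ t • φ w := by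
  have h5 : 5 ≤ finrank F V := by omega
  have hline : ∀ w : core Q e f, Q (w : V) = 0 → w ≠ 0 → ∀ t : F, ∃ d : F, φ (t • w) = d • φ w := by
    intro w hw hw0 t
    by_cases ht : t = 0
    · exact ⟨0, by rw [ht, zero_smul, zero_smul, map_zero]⟩
    have hl := lpair_core hp w.2 (fun h => hw0 (Subtype.ext h)) hw
    have hl' := lpair_core hp (φ w).2
      (fun h => hw0 (φ.map_eq_zero_iff.1 (Subtype.ext h))) (hφs w hw)
    have htl : LPair Q e (t • (w : V)) := lpair_core hp (Submodule.smul_mem _ t w.2)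
      (smul_ne_zero ht fun h => hw0 (Subtype.ext h)) (by rw [Q_smul, hw, mul_zero])
    obtain ⟨K, hK⟩ := exists_img p hQ h7 α hl.isLine
    have hKeq : K = Submodule.span F {e, (φ w : V)} := OnLine.unique hQ h5 p
      ((hK.2.2 _).1 ⟨e, w, hl, rfl, rfl⟩) ⟨e, φ w, hl', rfl, hφ w⟩
    have hx : OnLine Q K (α (ce hp (t • w))) := (hK.2.2 _).1
      ⟨e, t • (w : V), htl, hl.isLine.span_eq htl (mem_left _ _)
        (Submodule.smul_mem _ _ (mem_right _ _)), rfl⟩
    obtain ⟨d, hs, -, hd⟩ := exists_smul_of_onLine hQ hx hl' hKeq.symm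
    exact ⟨d, ce_inj p hQ h5 hp ((hφ _).symm.trans hd)⟩
  choose τf hτf using hline
  have huniq : ∀ (w : core Q e f), w ≠ 0 → ∀ a b : F, a • φ w = b • φ w → a = b := fun w hw a b h =>
    smul_left_injective F (fun h => hw (φ.map_eq_zero_iff.1 h)) h
  have hind : ∀ w w' : core Q e f, Q (w : V) = 0 → w ≠ 0 → Q (w' : V) = 0 →
      LinearIndependent F ![(w : V), (w' : V)] →
      ∀ a b : F, a • φ w + b • φ w' = 0 → a = 0 ∧ b = 0 := by
    intro w w' hw hw0 hw' hli a b hab
    have hz := LinearIndependent.pair_iff.1 hli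
    have hw'0 : w' ≠ 0 := fun h => by
      have := (hz 0 1 (by rw [zero_smul, one_smul, h, zero_add]; rfl)).2
      exact one_ne_zero this
    by_cases hb : b = 0
    · rw [hb, zero_smul, add_zero] at hab
      exact ⟨(smul_eq_zero.1 hab).resolve_right fun h => hw0 (φ.map_eq_zero_iff.1 h), hb⟩
    exfalso
    have hl := lpair_core hp w.2 (fun h => hw0 (Subtype.ext h)) hw
    have hl' := lpair_core hp w'.2 (fun h => hw'0 (Subtype.ext h)) hw'
    have hm := lpair_core hp (φ w).2
      (fun h => hw0 (φ.map_eq_zero_iff.1 (Subtype.ext h))) (hφs w hw)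
    have hm' := lpair_core hp (φ w').2
      (fun h => hw'0 (φ.map_eq_zero_iff.1 (Subtype.ext h))) (hφs w' hw')
    obtain ⟨K, hK⟩ := exists_img p hQ h7 α hl.isLine
    obtain ⟨K', hK'⟩ := exists_img p hQ h7 α hl'.isLine
    have e1 : K = Submodule.span F {e, (φ w : V)} := OnLine.unique hQ h5 p
      ((hK.2.2 _).1 ⟨e, w, hl, rfl, rfl⟩) ⟨e, φ w, hm, rfl, hφ w⟩
    have e2 : K' = Submodule.span F {e, (φ w' : V)} := OnLine.unique hQ h5 p
      ((hK'.2.2 _).1 ⟨e, w', hl', rfl, rfl⟩) ⟨e, φ w', hm', rfl, hφ w'⟩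
    have hmem : (φ w' : V) ∈ K := by
      rw [e1, ← inv_smul_smul₀ hb (φ w' : V)]
      refine Submodule.smul_mem _ _ ?_
      have : b • (φ w' : V) = -(a • (φ w : V)) :=
        eq_neg_of_add_eq_zero_right (congrArg Subtype.val hab)
      rw [this]
      exact Submodule.neg_mem _ (Submodule.smul_mem _ _ (mem_right _ _))
    have hKK : K' = K := by
      rw [e2]
      exact hK.2.1.span_eq hm' (by rw [e1]; exact mem_left _ _) hmem
    have := hK.unique_left p hQ h7 (hKK ▸ hK')
    have hmem2 : (w' : V) ∈ Submodule.span F ({e, (w : V)} : Set V) := this ▸ mem_right e (w' : V)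
    obtain ⟨s, t, hst⟩ := Submodule.mem_span_pair.1 hmem2
    have h1 := congrArg (polar Q f) hst
    simp only [polar_add_right, polar_smul_right, hp.pol', (mem_core.1 w.2).2, (mem_core.1 w'.2).2,
      smul_eq_mul, mul_one, mul_zero, add_zero] at h1
    rw [h1, zero_smul, zero_add] at hst
    have := (hz t (-1) (by rw [hst, neg_one_smul, add_neg_cancel])).2
    exact one_ne_zero (neg_eq_zero.1 this)
  have hpair : ∀ (w w' : core Q e f) (hw : Q (w : V) = 0) (hw0 : w ≠ 0) (hw' : Q (w' : V) = 0)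
      (hw'0 : w' ≠ 0), polar Q (w : V) w' = 0 → LinearIndependent F ![(w : V), (w' : V)] →
      ∀ t, τf w hw hw0 t = τf w' hw' hw'0 t := by
    intro w w' hw hw0 hw' hw'0 hperp hli t
    have hs : Q ((w + w' : core Q e f) : V) = 0 := by
      rw [Submodule.coe_add, Q_add, hw, hw', hperp, add_zero, add_zero]
    have hne : w + w' ≠ 0 := fun h => by
      have := (LinearIndependent.pair_iff.1 hli 1 1
        (by rw [one_smul, one_smul]; exact congrArg Subtype.val h)).1
      exact one_ne_zero this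
    have h1 := hτf (w + w') hs hne t
    rw [smul_add, map_add, map_add, hτf w hw hw0 t, hτf w' hw' hw'0 t, smul_add, ← sub_eq_zero] at h1
    have h2 := hind w w' hw hw0 hw' hli (τf w hw hw0 t - τf (w + w') hs hne t)
      (τf w' hw' hw'0 t - τf (w + w') hs hne t) (by rw [← h1, sub_smul, sub_smul]; abel)
    rw [sub_eq_zero.1 h2.1, sub_eq_zero.1 h2.2]
  have hW := hp.nondeg_core hQ
  have hfr := hp.finrank_core
  obtain ⟨w₀, hw₀0, hw₀⟩ := exists_singular hW (by omega)
  replace hw₀ : Q (w₀ : V) = 0 := hw₀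
  set τ₀ := τf w₀ hw₀ hw₀0 with hτ₀
  have hcommon : ∀ (w : core Q e f), Q (w : V) = 0 → ∀ t, φ (t • w) = τ₀ t • φ w := by
    intro w hw t
    by_cases hw0 : w = 0
    · rw [hw0, smul_zero, map_zero, smul_zero]
    obtain ⟨z, hz, hz1, hz2, hli⟩ := exists_perp_sing p hQ h7 hp w hw0 hw w₀ hw₀
    have hz0 : z ≠ 0 := fun h => by
      have := (LinearIndependent.pair_iff.1 hli 0 1
        (by rw [zero_smul, one_smul, h, zero_add]; rfl)).2
      exact one_ne_zero this
    rw [hτf w hw hw0 t, hpair w z hw hw0 hz hz0 hz1 hli t]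
    congr 1
    rw [hτ₀]
    by_cases hind' : LinearIndependent F ![(w₀ : V), (z : V)]
    · exact (hpair w₀ z hw₀ hw₀0 hz hz0 hz2 hind' t).symm
    · -- then `w₀` is parallel to `z`
      have hw₀' : (w₀ : V) ≠ 0 := fun h => hw₀0 (Subtype.ext h)
      rw [LinearIndependent.pair_iff' hw₀'] at hind'
      push Not at hind'
      obtain ⟨s, hs⟩ := hind'
      have hs0 : s ≠ 0 := fun h => hz0 (Subtype.ext (by rw [← hs, h, zero_smul]; rfl))
      have hwperp : polar Q (w₀ : V) w = 0 := by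
        rw [polar_comm]
        rw [← hs, polar_smul_right, smul_eq_mul, mul_eq_zero, or_iff_right hs0] at hz1
        exact hz1
      have hli' : LinearIndependent F ![(w₀ : V), (w : V)] :=
        (LinearIndependent.pair_iff' hw₀').2 fun r hr => by
          have h3 := (LinearIndependent.pair_iff.1 hli s (-r) (by
            rw [← hs, ← hr, smul_smul, smul_smul, ← add_smul, mul_comm s r, neg_mul, add_neg_cancel,
              zero_smul])).1
          exact hs0 h3
      rw [hpair w₀ w hw₀ hw₀0 hw hw0 hwperp hli' t, hpair w z hw hw0 hz hz0 hz1 hli t]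
  have hall : ∀ (t : F) (w : core Q e f), φ (t • w) = τ₀ t • φ w := by
    intro t w
    obtain ⟨s₁, s₂, s₃, m₁, m₂, m₃, q₁, q₂, q₃, hw⟩ := core_sing_decomp hQ h5 hp w.2
    rw [show w = ⟨s₁, m₁⟩ + ⟨s₂, m₂⟩ + ⟨s₃, m₃⟩ from Subtype.ext hw]
    simp only [smul_add, map_add]
    rw [hcommon ⟨s₁, m₁⟩ q₁ t, hcommon ⟨s₂, m₂⟩ q₂ t, hcommon ⟨s₃, m₃⟩ q₃ t]
  have hmul : ∀ a b, τ₀ (a * b) = τ₀ a * τ₀ b := fun a b => huniq w₀ hw₀0 _ _ (by
    rw [← hall, mul_smul, hall, hall, smul_smul])
  have hadd : ∀ a b, τ₀ (a + b) = τ₀ a + τ₀ b := fun a b => huniq w₀ hw₀0 _ _ (by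
    rw [← hall, add_smul, map_add, hall, hall, add_smul])
  have hinj : Function.Injective τ₀ := fun a b h =>
    smul_left_injective F hw₀0 (φ.injective (show φ (a • w₀) = φ (b • w₀) by rw [hall, hall, h]))
  have hbij : Function.Bijective τ₀ := Finite.injective_iff_bijective.1 hinj
  exact ⟨{ Equiv.ofBijective τ₀ hbij with map_mul' := hmul, map_add' := hadd }, hall⟩

omit [Fact p.Prime] [CharP F p] in
theorem exists_scale {e f : V} (hp : HypPair Q e f) {φ : core Q e f ≃+ core Q e f}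
    (hφs : ∀ w : core Q e f, Q (w : V) = 0 → Q (φ w : V) = 0) {τ : F ≃+* F}
    (hτ : ∀ (t : F) (w : core Q e f), φ (t • w) = τ t • φ w) :
    ∃ c : F, c ≠ 0 ∧ ∀ w : core Q e f, Q (φ w : V) = c * τ (Q (w : V)) := by
  have hW := hp.nondeg_core hQ
  have hfr := hp.finrank_core
  obtain ⟨g, h, hk⟩ := exists_hyp hW (by omega)
  have qg : Q (g : V) = 0 := hk.left
  have qh : Q (h : V) = 0 := hk.right
  set C := polar Q (φ g : V) (φ h : V) with hC
  have hQadd : ∀ x y : core Q e f,
      Q (φ (x + y) : V) = Q (φ x : V) + Q (φ y : V) + polar Q (φ x : V) (φ y : V) := fun x y => by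
    rw [map_add, Submodule.coe_add, Q_add]
  have hfr2 := hk.finrank_core
  have hperp : ∀ (a : core Q e f), Q (a : V) = 0 →
      (∀ x ∈ core (res Q (core Q e f)) g h, polar Q (a : V) x = 0) →
      ∀ x ∈ core (res Q (core Q e f)) g h, polar Q (φ a : V) (φ x : V) = 0 := by
    intro a ha hax x hx
    obtain ⟨s₁, s₂, s₃, m₁, m₂, m₃, q₁, q₂, q₃, rfl⟩ := core_sing_decomp hW (by omega) hk hx
    have key : ∀ s : core Q e f, s ∈ core (res Q (core Q e f)) g h →
        (res Q (core Q e f)) s = 0 → polar Q (φ a : V) (φ s : V) = 0 := by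
      intro s ms qs
      have qs' : Q (s : V) = 0 := qs
      have h1 := hQadd a s
      rw [hφs _ (show Q ((a + s : core Q e f) : V) = 0 by
        rw [Submodule.coe_add, Q_add, ha, qs', hax s ms]; simp), hφs a ha, hφs s qs'] at h1
      simpa using h1.symm
    rw [map_add, map_add, Submodule.coe_add, Submodule.coe_add, polar_add_right, polar_add_right,
      key _ m₁ q₁, key _ m₂ q₂, key _ m₃ q₃, add_zero, add_zero]
  have hg0 := hperp g qg fun x hx => hx.1
  have hh0 := hperp h qh fun x hx => hx.2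
  have hcore : ∀ x : core Q e f, x ∈ core (res Q (core Q e f)) g h →
      Q (φ x : V) = C * τ (Q (x : V)) := by
    intro x hx
    have hxg : polar Q (g : V) x = 0 := hx.1
    have hxh : polar Q (h : V) x = 0 := hx.2
    have hgh : polar Q (g : V) h = 1 := hk.pol
    set s := (-Q (x : V)) • g + h + x with hs
    have hsq : Q (s : V) = 0 := by
      simp only [hs, Submodule.coe_add, Submodule.coe_smul, Q_add, Q_smul, polar_add_left,
        polar_smul_left, qg, qh, hgh, hxg, hxh, smul_eq_mul]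
      ring
    have h1 := hφs s hsq
    simp only [hs, map_add, hτ, Submodule.coe_add, Submodule.coe_smul, Q_add, Q_smul,
      polar_add_left, polar_smul_left, hφs g qg, hφs h qh, ← hC, hg0 x hx, hh0 x hx,
      smul_eq_mul, map_neg] at h1
    linear_combination h1
  have hall : ∀ w : core Q e f, Q (φ w : V) = C * τ (Q (w : V)) := by
    intro w
    set a := polar Q (h : V) w
    set b := polar Q (g : V) w
    have hx := hk.proj_mem w
    set x := w - a • g - b • h
    have hw : w = a • g + b • h + x := by simp only [x]; abel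
    have hxg : polar Q (g : V) x = 0 := hx.1
    have hxh : polar Q (h : V) x = 0 := hx.2
    have hgh : polar Q (g : V) h = 1 := hk.pol
    rw [hw]
    simp only [map_add, hτ, Submodule.coe_add, Submodule.coe_smul, Q_add, Q_smul, polar_add_left,
      polar_smul_left, polar_smul_right, hφs g qg, hφs h qh, ← hC, hg0 x hx, hh0 x hx, qg, qh,
      hgh, hxg, hxh, smul_eq_mul, hcore x hx, map_mul, map_zero, mul_zero, add_zero, zero_add,
      mul_one, map_add]
    ring
  refine ⟨C, fun h0 => ?_, hall⟩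
  have hzero : ∀ w : core Q e f, Q (w : V) = 0 := fun w => by
    rw [← φ.apply_symm_apply w, hall, h0, zero_mul]
  have := hzero (g + h)
  rw [Submodule.coe_add, Q_add, qg, qh, show polar Q (g : V) h = 1 from hk.pol] at this
  simp at this

omit [Fact p.Prime] [CharP F p] in
theorem exists_semisim {e f : V} (hp : HypPair Q e f) {φ : core Q e f ≃+ core Q e f}
    {τ : F ≃+* F} (hτ : ∀ (t : F) (w : core Q e f), φ (t • w) = τ t • φ w) {c : F} (hc : c ≠ 0)
    (hQφ : ∀ w : core Q e f, Q (φ w : V) = c * τ (Q (w : V))) :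
    ∃ S : Semisim Q, S.toAdd e = c • e ∧ S.toAdd f = f ∧ S.c = c ∧
      ∀ w : core Q e f, S.toAdd w = (φ w : V) := by
  let G : V → V := fun v => (c * τ (hp.split v).1.1) • e + τ (hp.split v).1.2 • f + (φ (hp.split v).2 : V)
  have hadd : ∀ v w, G (v + w) = G v + G w := fun v w => by
    simp only [G, map_add, Prod.fst_add, Prod.snd_add, Submodule.coe_add, mul_add, add_smul]
    abel
  have hsm : ∀ (t : F) (v : V), G (t • v) = τ t • G v := fun t v => by
    simp only [G, map_smul, Prod.smul_fst, Prod.smul_snd, smul_eq_mul, map_mul, hτ,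
      Submodule.coe_smul, smul_add, smul_smul, mul_left_comm]
  have hQG : ∀ v, Q (G v) = c * τ (Q v) := fun v => by
    simp only [G]
    rw [hp.Q_comb_core _ _ (φ _).2, hQφ, hp.Q_eq v, map_add, map_mul]
    ring
  have hinj : Function.Injective G := by
    refine (injective_iff_map_eq_zero (AddMonoidHom.mk' G hadd)).2 fun v hv => ?_
    change G v = 0 at hv
    have h1 := congrArg (polar Q f) hv
    have h2 := congrArg (polar Q e) hv
    simp only [G, polar_add_right, polar_smul_right, hp.pol, hp.pol', hp.pol_ee, hp.pol_ff,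
      (mem_core.1 (φ _).2).1, (mem_core.1 (φ _).2).2, polar_zero_right, smul_eq_mul, mul_one,
      mul_zero, add_zero, zero_add] at h1 h2
    have ha := (EmbeddingLike.map_eq_zero_iff (f := τ)).1 ((mul_eq_zero.1 h1).resolve_left hc)
    have hb := (EmbeddingLike.map_eq_zero_iff (f := τ)).1 h2
    simp only [G, ha, hb, map_zero, mul_zero, zero_smul, zero_add, ZeroMemClass.coe_eq_zero,
      AddEquiv.map_eq_zero_iff] at hv
    refine hp.split.map_eq_zero_iff.1 (Prod.ext (Prod.ext ha hb) hv)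
  have : Finite V := Module.finite_of_finite F
  refine ⟨⟨AddEquiv.ofBijective (AddMonoidHom.mk' G hadd)
    ⟨hinj, (Finite.injective_iff_surjective (f := G)).1 hinj⟩, τ, c, hc, hsm, hQG⟩, ?_, ?_, rfl, ?_⟩
  · show G e = c • e
    have he : hp.split e = ((1, 0), 0) := by
      rw [← hp.split.eq_symm_apply]
      show e = (1 : F) • e + (0 : F) • f + ((0 : core Q e f) : V)
      simp
    simp [G, he]
  · show G f = f
    have hf : hp.split f = ((0, 1), 0) := by
      rw [← hp.split.eq_symm_apply]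
      show f = (0 : F) • e + (1 : F) • f + ((0 : core Q e f) : V)
      simp
    simp [G, hf]
  · intro w
    show G w = _
    have hw : hp.split (w : V) = ((0, 0), w) := by
      rw [← hp.split.eq_symm_apply]
      show (w : V) = (0 : F) • e + (0 : F) • f + (w : V)
      simp
    simp [G, hw]

theorem eq_one_of_fix (h8 : NoTriality Q) {e f : V} (hp : HypPair Q e f) {α : MulAut (PG Q)}
    (hfix : ∀ w, α (ce hp w) = ce hp w) (he : Assoc α e e) (hf : Assoc α f f) : α = 1 := by
  have h5 : 5 ≤ finrank F V := by omega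
  have hW := hp.nondeg_core hQ
  have hcore : ∀ w : core Q e f, Q (w : V) = 0 → w ≠ 0 → Assoc α w w := by
    intro w hw hw0
    obtain ⟨b, hb⟩ := exists_assoc p hQ h7 h8 α (fun h => hw0 (Subtype.ext h)) hw
    have hl := lpair_core hp w.2 (fun h => hw0 (Subtype.ext h)) hw
    obtain ⟨K, hK⟩ := exists_img p hQ h7 α hl.isLine
    have hKL : K = Submodule.span F {e, (w : V)} := by
      have hx : OnLine Q (Submodule.span F {e, (w : V)}) (ce hp w) := ⟨e, w, hl, rfl, rfl⟩
      have h1 := (hK.2.2 _).1 hx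
      rw [hfix] at h1
      exact OnLine.unique hQ h5 p h1 hx
    have hbK := (hb.2.2.2.2 _ _ hK).1 (mem_right e (w : V))
    rw [hKL] at hbK
    obtain ⟨s, t, rfl⟩ := Submodule.mem_span_pair.1 hbK
    have hperp := Assoc.perp p hQ h7 hf hb ((mem_core.1 w.2).2)
    simp only [polar_add_right, polar_smul_right, hp.pol', (mem_core.1 w.2).2, smul_eq_mul,
      mul_one, mul_zero, add_zero] at hperp
    have ht : t ≠ 0 := fun h => hb.2.2.1 (by rw [hperp, h, zero_smul, zero_smul, add_zero])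
    have := hb.smul one_ne_zero (inv_ne_zero ht)
    rw [hperp, zero_smul, zero_add, one_smul, smul_smul, inv_mul_cancel₀ ht, one_smul] at this
    exact this
  have hplus : ∀ w : core Q e f, Q (w : V) = 0 → Assoc α (e + w) (e + w) := by
    intro w hw
    by_cases hw0 : w = 0
    · rw [hw0, Submodule.coe_zero, add_zero]; exact he
    obtain ⟨v, hv⟩ := exists_polar_eq_one hW hw0
    have hv' : polar Q (w : V) v = 1 := hv
    have h1 := Assoc.equivariant p hQ h7 (hcore w hw hw0) (hfix (-v))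
    have h2 : (rE (spair_core hp (-v).2)).1.1 (w : V) = e + w := by
      show (rho (spair_core hp (-v).2)).1 (w : V) = _
      rw [rho_apply, (mem_core.1 w.2).1, Submodule.coe_neg, polar_neg_left,
        polar_comm Q (v : V) w, hv']
      module
    rwa [h2] at h1
  have hsing : ∀ a : V, a ≠ 0 → Q a = 0 → Assoc α a a := by
    intro a ha0 ha
    set s := polar Q f a
    set t := polar Q e a
    have hxm := hp.proj_mem a
    set x := a - s • e - t • f with hx
    have hax : a = s • e + t • f + x := by rw [hx]; abel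
    by_cases ht : t = 0
    · have hqx : Q x = 0 := by
        have h1 := congrArg Q hax
        rw [ha, hp.Q_comb_core _ _ hxm, ht, mul_zero, zero_add] at h1
        exact h1.symm
      rw [ht, zero_smul, add_zero] at hax
      by_cases hs : s = 0
      · rw [hs, zero_smul, zero_add] at hax
        have := hcore ⟨x, hxm⟩ hqx (fun h => ha0 (hax.trans (congrArg Subtype.val h)))
        rw [hax]; exact this
      · have := (hplus ⟨s⁻¹ • x, Submodule.smul_mem _ _ hxm⟩ (by
          show Q (s⁻¹ • x) = 0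
          rw [Q_smul, hqx, mul_zero])).smul hs hs
        rw [hax]
        simpa [smul_add, smul_smul, mul_inv_cancel₀ hs] using this
    · set x' : core Q e f := ⟨t⁻¹ • x, Submodule.smul_mem _ _ hxm⟩ with hx'
      have h1 := (Assoc.equivariant p hQ h7 hf (hfix x')).smul ht ht
      have h2 : t • (rE (spair_core hp x'.2)).1.1 f = a := by
        show t • (rho (spair_core hp x'.2)).1 f = _
        have hst : Q x = -(s * t) := by
          have h1 := congrArg Q hax
          rw [ha, hp.Q_comb_core _ _ hxm] at h1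
          linear_combination -h1
        rw [rho_apply, hp.pol, polar_comm Q (x' : V) f, (mem_core.1 x'.2).2]
        show t • (f + (1 : F) • t⁻¹ • x - (0 + Q (t⁻¹ • x) * 1) • e) = a
        rw [Q_smul, hst, smul_sub, smul_add, one_smul, smul_smul, smul_smul, mul_inv_cancel₀ ht,
          one_smul, zero_add, mul_one,
          show t * (t⁻¹ * t⁻¹ * -(s * t)) = -s by field_simp, neg_smul, sub_neg_eq_add]
        conv_rhs => rw [hax]
        abel
      rwa [h2] at h1
  refine Semisim.aut_ext fun g => ?_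
  obtain ⟨k, hk⟩ := toP_surj (α (toP g))
  rw [← hk, MulAut.one_apply]
  refine ((QuotientGroup.eq).2 ((mem_center_EG_iff hQ h5 _).2
    (scalar_of_lines hQ (by omega) fun x hx => ?_))).symm
  by_cases hx0 : x = 0
  · exact ⟨0, by rw [hx0, map_zero, smul_zero]⟩
  have h1 := hsing x hx0 hx
  have hgx0 : g.1.1 x ≠ 0 := fun h => hx0 (g.1.1.injective (h.trans (map_zero _).symm))
  obtain ⟨t, -, ht⟩ := Assoc.unique p hQ h7 (hsing _ hgx0 ((g.1.2 x).trans hx))
    (Assoc.equivariant p hQ h7 h1 hk.symm)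
  refine ⟨t, ?_⟩
  show (g⁻¹ : EG Q).1.1 (k.1.1 x) = t • x
  rw [ht, map_smul]
  congr 1
  exact g.1.1.symm_apply_apply x

/-- Every automorphism is induced by a semisimilarity. -/
theorem exists_semisim_aut (h8 : NoTriality Q) (α : MulAut (PG Q)) :
    ∃ S : Semisim Q, α = S.aut := by
  have h5 : 5 ≤ finrank F V := by omega
  obtain ⟨e, f, hp⟩ := exists_hyp hQ (by omega)
  obtain ⟨a, ha⟩ := exists_assoc p hQ h7 h8 α hp.left_ne hp.left
  obtain ⟨b, hb⟩ := exists_assoc p hQ h7 h8 α hp.symm.left_ne hp.right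
  have hab : polar Q a b ≠ 0 := fun h => one_ne_zero
    (hp.pol.symm.trans (Assoc.perp p hQ h7 ha.symm hb.symm h))
  have hb' := hb.smul one_ne_zero (inv_ne_zero hab)
  rw [one_smul] at hb'
  set b' := (polar Q a b)⁻¹ • b with hb'd
  have hp' : HypPair Q a b' := ⟨ha.2.2.2.1, hb'.2.2.2.1, by
    rw [hb'd, polar_smul_right, smul_eq_mul, inv_mul_cancel₀ hab]⟩
  obtain ⟨g, hg, hgv⟩ := witt_orth hQ ![a, b'] ![e, f] hp'.linearIndependent hp.linearIndependent
    (fun i => by fin_cases i <;> simp [hp.left, hp.right, hp'.left, hp'.right])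
    (fun i j => by
      fin_cases i <;> fin_cases j <;>
        simp [hp.pol, hp.pol', hp.pol_ee, hp.pol_ff, hp'.pol, hp'.pol', hp'.pol_ee, hp'.pol_ff,
          polar_self', hp.left, hp.right, hp'.left, hp'.right])
  set T := Semisim.ofOrth (⟨g, hg⟩ : orth Q) with hT
  have hTe : T.toAdd a = e := hgv 0
  have hTf : T.toAdd b' = f := hgv 1
  set α₁ := T.aut * α with hα₁
  have he₁ : Assoc α₁ e e := by
    have h1 := Assoc.comp p hQ h7 ha (T.assoc p hQ h7 ha.2.2.1 ha.2.2.2.1)
    rwa [hTe] at h1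
  have hf₁ : Assoc α₁ f f := by
    have h1 := Assoc.comp p hQ h7 hb' (T.assoc p hQ h7 hb'.2.2.1 hb'.2.2.2.1)
    rwa [hTf] at h1
  obtain ⟨φ, hφ, hφs⟩ := exists_phi p hQ h7 h8 hp he₁
  obtain ⟨τ, hτ⟩ := exists_semilinear p hQ h7 hp hφ hφs
  obtain ⟨c, hc, hQφ⟩ := exists_scale p hQ h7 hp hφs hτ
  obtain ⟨S, hSe, hSf, hSc, hSw⟩ := exists_semisim p hQ h7 hp hτ hc hQφ
  have hS : ∀ w, S.aut (ce hp w) = ce hp (φ w) := by
    intro w
    rw [ce, ce, S.aut_toP]
    congr 1
    refine Subtype.ext ?_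
    show S.conjO (rho (spair_core hp w.2)) = rho (spair_core hp (φ w).2)
    have h1 : SPair Q (c • e) (c⁻¹ • (φ w : V)) :=
      ⟨by rw [Q_smul, hp.left, mul_zero], by
        rw [polar_smul_left, polar_smul_right, (mem_core.1 (φ w).2).1, smul_zero, smul_zero]⟩
    have h2 : SPair Q e (c • c⁻¹ • (φ w : V)) :=
      ⟨hp.left, by rw [polar_smul_right, polar_smul_right, (mem_core.1 (φ w).2).1, smul_zero,
        smul_zero]⟩
    rw [S.conjO_rho, rho_congr _ h1 hSe (by rw [hSc, hSw]), rho_vec_smul h1 h2]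
    exact rho_congr _ _ rfl (by rw [smul_smul, mul_inv_cancel₀ hc, one_smul])
  have hSe' : Assoc S.aut e e := by
    have h1 := (S.assoc p hQ h7 hp.left_ne hp.left).smul one_ne_zero (inv_ne_zero hc)
    rwa [one_smul, hSe, smul_smul, inv_mul_cancel₀ hc, one_smul] at h1
  have hSf' : Assoc S.aut f f := by
    have h1 := S.assoc p hQ h7 hp.symm.left_ne hp.right
    rwa [hSf] at h1
  have h2 : S.aut⁻¹ * α₁ = 1 := eq_one_of_fix p hQ h7 h8 hp
    (fun w => by rw [MulAut.mul_apply, hφ, ← hS, MulAut.inv_apply_self])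
    (Assoc.comp p hQ h7 he₁ hSe'.symm) (Assoc.comp p hQ h7 hf₁ hSf'.symm)
  refine ⟨T.inv.mul S, ?_⟩
  rw [Semisim.aut_mul, Semisim.aut_inv, inv_mul_eq_one.1 h2, hα₁, inv_mul_cancel_left]

end Cfsg.Agent.Lib.AutPOmega
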