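import Cfsg.Agent.Lib.AutPOmega.InnDiagMinus

/-!
Semisimilarities modulo scalars and `EG Q`: the outer automorphism group of `PΩ`.
-/

set_option autoImplicit false

namespace Cfsg.Agent.Lib.AutPOmega

open Module QuadraticMap Cfsg.Agent.Lib.Forms Cfsg.Agent.Lib.OrthOmega Cfsg.Agent.Lib.OrthStd
open Semisim
open scoped Matrix

/-! ### Two facts about finite groups -/

theorem card_eq_two_mul_of_coset {G : Type*} [Group G] [Finite G] {P L : Subgroup G} (hle : P ≤ L)
    {r : G} (hr : r ∈ L) (hrP : r ∉ P) (h : ∀ x ∈ L, x ∈ P ∨ r * x ∈ P) :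
    Nat.card L = 2 * Nat.card P := by
  have hidx : (P.subgroupOf L).index = 2 := by
    rw [Subgroup.index_eq_two_iff']
    refine ⟨⟨r, hr⟩, fun b => ?_⟩
    simp only [Subgroup.mem_subgroupOf, Subgroup.coe_mul]
    rcases h b b.2 with hb | hb
    · exact Or.inr ⟨hb, fun h1 => hrP (by simpa using P.mul_mem h1 (P.inv_mem hb))⟩
    · exact Or.inl ⟨hb, fun h1 => hrP (by simpa using P.mul_mem hb (P.inv_mem h1))⟩
  rw [← Subgroup.index_mul_card (P.subgroupOf L), hidx,
    Nat.card_congr (Subgroup.subgroupOfEquivOfLe hle).toEquiv]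

theorem nonempty_equiv_prod {G A B : Type*} [Group G] [Group A] [Group B] [Finite G]
    (φ : A →* G) (ψ : B →* G) (hc : ∀ a b, Commute (φ a) (ψ b)) (hφ : Function.Injective φ)
    (hψ : Function.Injective ψ) (hd : ∀ a b, φ a = ψ b → φ a = 1)
    (hcard : Nat.card A * Nat.card B = Nat.card G) : Nonempty (G ≃* A × B) := by
  have hinj : Function.Injective (φ.noncommCoprod ψ hc) := by
    rw [injective_iff_map_eq_one]
    rintro ⟨a, b⟩ h
    have h' : φ a * ψ b = 1 := h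
    have ha : φ a = 1 := hd a b⁻¹ (by rw [map_inv]; exact eq_inv_of_mul_eq_one_left h')
    rw [ha, one_mul] at h'
    exact Prod.ext ((map_eq_one_iff φ hφ).1 ha) ((map_eq_one_iff ψ hψ).1 h')
  exact ⟨(MulEquiv.ofBijective (φ.noncommCoprod ψ hc)
    (hinj.bijective_of_nat_card_le (by rw [Nat.card_prod, hcard]))).symm⟩

theorem nonempty_zpowers_equiv {G : Type*} [Group G] (x : G) {n : ℕ} (h : orderOf x = n) :
    Nonempty (Subgroup.zpowers x ≃* Multiplicative (ZMod n)) :=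
  ⟨mulEquivOfCyclicCardEq (by
    rw [Nat.card_zpowers, h]
    exact ((Nat.card_congr Multiplicative.toAdd).trans (Nat.card_zmod n)).symm)⟩

variable {F : Type*} [Field F] {ι : Type} [Fintype ι] [DecidableEq ι]
  {Q : QuadraticForm F (ι → F)} {f : (ι → F) → F}

/-! ### Determinants -/

namespace Semisim

/-- The determinant of the linear part. -/
noncomputable def sdet (S : Semisim Q) : F := (S.mat : Matrix ι ι F).det

theorem mat_mul_map (S T : Semisim Q) :
    ((S * T).mat : Matrix ι ι F) = (S.mat : Matrix ι ι F) * (T.mat : Matrix ι ι F).map S.τ :=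
  Matrix.ext_of_mulVec_single fun i => by
    rw [← Matrix.mulVec_mulVec, map_mulVec', mat_apply, mat_mulVec, mat_mulVec]
    rfl

theorem sdet_mul (S T : Semisim Q) : sdet (S * T) = sdet S * S.τ (sdet T) := by
  rw [sdet, mat_mul_map, Matrix.det_mul]
  congr 1
  exact (RingHom.map_det S.τ.toRingHom _).symm

theorem sdet_one : sdet (1 : Semisim Q) = 1 := by
  rw [sdet, show ((1 : Semisim Q).mat : Matrix ι ι F) = 1 from
    Matrix.ext_of_mulVec_single fun i => by
      rw [mat_mulVec_of_mem (one_mem _), Matrix.one_mulVec, one_toAdd], Matrix.det_one]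

theorem sdet_conj {S T : Semisim Q} (hT : T ∈ similitudes Q) :
    sdet (S * T * S⁻¹) = S.τ (sdet T) := by
  rw [mul_assoc, sdet_mul, sdet_mul, tau_apply_of_mem hT, map_mul,
    mul_left_comm, ← sdet_mul, mul_inv_cancel, sdet_one, mul_one]

theorem c_conj {S T : Semisim Q} (hT : T ∈ similitudes Q) : (S * T * S⁻¹).c = S.τ T.c := by
  rw [mul_assoc, mul_c, mul_c, tau_apply_of_mem hT, map_mul,
    mul_left_comm, ← mul_c, mul_inv_cancel]
  show S.τ T.c * 1 = _
  rw [mul_one]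

theorem sdet_orefl (hQ : Nondeg Q) (h01 : (∃ a : F, a ≠ 0 ∧ a ≠ 1) ∨ finrank F (ι → F) ≠ 4)
    {v : ι → F} (hv : Q v ≠ 0) : sdet (orthHom (orefl Q v)) = -1 := by
  rw [sdet, det_mat_orth, det_orth hQ h01, dicksonHom_orefl hQ h01 hv]
  show ((if Multiplicative.ofAdd (1 : ZMod 2) = 1 then (1 : Fˣ) else -1 : Fˣ) : F) = _
  rw [if_neg (by decide)]
  simp

theorem sdet_eg [Finite F] (hQ : Nondeg Q) (h5 : 5 ≤ finrank F (ι → F)) {g : orth Q}
    (hg : g ∈ EG Q) : sdet (orthHom g) = 1 := by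
  have hle : commutator (orth Q) ≤ (LinearEquiv.det.comp (orth Q).subtype).ker :=
    Abelianization.commutator_subset_ker _
  rw [commutator_eq_EG hQ h5] at hle
  rw [sdet, det_mat_orth, show LinearEquiv.det g.1 = 1 from hle hg, Units.val_one]

variable (Q) in
/-- Similarities with determinant the given power of the multiplier. -/
noncomputable def propDet (m : ℕ) : Subgroup (Semisim Q) where
  carrier := {S | S ∈ similitudes Q ∧ sdet S = S.c ^ m}
  one_mem' := ⟨one_mem _, sdet_one.trans (one_pow m).symm⟩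
  mul_mem' := by
    rintro S T ⟨hS, hS'⟩ ⟨hT, hT'⟩
    exact ⟨mul_mem hS hT, by
      rw [sdet_mul, mul_c, tau_apply_of_mem hS, tau_apply_of_mem hS, hS', hT', mul_pow]⟩
  inv_mem' := by
    rintro S ⟨hS, hS'⟩
    refine ⟨inv_mem hS, ?_⟩
    have h1 := sdet_mul S S⁻¹
    have h2 := mul_c S S⁻¹
    rw [mul_inv_cancel, sdet_one, tau_apply_of_mem hS, hS'] at h1
    rw [mul_inv_cancel, tau_apply_of_mem hS] at h2
    apply mul_left_cancel₀ (pow_ne_zero m S.c_ne)
    rw [← h1, ← mul_pow, ← h2]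
    exact (one_pow m).symm

theorem mem_propDet {m : ℕ} {S : Semisim Q} :
    S ∈ propDet Q m ↔ S ∈ similitudes Q ∧ sdet S = S.c ^ m := Iff.rfl

theorem propDet_normal (m : ℕ) : (propDet Q m).Normal := ⟨fun T hT S => by
  have hn : (similitudes Q).Normal := MonoidHom.normal_ker _
  refine ⟨hn.conj_mem T hT.1 S, ?_⟩
  rw [sdet_conj hT.1, c_conj hT.1, hT.2, map_pow]⟩

theorem orefl_notMem_propDet (hQ : Nondeg Q) (h2 : (2 : F) ≠ 0) (m : ℕ) {v : ι → F}
    (hv : Q v ≠ 0) : orthHom (orefl Q v) ∉ propDet Q m := fun h => h2 (by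
  have h1 := h.2
  rw [sdet_orefl hQ (Or.inl (exists_ne01 h2)) hv, show (orthHom (orefl Q v)).c = 1 from rfl,
    one_pow] at h1
  linear_combination -h1)

theorem propDet_dichotomy (hQ : Nondeg Q) (h2 : (2 : F) ≠ 0) {m : ℕ}
    (hn : Fintype.card ι = 2 * m) {v : ι → F} (hv : Q v ≠ 0) {S : Semisim Q}
    (hS : S ∈ similitudes Q) : S ∈ propDet Q m ∨ orthHom (orefl Q v) * S ∈ propDet Q m := by
  have h := det_mat_sq hQ S hS
  rw [hn, two_mul, pow_add, mul_self_eq_mul_self_iff] at h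
  rcases h with h | h
  · exact Or.inl ⟨hS, h⟩
  · refine Or.inr ⟨mul_mem (orthHom_mem _) hS, ?_⟩
    rw [sdet_mul, tau_apply_of_mem (orthHom_mem _), sdet_orefl hQ (Or.inl (exists_ne01 h2)) hv,
      mul_c, tau_apply_of_mem (orthHom_mem _)]
    show -1 * sdet S = (1 * S.c) ^ m
    rw [one_mul, show sdet S = -(S.c ^ m) from h]
    ring

end Semisim

open Semisim

/-! ### The map onto `Out` -/

section Out

variable [Finite F] (hQ : Nondeg Q) (h5 : 5 ≤ finrank F (ι → F)) (hf : ∀ v, f v = Q v)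

/-- Semisimilarities to outer automorphisms. -/
noncomputable def outHom : Semisim Q →* Cfsg.Out (Cfsg.POmega F f) :=
  (QuotientGroup.mk' (Cfsg.Inn (Cfsg.POmega F f))).comp (omegaAct hQ h5 hf)

theorem outHom_surjective (h7 : 7 ≤ finrank F (ι → F)) (h8 : NoTriality Q) :
    Function.Surjective (outHom hQ h5 hf) :=
  (QuotientGroup.mk'_surjective _).comp (omegaAct_surjective hQ h5 h7 h8 hf)

theorem mem_ker_outHom (h7 : 7 ≤ finrank F (ι → F)) (S : Semisim Q) :
    S ∈ (outHom hQ h5 hf).ker ↔ ∃ (l : Fˣ) (g : orth Q), g ∈ EG Q ∧ S = scalar l * orthHom g := by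
  rw [outHom, ← MonoidHom.comap_ker, QuotientGroup.ker_mk', Subgroup.mem_comap,
    conj_eq_omegaAct hQ h5 hf]
  constructor
  · rintro ⟨_, ⟨g, hg, rfl⟩, he⟩
    have h : S * (orthHom g)⁻¹ ∈ (omegaAct hQ h5 hf).ker := by
      rw [MonoidHom.mem_ker, map_mul, map_inv, he, mul_inv_cancel]
    rw [ker_omegaAct hQ h5 h7 hf] at h
    obtain ⟨l, hl⟩ := h
    exact ⟨l, g, hg, by rw [hl, inv_mul_cancel_right]⟩
  · rintro ⟨l, g, hg, rfl⟩
    refine ⟨orthHom g, ⟨g, hg, rfl⟩, ?_⟩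
    have h : scalar l ∈ (omegaAct hQ h5 hf).ker := by
      rw [ker_omegaAct hQ h5 h7 hf]; exact ⟨l, rfl⟩
    rw [map_mul, MonoidHom.mem_ker.1 h, one_mul]

theorem ker_outHom_le_similitudes (h7 : 7 ≤ finrank F (ι → F)) :
    (outHom hQ h5 hf).ker ≤ similitudes Q := fun S hS => by
  obtain ⟨l, g, -, rfl⟩ := (mem_ker_outHom hQ h5 hf h7 S).1 hS
  exact mul_mem (scalar_mem l) (orthHom_mem g)

theorem ker_outHom_le_propDet (h7 : 7 ≤ finrank F (ι → F)) {m : ℕ}
    (hn : Fintype.card ι = 2 * m) : (outHom hQ h5 hf).ker ≤ propDet Q m := fun S hS => by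
  obtain ⟨l, g, hg, rfl⟩ := (mem_ker_outHom hQ h5 hf h7 S).1 hS
  refine mul_mem ⟨scalar_mem l, ?_⟩ ⟨orthHom_mem g, ?_⟩
  · rw [sdet, det_mat_scalar, hn, pow_mul, _root_.sq]
    rfl
  · rw [sdet_eg hQ h5 hg]
    exact (one_pow m).symm

/-- When `-1` lies in `EG Q`, the isometries acting by inner automorphisms are those of `EG Q`. -/
theorem orth_mem_ker_outHom (h7 : 7 ≤ finrank F (ι → F))
    (hneg : ∃ n ∈ EG Q, ∀ x, n.1 x = -x) {g : orth Q}
    (h : orthHom g ∈ (outHom hQ h5 hf).ker) : g ∈ EG Q := by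
  obtain ⟨l, k, hk, he⟩ := (mem_ker_outHom hQ h5 hf h7 _).1 h
  have hv : ∀ v, g.1 v = (l : F) • k.1 v := fun v => congrArg (fun S : Semisim Q => S.toAdd v) he
  have hc : (1 : F) = (l : F) * l * 1 := by
    have h1 := congrArg Semisim.c he
    rw [mul_c, tau_apply_of_mem (scalar_mem l)] at h1
    exact h1
  rcases mul_self_eq_one_iff.1 (by linear_combination -hc : (l : F) * l = 1) with hl | hl
  · have : g = k := orth_ext fun v => by rw [hv, hl, one_smul]
    rwa [this]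
  · obtain ⟨n, hn, hn'⟩ := hneg
    have : g = n * k := orth_ext fun v => by
      show g.1 v = n.1 (k.1 v)
      rw [hv, hl, neg_one_smul, hn']
    rw [this]
    exact mul_mem hn hk

include hQ h5 hf in
theorem conj_injective_pOmega (h7 : 7 ≤ finrank F (ι → F)) :
    Function.Injective (MulAut.conj : Cfsg.POmega F f →* MulAut (Cfsg.POmega F f)) := by
  rw [injective_iff_map_eq_one]
  intro x hx
  obtain ⟨g, hg⟩ := toP_surj (pOmegaEquiv Q hQ h5 hf x)
  have h1 : omegaAct hQ h5 hf (orthHom g.1) = MulAut.conj x := by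
    show (toPG hQ h5 hf).symm (Semisim.ofOrth g.1).aut = _
    rw [← Semisim.conj_eq_aut, MulEquiv.symm_apply_eq]
    refine MulEquiv.ext fun y => ?_
    rw [toPG_apply, MulAut.conj_apply, MulAut.conj_apply, map_mul, map_mul, map_inv,
      MulEquiv.apply_symm_apply, hg]
  rw [hx, ← MonoidHom.mem_ker, ker_omegaAct hQ h5 h7 hf] at h1
  obtain ⟨l, hl⟩ := h1
  have hv : ∀ v, g.1.1 v = (l : F) • v := fun v =>
    (congrArg (fun S : Semisim Q => S.toAdd v) hl).symm
  have hc : (l : F) * l = 1 := congrArg Semisim.c hl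
  have hz : g ∈ Subgroup.center (EG Q) := by
    rw [mem_center_EG_iff hQ h5]
    rcases mul_self_eq_one_iff.1 hc with h | h
    · exact Or.inl fun v => by rw [hv, h, one_smul]
    · exact Or.inr fun v => by rw [hv, h, neg_one_smul]
  apply (pOmegaEquiv Q hQ h5 hf).injective
  rw [← hg, map_one]
  exact (QuotientGroup.eq_one_iff g).2 hz

include hQ h5 hf in
/-- `|Out| · (q - 1) · |PΩ| = |Gal| · |multipliers| · |O|`. -/
theorem card_out_mul (h7 : 7 ≤ finrank F (ι → F)) (h8 : NoTriality Q)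
    (hsurj : ∀ σ : F ≃+* F, ∃ S : Semisim Q, S.τ = σ) :
    Nat.card (Cfsg.Out (Cfsg.POmega F f)) * Nat.card Fˣ * Nat.card (Cfsg.POmega F f) =
      Nat.card (F ≃+* F) * (Nat.card (mult (Q := Q)).range *
        Nat.card (Cfsg.isometryGroup F f)) := by
  obtain ⟨p, hchar⟩ := CharP.exists F
  have : Fact p.Prime := ⟨CharP.char_is_prime F p⟩
  rw [← card_mulAut_pOmega p hQ h7 h8 hf hsurj, Subgroup.card_eq_card_quotient_mul_card_subgroup
    (Cfsg.Inn (Cfsg.POmega F f)), show Nat.card (Cfsg.Inn (Cfsg.POmega F f)) =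
    Nat.card (Cfsg.POmega F f) from
      (Nat.card_congr (MonoidHom.ofInjective (conj_injective_pOmega hQ h5 hf h7)).toEquiv).symm]
  ring

/-- The field automorphism of an outer automorphism. -/
noncomputable def tauOut (h7 : 7 ≤ finrank F (ι → F)) (h8 : NoTriality Q) :
    Cfsg.Out (Cfsg.POmega F f) →* (F ≃+* F) :=
  (outHom hQ h5 hf).liftOfSurjective (outHom_surjective hQ h5 hf h7 h8)
    ⟨τHom, ker_outHom_le_similitudes hQ h5 hf h7⟩

theorem tauOut_apply (h7 : 7 ≤ finrank F (ι → F)) (h8 : NoTriality Q) (S : Semisim Q) :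
    tauOut hQ h5 hf h7 h8 (outHom hQ h5 hf S) = S.τ := by
  rw [tauOut, MonoidHom.liftOfRightInverse_comp_apply, τHom_apply]

theorem ker_tauOut (h7 : 7 ≤ finrank F (ι → F)) (h8 : NoTriality Q) :
    (tauOut hQ h5 hf h7 h8).ker = (similitudes Q).map (outHom hQ h5 hf) := by
  ext x
  obtain ⟨S, rfl⟩ := outHom_surjective hQ h5 hf h7 h8 x
  rw [MonoidHom.mem_ker, tauOut_apply]
  constructor
  · exact fun h => ⟨S, h, rfl⟩
  · rintro ⟨T, hT, he⟩
    rw [← tauOut_apply hQ h5 hf h7 h8, ← he, tauOut_apply]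
    exact hT

theorem card_similitudes_out (h7 : 7 ≤ finrank F (ι → F)) (h8 : NoTriality Q)
    (hsurj : ∀ σ : F ≃+* F, ∃ S : Semisim Q, S.τ = σ) :
    Nat.card (F ≃+* F) * Nat.card ((similitudes Q).map (outHom hQ h5 hf)) =
      Nat.card (Cfsg.Out (Cfsg.POmega F f)) := by
  have hr : (tauOut hQ h5 hf h7 h8).range = ⊤ := MonoidHom.range_eq_top.2 fun σ => by
    obtain ⟨S, rfl⟩ := hsurj σ
    exact ⟨_, tauOut_apply hQ h5 hf h7 h8 S⟩
  have h := Subgroup.index_mul_card (tauOut hQ h5 hf h7 h8).ker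
  rwa [Subgroup.index_ker, hr, Subgroup.card_top, ker_tauOut] at h

theorem outHom_mem_map_iff {P : Subgroup (Semisim Q)} (hP : (outHom hQ h5 hf).ker ≤ P)
    (S : Semisim Q) : outHom hQ h5 hf S ∈ P.map (outHom hQ h5 hf) ↔ S ∈ P := by
  constructor
  · rintro ⟨T, hT, he⟩
    have : T⁻¹ * S ∈ (outHom hQ h5 hf).ker := by
      rw [MonoidHom.mem_ker, map_mul, map_inv, he, inv_mul_cancel]
    simpa using P.mul_mem hT (hP this)
  · exact Subgroup.mem_map_of_mem _

theorem card_propDet_out (h7 : 7 ≤ finrank F (ι → F)) {m : ℕ} (hn : Fintype.card ι = 2 * m)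
    (h2 : (2 : F) ≠ 0) :
    Nat.card ((similitudes Q).map (outHom hQ h5 hf)) =
      2 * Nat.card ((propDet Q m).map (outHom hQ h5 hf)) := by
  obtain ⟨v, hv⟩ := exists_Q_eq hQ (by omega) (1 : F)
  have hv0 : Q v ≠ 0 := by rw [hv]; exact one_ne_zero
  refine card_eq_two_mul_of_coset (Subgroup.map_mono fun S hS => hS.1)
    (r := outHom hQ h5 hf (orthHom (orefl Q v))) (Subgroup.mem_map_of_mem _ (orthHom_mem _))
    (fun h => orefl_notMem_propDet hQ h2 m hv0
      ((outHom_mem_map_iff hQ h5 hf (ker_outHom_le_propDet hQ h5 hf h7 hn) _).1 h)) ?_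
  rintro _ ⟨S, hS, rfl⟩
  rcases propDet_dichotomy hQ h2 hn hv0 hS with h | h
  · exact Or.inl (Subgroup.mem_map_of_mem _ h)
  · exact Or.inr ⟨_, h, map_mul _ _ _⟩

/-- A homomorphism from an image in `Aut` with kernel the inner automorphisms. -/
theorem exists_mod_inner {A : Subgroup (MulAut (Cfsg.POmega F f))} (P : Subgroup (Semisim Q))
    (hA : A = P.map (omegaAct hQ h5 hf)) {M : Type*} [Group M]
    (e : P.map (outHom hQ h5 hf) ≃* M) :
    ∃ φ : A →* M, Function.Surjective φ ∧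
      φ.ker = (Cfsg.Inn (Cfsg.POmega F f)).subgroupOf A := by
  subst hA
  let ψ : P.map (omegaAct hQ h5 hf) →* P.map (outHom hQ h5 hf) :=
    ((QuotientGroup.mk' (Cfsg.Inn (Cfsg.POmega F f))).comp (Subgroup.subtype _)).codRestrict _
      (by rintro ⟨_, S, hS, rfl⟩; exact ⟨S, hS, rfl⟩)
  refine ⟨e.toMonoidHom.comp ψ, e.surjective.comp ?_, ?_⟩
  · rintro ⟨_, S, hS, rfl⟩
    exact ⟨⟨_, S, hS, rfl⟩, rfl⟩
  · ext x
    rw [MonoidHom.mem_ker, MonoidHom.comp_apply, MulEquiv.coe_toMonoidHom,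
      map_eq_one_iff e e.injective, Subtype.ext_iff]
    exact QuotientGroup.eq_one_iff _

include hQ h5 hf in
/-- `-1` lies in `EG Q` when `|O| = 8 |PΩ|`. -/
theorem exists_neg_mem (h2 : (2 : F) ≠ 0)
    (hcard : Nat.card (Cfsg.isometryGroup F f) = 8 * Nat.card (Cfsg.POmega F f)) :
    ∃ n ∈ EG Q, ∀ x, n.1 x = -x := by
  by_contra hne
  have h := card_pOmega_mul Q hQ h5 hf
  rw [index_commutator_odd hQ h2 (by omega), center_eq_bot_of_not_neg Q hQ h5
    (by rwa [commutator_eq_EG hQ h5]), one_mul, hcard] at h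
  have : 0 < Nat.card (Cfsg.POmega F f) := Nat.card_pos
  omega

end Out

end Cfsg.Agent.Lib.AutPOmega
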