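import Cfsg.Agent.Lib.AutPOmega.Spinor

/-!
Outer automorphisms of the minus-type groups: the Frobenius element, the diagonal element, orders.
-/

set_option autoImplicit false

namespace Cfsg.Agent.Lib.AutPOmega

open Module QuadraticMap Cfsg.Agent.Lib.Forms Cfsg.Agent.Lib.OrthOmega Cfsg.Agent.Lib.OrthStd
open Semisim
open scoped Matrix

variable {F : Type*} [Field F]

namespace Semisim

theorem conjO_orefl {V : Type*} [AddCommGroup V] [Module F V] {Q : QuadraticForm F V}
    (S : Semisim Q) (v : V) : S.conjO (orefl Q v) = orefl Q (S.toAdd v) := by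
  refine orth_ext fun x => ?_
  obtain ⟨x, rfl⟩ := S.toAdd.surjective x
  rw [conjO_apply, S.toAdd.symm_apply_apply]
  show S.toAdd (refl Q v x) = refl Q (S.toAdd v) (S.toAdd x)
  rw [refl_apply, refl_apply, S.map_Q', S.map_polar, map_sub, S.map_smul', map_mul, map_inv₀]
  congr 2
  by_cases hv : S.τ (Q v) = 0
  · rw [hv]; simp
  · have := S.c_ne
    field_simp

theorem tau_pow {V : Type*} [AddCommGroup V] [Module F V] {Q : QuadraticForm F V} {S : Semisim Q}
    {p : ℕ} (h : ∀ t, S.τ t = t ^ p) (n : ℕ) : ∀ t, (S ^ n).τ t = t ^ p ^ n := by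
  induction n with
  | zero => intro t; simp; rfl
  | succ n ih =>
    intro t
    rw [pow_succ]
    show (S ^ n).τ (S.τ t) = _
    rw [h, ih, ← pow_mul, pow_succ']

theorem c_pow {V : Type*} [AddCommGroup V] [Module F V] {Q : QuadraticForm F V} {S : Semisim Q}
    (h : S.c = 1) (n : ℕ) : (S ^ n).c = 1 := by
  induction n with
  | zero => rfl
  | succ n ih => rw [pow_succ, mul_c, ih, h, map_one, one_mul]

end Semisim

theorem dvd_of_forall_pow_eq [Fintype F] {p f : ℕ} (hp : 2 ≤ p) (hf : 1 ≤ f)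
    (hF : Fintype.card F = p ^ f) {n : ℕ} (h : ∀ t : F, t ^ p ^ n = t) : f ∣ n := by
  have hq : ∀ t : F, t ^ p ^ f = t := fun t => by rw [← hF]; exact FiniteField.pow_card t
  have hmul : ∀ (j : ℕ) (t : F), t ^ p ^ (f * j) = t := by
    intro j
    induction j with
    | zero => simp
    | succ j ih => intro t; rw [Nat.mul_succ, pow_add, pow_mul, ih, hq]
  have hr : ∀ t : F, t ^ p ^ (n % f) = t := fun t => by
    have h1 := h t
    rw [← Nat.div_add_mod n f, pow_add, pow_mul, hmul] at h1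
    exact h1
  obtain ⟨g, hg⟩ := IsCyclic.exists_generator (α := Fˣ)
  have h1 : g ^ (p ^ (n % f) - 1) = 1 := by
    have h2 : g ^ p ^ (n % f) = g := Units.ext (by rw [Units.val_pow_eq_pow_val]; exact hr g)
    rw [← mul_left_inj g, ← pow_succ, Nat.sub_add_cancel (Nat.one_le_pow _ _ (by omega)), one_mul,
      h2]
  have h3 := orderOf_dvd_of_pow_eq_one h1
  rw [orderOf_eq_card_of_forall_mem_zpowers hg, Nat.card_units, Nat.card_eq_fintype_card, hF] at h3
  refine Nat.dvd_of_mod_eq_zero (by_contra fun hne => ?_)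
  have hlt : p ^ (n % f) < p ^ f := Nat.pow_lt_pow_right hp (Nat.mod_lt _ hf)
  have hge : p ≤ p ^ (n % f) := Nat.le_self_pow hne p
  have := Nat.le_of_dvd (by omega) h3
  omega

/-! ### The Frobenius element -/

theorem disc_ne_zero [Finite F] {a b : F}
    (hab : ∀ z₁ z₂ : F, z₁ ^ 2 + a * z₁ * z₂ + b * z₂ ^ 2 = 0 → z₁ = 0 ∧ z₂ = 0) :
    a ^ 2 - 4 * b ≠ 0 := by
  intro h4
  by_cases h2 : (2 : F) = 0
  · have ha : a = 0 :=
      (pow_eq_zero_iff two_ne_zero).1 (by linear_combination h4 + 2 * b * h2 : a ^ 2 = 0)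
    obtain ⟨s, hs⟩ := exists_sqrt h2 b
    exact one_ne_zero (hab s 1 (by rw [ha]; linear_combination hs + b * h2)).2
  · exact one_ne_zero (hab (-a / 2) 1 (by field_simp; linear_combination -h4)).2

theorem disc_not_square {a b : F} (h2 : (2 : F) ≠ 0)
    (hab : ∀ z₁ z₂ : F, z₁ ^ 2 + a * z₁ * z₂ + b * z₂ ^ 2 = 0 → z₁ = 0 ∧ z₂ = 0) :
    ¬ IsSquare (a ^ 2 - 4 * b) := by
  rintro ⟨s, hs⟩
  exact one_ne_zero (hab ((-a + s) / 2) 1 (by field_simp; linear_combination -hs)).2

/-- The vector of the reflection that is the `f`-th power of the Frobenius element. -/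
def frobVec (k : ℕ) (a : F) : (Fin k ⊕ Fin k) ⊕ Fin 2 → F := Sum.elim 0 ![-a, 2]

theorem qMinusC_frobVec (k : ℕ) (a b : F) :
    qMinusC k a b (frobVec k a) = -(a ^ 2 - 4 * b) := by
  rw [frobVec, qMinusC_elim, QuadraticMap.map_zero, qBin_apply]
  simp
  ring

theorem orefl_frobVec_apply (k : ℕ) {a b : F} (hd : a ^ 2 - 4 * b ≠ 0)
    (v : (Fin k ⊕ Fin k) ⊕ Fin 2 → F) :
    (orefl (qMinusC k a b) (frobVec k a)).1 v =
      Sum.elim (fun j => v (.inl j)) ![v (.inr 0) + a * v (.inr 1), -v (.inr 1)] := by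
  show refl _ _ v = _
  have hpol : polar (qMinusC k a b) (frobVec k a) v = -(a ^ 2 - 4 * b) * v (.inr 1) := by
    simp [polar, frobVec, ← quadFormMinus_eq, Cfsg.quadFormMinus]
    ring
  rw [refl_apply, qMinusC_frobVec, hpol, inv_mul_cancel_left₀ (neg_ne_zero.2 hd)]
  funext j
  rcases j with j | j
  · simp [frobVec]
  · fin_cases j <;> simp [frobVec] <;> ring

theorem frobenius_iterate {k p : ℕ} {a b x y : F} {S : Semisim (qMinusC k a b)}
    [Fact p.Prime] [CharP F p]
    (hS : ∀ v, S.toAdd v = Sum.elim (fun i => v (.inl i) ^ p)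
      ![v (.inr 0) ^ p + x * v (.inr 1) ^ p, y * v (.inr 1) ^ p])
    (X Y : ℕ → F) (hX0 : X 0 = 0) (hY0 : Y 0 = 1)
    (hX : ∀ n, X (n + 1) = X n ^ p + x * Y n ^ p) (hY : ∀ n, Y (n + 1) = y * Y n ^ p) (n : ℕ) :
    ∀ v, (S ^ n).toAdd v = Sum.elim (fun i => v (.inl i) ^ p ^ n)
      ![v (.inr 0) ^ p ^ n + X n * v (.inr 1) ^ p ^ n, Y n * v (.inr 1) ^ p ^ n] := by
  induction n with
  | zero =>
    intro v
    rw [pow_zero, one_toAdd, hX0, hY0]
    funext j
    rcases j with j | j
    · simp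
    · fin_cases j <;> simp
  | succ n ih =>
    intro v
    rw [pow_succ' S, mul_toAdd, hS, ih, hX, hY, pow_succ p, pow_mul, pow_mul]
    funext j
    rcases j with j | j
    · simp [← pow_mul]
    · fin_cases j <;> simp [add_pow_char, mul_pow] <;> ring

theorem two_eq_iff [Finite F] {p : ℕ} [Fact p.Prime] [CharP F p] : (2 : F) = 0 ↔ p = 2 := by
  constructor
  · intro h
    have : ((2 : ℕ) : F) = 0 := by exact_mod_cast h
    exact (Nat.prime_dvd_prime_iff_eq (Fact.out : p.Prime) Nat.prime_two).1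
      ((CharP.cast_eq_zero_iff F p 2).1 this)
  · rintro rfl
    exact_mod_cast CharP.cast_eq_zero F 2

/-- The `f`-th power of the Frobenius element is a reflection. -/
theorem exists_frobenius_pow [Fintype F] (k : ℕ) {p f : ℕ} [Fact p.Prime] [CharP F p]
    (hF : Fintype.card F = p ^ f) {a b : F}
    (hab : ∀ z₁ z₂ : F, z₁ ^ 2 + a * z₁ * z₂ + b * z₂ ^ 2 = 0 → z₁ = 0 ∧ z₂ = 0) :
    ∃ S : Semisim (qMinusC k a b), (∀ t, S.τ t = t ^ p) ∧ S.c = 1 ∧
      S.toAdd (Sum.elim (0 : Fin k ⊕ Fin k → F) ![1, 0]) = Sum.elim (0 : Fin k ⊕ Fin k → F) ![1, 0] ∧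
      S ^ f = orthHom (orefl (qMinusC k a b) (frobVec k a)) := by
  obtain ⟨S, x, y, hτ, hc, hy, hodd, htwo, hS⟩ := exists_minus_frobenius k p hab
  have hd := disc_ne_zero hab
  have hp := (Fact.out : p.Prime)
  have hqf : ∀ t : F, t ^ p ^ f = t := fun t => by rw [← hF]; exact FiniteField.pow_card t
  refine ⟨S, hτ, hc, ?_, ?_⟩
  · rw [hS]
    funext j
    rcases j with j | j
    · simp [hp.ne_zero]
    · fin_cases j <;> simp [hp.ne_zero]
  suffices ∃ X : F, ∀ v, (S ^ f).toAdd v = Sum.elim (fun i => v (.inl i))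
      ![v (.inr 0) + X * v (.inr 1), -v (.inr 1)] ∧ X = a by
    obtain ⟨X, hX⟩ := this
    refine ext' (AddEquiv.ext fun v => ?_) (RingEquiv.ext fun t => ?_) (c_pow hc f)
    · rw [orthHom_apply, orefl_frobVec_apply k hd, (hX v).1, (hX v).2]
    · rw [tau_pow hτ, hqf]; rfl
  by_cases hp2 : p = 2
  · subst hp2
    obtain ⟨rfl, rfl⟩ := htwo rfl
    have h2 : (2 : F) = 0 := two_eq_iff.2 rfl
    let t : ℕ → F := Nat.rec 0 fun _ s => s ^ 2 + x / y ^ 2
    have ht : ∀ n, t (n + 1) = t n ^ 2 + x / y ^ 2 := fun n => rfl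
    let X : ℕ → F := fun n => y ^ 2 ^ n * t n
    let Y : ℕ → F := fun n => y ^ (2 ^ n - 1)
    have hX : ∀ n, X (n + 1) = X n ^ 2 + x * Y n ^ 2 := fun n => by
      have h1 : y ^ 2 ^ n = y ^ (2 ^ n - 1) * y := by
        rw [← pow_succ, Nat.sub_add_cancel (Nat.one_le_two_pow)]
      show y ^ 2 ^ (n + 1) * t (n + 1) = (y ^ 2 ^ n * t n) ^ 2 + x * (y ^ (2 ^ n - 1)) ^ 2
      rw [ht, pow_succ, pow_mul, h1]
      field_simp
    have hY : ∀ n, Y (n + 1) = y * Y n ^ 2 := fun n => by
      show y ^ (2 ^ (n + 1) - 1) = y * (y ^ (2 ^ n - 1)) ^ 2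
      rw [← pow_mul, ← pow_succ']
      congr 1
      have := Nat.one_le_two_pow (n := n)
      rw [pow_succ]; omega
    have hit := frobenius_iterate hS X Y (by simp [X, t]) (by simp [Y]) hX hY f
    have hy1 : Y f = 1 := by
      show y ^ (2 ^ f - 1) = 1
      rw [← hF]; exact FiniteField.pow_card_sub_one_eq_one y hy
    have hv : ∀ v, (S ^ f).toAdd v = Sum.elim (fun i => v (.inl i))
        ![v (.inr 0) + X f * v (.inr 1), -v (.inr 1)] := fun v => by
      rw [hit v, hy1]
      funext j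
      rcases j with j | j
      · simp [hqf]
      · fin_cases j <;> simp [hqf]
        linear_combination (v (.inr 1)) * h2
    refine ⟨X f, fun v => ⟨hv v, ?_⟩⟩
    have h1 := (S ^ f).map_Q' (Sum.elim 0 ![0, 1])
    rw [c_pow hc, tau_pow hτ, hqf, one_mul, hv, ← quadFormMinus_eq, ← quadFormMinus_eq] at h1
    simp [Cfsg.quadFormMinus] at h1
    have h3 : X f * (X f + y) = 0 := by linear_combination h1 + y * X f * h2
    refine (mul_eq_zero.1 h3).elim (fun h0 => ?_) (fun h0 => by linear_combination h0 - y * h2)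
    exfalso
    have ht0 : t f = 0 := (mul_eq_zero.1 h0).resolve_left (pow_ne_zero _ hy)
    let K := AlgebraicClosure F
    obtain ⟨η, hη⟩ := IsAlgClosed.exists_root
      (Polynomial.X ^ 2 + Polynomial.X + Polynomial.C (algebraMap F K (x / y ^ 2)))
      (ne_of_eq_of_ne (show _ = (2 : WithBot ℕ) by compute_degree!) (by decide))
    simp only [Polynomial.IsRoot.def, Polynomial.eval_add, Polynomial.eval_pow, Polynomial.eval_X,
      Polynomial.eval_C] at hη
    haveI : CharP K 2 := charP_of_injective_algebraMap (algebraMap F K).injective 2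
    have h2K : (2 : K) = 0 := by exact_mod_cast CharP.cast_eq_zero K 2
    have htk : ∀ n, algebraMap F K (t n) = η ^ 2 ^ n + η := by
      intro n
      induction n with
      | zero => simp [t]; linear_combination -η * h2K
      | succ n ih =>
        rw [ht, map_add, map_pow, ih, add_pow_char, ← pow_mul, ← pow_succ]
        linear_combination hη - η * h2K
    have hfix : η ^ 2 ^ f = η := by
      have := htk f
      rw [ht0, map_zero] at this
      linear_combination -this - η * h2K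
    obtain ⟨s, hs⟩ : η ∈ Set.range (algebraMap F K) := by
      have hroot : η ∈ ((Polynomial.X ^ Fintype.card F - Polynomial.X : Polynomial F).map
          (algebraMap F K)).roots := by
        rw [Polynomial.mem_roots']
        refine ⟨(Polynomial.map_ne_zero_iff (algebraMap F K).injective).2
          (FiniteField.X_pow_card_sub_X_ne_zero F Fintype.one_lt_card), ?_⟩
        simp [hF, hfix]
      rw [Polynomial.Splits.roots_map] at hroot
      · obtain ⟨s, -, hs⟩ := Multiset.mem_map.1 hroot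
        exact ⟨s, hs⟩
      · rw [Polynomial.splits_iff_card_roots, FiniteField.roots_X_pow_card_sub_X,
          FiniteField.X_pow_card_sub_X_natDegree_eq F Fintype.one_lt_card]
        rfl
    rw [← hs] at hη
    have h4 : s ^ 2 + s + x / y ^ 2 = 0 := (algebraMap F K).injective (by simpa using hη)
    exact one_ne_zero (hab (y * s) 1 (by
      have h5 : y ^ 2 * (s ^ 2 + s + x / y ^ 2) = 0 := by rw [h4, mul_zero]
      field_simp at h5
      linear_combination h5)).2
  · have h2 : (2 : F) ≠ 0 := fun h => hp2 (two_eq_iff.1 h)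
    have hpodd : Odd p := hp.odd_of_ne_two hp2
    obtain rfl := hodd hp2
    set Δ := a ^ 2 - 4 * b
    let Y : ℕ → F := fun n => Δ ^ ((p ^ n - 1) / 2)
    have hY : ∀ n, Y (n + 1) = Δ ^ ((p - 1) / 2) * Y n ^ p := fun n => by
      show Δ ^ ((p ^ (n + 1) - 1) / 2) = Δ ^ ((p - 1) / 2) * (Δ ^ ((p ^ n - 1) / 2)) ^ p
      rw [← pow_mul, ← pow_add]
      congr 1
      obtain ⟨i, hi⟩ := hpodd
      obtain ⟨j, hj⟩ := (Odd.pow ⟨i, hi⟩ : Odd (p ^ n))
      rw [pow_succ, hj, show (2 * j + 1) * p - 1 = 2 * (j * p + i) by rw [hi]; ring_nf; omega,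
        Nat.mul_div_cancel_left _ two_pos, show (2 * j + 1 - 1) / 2 = j by omega,
        show (p - 1) / 2 = i by omega]
      ring
    let X : ℕ → F := Nat.rec 0 fun n s => s ^ p + x * Y n ^ p
    have hit := frobenius_iterate hS X Y rfl (by simp [Y]) (fun n => rfl) hY f
    have hchar : ringChar F ≠ 2 := by rw [ringChar.eq F p]; exact hp2
    have hyf : Y f = -1 := by
      have hpf : p ^ f / 2 = (p ^ f - 1) / 2 := by
        obtain ⟨j, hj⟩ := (hpodd.pow : Odd (p ^ f))
        omega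
      show Δ ^ ((p ^ f - 1) / 2) = -1
      rw [← hpf, ← hF]
      exact (FiniteField.pow_dichotomy hchar hd).resolve_left fun h =>
        disc_not_square h2 hab ((FiniteField.isSquare_iff hchar hd).2 h)
    have hv : ∀ v, (S ^ f).toAdd v = Sum.elim (fun i => v (.inl i))
        ![v (.inr 0) + X f * v (.inr 1), -v (.inr 1)] := fun v => by
      rw [hit v, hyf]
      funext j
      rcases j with j | j
      · simp [hqf]
      · fin_cases j <;> simp [hqf]
    refine ⟨X f, fun v => ⟨hv v, ?_⟩⟩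
    have hq : ∀ v, qMinusC k a b ((S ^ f).toAdd v) = qMinusC k a b v := fun v => by
      rw [(S ^ f).map_Q', c_pow hc, tau_pow hτ, hqf, one_mul]
    have h1 := hq (Sum.elim 0 ![0, 1])
    have h3 := hq (Sum.elim 0 ![1, 1])
    rw [hv, ← quadFormMinus_eq, ← quadFormMinus_eq] at h1 h3
    simp [Cfsg.quadFormMinus] at h1 h3
    have h4 : 2 * (X f - a) = 0 := by linear_combination h3 - h1
    exact sub_eq_zero.1 ((mul_eq_zero.1 h4).resolve_left h2)

/-! ### The diagonal element -/

theorem det_binMul (a b u₁ u₂ : F) :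
    LinearMap.det (binMul a b u₁ u₂) = qBin a b ![u₁, u₂] := by
  rw [← LinearMap.det_toMatrix', Matrix.det_fin_two, qBin_apply]
  simp [LinearMap.toMatrix'_apply, binMul]
  ring

/-- Scaling the hyperbolic pairs and multiplying on the binary part. -/
def minusScaleLin (k : ℕ) (a b : F) (u : Fin 2 → F) (c : Fˣ) :
    ((Fin k ⊕ Fin k) ⊕ Fin 2 → F) →ₗ[F] ((Fin k ⊕ Fin k) ⊕ Fin 2 → F) :=
  ((minusSplit k F).symm.toLinearMap.comp
    ((plusScale k c).toLinearMap.prodMap (binMul a b (u 0) (u 1)))).comp (minusSplit k F).toLinearMap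

theorem minusScaleLin_apply (k : ℕ) (a b : F) (u : Fin 2 → F) (c : Fˣ)
    (v : (Fin k ⊕ Fin k) ⊕ Fin 2 → F) :
    minusScaleLin k a b u c v = Sum.elim (plusScale k c fun j => v (.inl j))
      (binMul a b (u 0) (u 1) fun j => v (.inr j)) := rfl

theorem det_minusScaleLin [Finite F] (k : ℕ) (a b : F) (u : Fin 2 → F) (c : Fˣ)
    (hu : qBin a b u = c) : LinearMap.det (minusScaleLin k a b u c) = (c : F) ^ (k + 1) := by
  have h : minusScaleLin k a b u c = ((minusSplit k F).symm : _ →ₗ[F] _) ∘ₗ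
      ((plusScale k c).toLinearMap.prodMap (binMul a b (u 0) (u 1))) ∘ₗ
      ((minusSplit k F).symm.symm : _ →ₗ[F] _) := by
    ext v; rfl
  rw [h, LinearMap.det_conj, LinearMap.det_prodMap, det_plusScale, det_binMul,
    show (![u 0, u 1] : Fin 2 → F) = u from funext fun j => by fin_cases j <;> rfl, hu, pow_succ]

/-- The diagonal element and its square. -/
theorem exists_diag [Finite F] (k : ℕ) {a b : F}
    (hab : ∀ z₁ z₂ : F, z₁ ^ 2 + a * z₁ * z₂ + b * z₂ ^ 2 = 0 → z₁ = 0 ∧ z₂ = 0) (c : Fˣ) :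
    ∃ (D : Semisim (qMinusC k a b)) (u : Fin 2 → F), qBin a b u = c ∧ D.c = c ∧
      D ∈ propDet (qMinusC k a b) (k + 1) ∧
      D * D = scalar c * orthHom (embPlus k a b (diagPlus k fun _ => c) *
        (orefl (qMinusC k a b) (Sum.elim 0 u) * orefl (qMinusC k a b) (Sum.elim 0 ![1, 0]))) := by
  obtain ⟨u, hu⟩ := exists_Q_eq (qBin_nondeg hab) (by rw [Module.finrank_fin_fun]) (c : F)
  have hg : ∀ v, qMinusC k a b (minusScaleLin k a b u c v) = (c : F) * qMinusC k a b v := fun v => by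
    have hv : v = Sum.elim (fun j => v (.inl j)) (fun j => v (.inr j)) := by
      funext j; rcases j with j | j <;> rfl
    conv_rhs => rw [hv]
    rw [minusScaleLin_apply, qMinusC_elim, qMinusC_elim, qPlus_plusScale, qBin_binMul,
      show (![u 0, u 1] : Fin 2 → F) = u from funext fun j => by fin_cases j <;> rfl, hu]
    ring
  have hinj : Function.Injective (minusScaleLin k a b u c) := by
    refine (injective_iff_map_eq_zero _).2 fun v hv => qMinusC_nondeg k hab v fun y => ?_
    have h1 : (c : F) * polar (qMinusC k a b) v y =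
        polar (qMinusC k a b) (minusScaleLin k a b u c v) (minusScaleLin k a b u c y) := by
      simp only [polar, ← map_add, hg, mul_sub]
    rw [hv, polar_zero_left] at h1
    exact (mul_eq_zero.1 h1).resolve_left c.ne_zero
  set D : Semisim (qMinusC k a b) := ofLin (LinearEquiv.ofBijective (minusScaleLin k a b u c)
    ⟨hinj, LinearMap.surjective_of_injective hinj⟩) c hg with hD
  have hDs : D ∈ similitudes (qMinusC k a b) := rfl
  refine ⟨D, u, hu, rfl, ⟨hDs, ?_⟩, ?_⟩
  · have h1 : (D.mat : Matrix ((Fin k ⊕ Fin k) ⊕ Fin 2) ((Fin k ⊕ Fin k) ⊕ Fin 2) F) =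
        LinearMap.toMatrix' (minusScaleLin k a b u c) :=
      Matrix.ext_of_mulVec_single fun i => by
        rw [mat_mulVec_of_mem hDs, LinearMap.toMatrix'_mulVec]; rfl
    rw [sdet, h1, LinearMap.det_toMatrix', det_minusScaleLin k a b u c hu]
    rfl
  · refine ext' (AddEquiv.ext fun v => ?_) rfl (by
      show (c : F) * (c : F) = (c : F) * c * 1
      rw [mul_one])
    show minusScaleLin k a b u c (minusScaleLin k a b u c v) =
      (c : F) • (embPlus k a b (diagPlus k fun _ => c)).1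
        ((orefl (qMinusC k a b) (Sum.elim 0 u) * orefl (qMinusC k a b) (Sum.elim 0 ![1, 0]) :
          orth (qMinusC k a b)).1 v)
    rw [binary_rotation k u (by rw [hu]; exact c.ne_zero), embPlus_apply, minusScaleLin_apply,
      minusScaleLin_apply, hu]
    funext j
    rcases j with (i | i) | j
    · simp [plusScale, diagPlus_apply_inl]
    · simp [plusScale, diagPlus_apply_inr]
    · simp

/-- The class of the square of the diagonal element. -/
theorem diag_sq_notMem_EG [Finite F] {k : ℕ} (hk : Even k) (h5 : 5 ≤ 2 * k + 2) {a b : F}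
    (hab : ∀ z₁ z₂ : F, z₁ ^ 2 + a * z₁ * z₂ + b * z₂ ^ 2 = 0 → z₁ = 0 ∧ z₂ = 0)
    (h2 : (2 : F) ≠ 0) {c : Fˣ} (hc : ¬ IsSquare (c : F)) {u : Fin 2 → F}
    (hu : qBin a b u = c) :
    embPlus k a b (diagPlus k fun _ => c) *
        (orefl (qMinusC k a b) (Sum.elim 0 u) * orefl (qMinusC k a b) (Sum.elim 0 ![1, 0])) ∉
      EG (qMinusC k a b) := by
  have hQ := qMinusC_nondeg k hab
  have hV : 5 ≤ finrank F ((Fin k ⊕ Fin k) ⊕ Fin 2 → F) := by rw [finrank_fun]; simp; omega
  rw [← cls_eq_one_iff hQ hV, map_mul, map_mul]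
  have hz : ∀ z : Fin 2 → F, qMinusC k a b (Sum.elim 0 z) = qBin a b z := fun z => by
    rw [qMinusC_elim, QuadraticMap.map_zero, zero_add]
  have h10 : qBin a b ![1, 0] = (1 : F) := by rw [qBin_apply]; simp
  have hpv : ∀ (i : Fin k) (t : F), qMinusC k a b (Sum.elim (pairVec i t) 0) = -t := fun i t => by
    rw [qMinusC_elim, qPlus_pairVec, QuadraticMap.map_zero, add_zero]
  have hns : ¬ IsSquare (qMinusC k a b (Sum.elim 0 ![1, 0]) / qMinusC k a b (Sum.elim 0 u)) := by
    rw [hz, hz, hu, h10, one_div, isSquare_inv]; exact hc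
  have hu0 : qMinusC k a b (Sum.elim 0 u) ≠ 0 := by rw [hz, hu]; exact c.ne_zero
  have h0 : qMinusC k a b (Sum.elim 0 ![1, 0]) ≠ 0 := by rw [hz, h10]; exact one_ne_zero
  have hd := map_diagPlus_const (Abelianization.of.comp (embPlus k a b)) c
    (Abelianization.of (orefl (qMinusC k a b) (Sum.elim 0 u)) *
      Abelianization.of (orefl (qMinusC k a b) (Sum.elim 0 ![1, 0]))) fun i => by
    rw [MonoidHom.comp_apply, MonoidHom.comp_apply, embPlus_orefl, embPlus_orefl]
    refine cls_pair_eq hQ h2 (by omega) hu0 h0 hns (by rw [hpv]; simp) (by rw [hpv]; simp) ?_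
    rw [hpv, hpv, neg_div_neg_eq, div_one]
    exact hc
  rw [MonoidHom.comp_apply] at hd
  rw [hd]
  have hsq : ∀ x : Abelianization (orth (qMinusC k a b)), x * x = 1 → x ^ k = 1 := fun x hx => by
    obtain ⟨j, hj⟩ := hk
    refine (congrArg (fun i => x ^ i) hj).trans ?_
    show x ^ (j + j) = 1
    rw [← two_mul, pow_mul, _root_.sq, hx, one_pow]
  rw [hsq _ (cls_pair_sq _ _), one_mul]
  exact cls_pair_ne_one hQ h2 (by omega) hu0 h0 hns

end Cfsg.Agent.Lib.AutPOmega
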