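import Cfsg.Agent.Lib.AutPOmega.OutMinus

/-!
The structure of `Out` and of inner-diagonal modulo inner for the minus type.
-/

set_option autoImplicit false

namespace Cfsg.Agent.Lib.AutPOmega

open Module QuadraticMap Cfsg.Agent.Lib.Forms Cfsg.Agent.Lib.OrthOmega Cfsg.Agent.Lib.OrthStd
open Semisim

/-! ### Generic lemmas -/

theorem comm_of_normal_card_two {G : Type*} [Group G] (N : Subgroup G) [N.Normal]
    (h : Nat.card N = 2) {d : G} (hd : d ∈ N) (x : G) : Commute d x := by
  rcases eq_or_ne d 1 with rfl | hd1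
  · exact Commute.one_left x
  have hc : x * d * x⁻¹ ∈ N := Subgroup.Normal.conj_mem ‹_› d hd x
  have hne : (⟨d, hd⟩ : N) ≠ 1 := fun h0 => hd1 (congrArg Subtype.val h0)
  obtain ⟨a, ha, huniq⟩ := (Nat.card_eq_two_iff' (1 : N)).1 h
  have h1 : (⟨x * d * x⁻¹, hc⟩ : N) = ⟨d, hd⟩ :=
    (huniq _ (fun h0 => hd1 (conj_eq_one_iff.1 (congrArg Subtype.val h0)))).trans (huniq _ hne).symm
  exact (mul_inv_eq_iff_eq_mul.1 (congrArg Subtype.val h1)).symm

theorem conj_eq_or_inv {G : Type*} [Group G] [Finite G] (N : Subgroup G) [N.Normal] {a : G}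
    (hN : Subgroup.zpowers a = N) (h : orderOf a = 4) (x : G) :
    x * a * x⁻¹ = a ∨ x * a * x⁻¹ = a⁻¹ := by
  have hc : x * a * x⁻¹ ∈ Subgroup.zpowers a := by
    rw [hN]; exact Subgroup.Normal.conj_mem ‹_› a (hN ▸ Subgroup.mem_zpowers a) x
  obtain ⟨n, hn, he⟩ := (isOfFinOrder_of_finite a).mem_powers_iff_mem_zpowers.2 hc |>.imp
    fun n hn => And.intro (hn : a ^ n = x * a * x⁻¹) trivial
  have hmod : x * a * x⁻¹ = a ^ (n % 4) := by rw [← h, pow_mod_orderOf, hn]
  have ho : orderOf (x * a * x⁻¹) = 4 := by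
    rw [← h]; exact orderOf_injective (MulAut.conj x).toMonoidHom (MulAut.conj x).injective a
  have hlt := Nat.mod_lt n (show 0 < 4 by omega)
  interval_cases hr : n % 4 <;> rw [hmod] at ho ⊢
  · rw [pow_zero, orderOf_one] at ho; omega
  · exact Or.inl (pow_one a)
  · rw [orderOf_pow, h] at ho; norm_num at ho
  · refine Or.inr (eq_inv_of_mul_eq_one_left ?_)
    rw [← pow_succ, show 3 + 1 = orderOf a from h.symm]; exact pow_orderOf_eq_one a

/-- The homomorphism from the dihedral group of order eight. -/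
theorem exists_dihedral_hom {G : Type*} [Group G] {a b : G} (ha : orderOf a = 4) (hb : b * b = 1)
    (hba : b * a * b⁻¹ = a⁻¹) (hbn : b ∉ Subgroup.zpowers a) :
    ∃ φ : DihedralGroup 4 →* G, Function.Injective φ ∧
      ∀ x, φ x ∈ Subgroup.closure {a, b} := by
  obtain ⟨e⟩ := nonempty_zpowers_equiv a ha
  have hcyc : ∀ x : Subgroup.zpowers a, b * (x : G) * b⁻¹ = ((x : G))⁻¹ := by
    rintro ⟨x, n, rfl⟩
    show b * a ^ n * b⁻¹ = (a ^ n)⁻¹
    rw [← MulAut.conj_apply, map_zpow, MulAut.conj_apply, hba, inv_zpow]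
  let A : ZMod 4 → G := fun i => (e.symm (Multiplicative.ofAdd i) : G)
  have hA : ∀ i j, A (i + j) = A i * A j := fun i j => by
    show ((e.symm _ : Subgroup.zpowers a) : G) = _
    rw [ofAdd_add, map_mul, Subgroup.coe_mul]
  have hA0 : A 0 = 1 := by
    show ((e.symm _ : Subgroup.zpowers a) : G) = _
    rw [ofAdd_zero, map_one, Subgroup.coe_one]
  have hAneg : ∀ i, A (-i) = (A i)⁻¹ := fun i =>
    eq_inv_of_mul_eq_one_left (by rw [← hA, neg_add_cancel, hA0])
  have hbinv : b⁻¹ = b := inv_eq_of_mul_eq_one_left hb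
  have hAb : ∀ i, A i * b = b * A (-i) := fun i => by
    have h1 := hcyc (e.symm (Multiplicative.ofAdd i))
    rw [hbinv] at h1
    rw [hAneg, show (A i)⁻¹ = b * A i * b from h1.symm, ← mul_assoc, ← mul_assoc, hb, one_mul]
  let g : DihedralGroup 4 → G
    | DihedralGroup.r i => A i
    | DihedralGroup.sr i => b * A i
  let φ : DihedralGroup 4 →* G := MonoidHom.mk' g (by
    rintro (i | i) (j | j)
    · exact hA i j
    · show b * A (j - i) = A i * (b * A j)
      rw [← mul_assoc, hAb, mul_assoc, ← hA, neg_add_eq_sub]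
    · show b * A (i + j) = b * A i * A j
      rw [hA, mul_assoc]
    · show A (j - i) = b * A i * (b * A j)
      rw [mul_assoc, ← mul_assoc (A i), hAb, ← mul_assoc, ← mul_assoc, hb, one_mul, ← hA,
        neg_add_eq_sub])
  have hAmem : ∀ i, A i ∈ Subgroup.zpowers a := fun i => (e.symm _).2
  have hle : Subgroup.zpowers a ≤ Subgroup.closure {a, b} :=
    Subgroup.zpowers_le.2 (Subgroup.subset_closure (by simp))
  refine ⟨φ, (injective_iff_map_eq_one φ).2 ?_, ?_⟩
  · rintro (i | i) h
    · have h1 : e.symm (Multiplicative.ofAdd i) = 1 := Subtype.ext h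
      rw [map_eq_one_iff e.symm e.symm.injective] at h1
      rw [DihedralGroup.one_def, show i = 0 from Multiplicative.ofAdd.injective h1]
    · exact absurd (by
        rw [eq_inv_of_mul_eq_one_left (show b * A i = 1 from h)]; exact inv_mem (hAmem i)) hbn
  · rintro (i | i)
    · exact hle (hAmem i)
    · exact mul_mem (Subgroup.subset_closure (by simp)) (hle (hAmem i))

theorem mod_four_pow {q : ℕ} (hq : q % 4 = 3) (n : ℕ) :
    q ^ n % 4 = if Even n then 1 else 3 := by
  induction n with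
  | zero => simp
  | succ n ih =>
    rw [pow_succ, Nat.mul_mod, ih, hq]
    by_cases h : Even n <;> simp [h, Nat.even_add_one]

theorem gcd_four_pow_add_one {q n : ℕ} (hq : Odd q) (hn : 1 ≤ n) :
    Nat.gcd 4 (q ^ n + 1) = if q % 4 = 3 ∧ Odd n then 4 else 2 := by
  have hev : Even (q ^ n + 1) := (even_pow_add_one_iff hn).2 hq
  have hmod : (q ^ n + 1) % 4 = if q % 4 = 3 ∧ Odd n then 0 else 2 := by
    rcases (show q % 4 = 1 ∨ q % 4 = 3 by obtain ⟨i, rfl⟩ := hq; omega) with h | h
    · rw [if_neg (by omega), Nat.add_mod, Nat.pow_mod, h, one_pow]; rfl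
    · rw [Nat.add_mod, mod_four_pow h]
      rcases Nat.even_or_odd n with he | ho
      · rw [if_pos he, if_neg (fun hh => Nat.not_even_iff_odd.2 hh.2 he)]
      · rw [if_neg (Nat.not_even_iff_odd.2 ho), if_pos ⟨h, ho⟩]
  rcases gcd_four_cases hev with ⟨h4, hg⟩ | ⟨h4, hg⟩ <;> rw [hg] <;>
    split_ifs at hmod ⊢ <;> omega

/-! ### The minus type -/

section Minus

variable {F : Type*} [Field F] [Fintype F] {p f k : ℕ} {a b : F}
  (hab : ∀ z₁ z₂ : F, z₁ ^ 2 + a * z₁ * z₂ + b * z₂ ^ 2 = 0 → z₁ = 0 ∧ z₂ = 0) (hk : 3 ≤ k)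

theorem finrank_minus_space (F : Type*) [Field F] (k : ℕ) :
    finrank F ((Fin k ⊕ Fin k) ⊕ Fin 2 → F) = 2 * (k + 1) := by
  rw [finrank_fun]; simp; ring

theorem card_minus_index (k : ℕ) : Fintype.card ((Fin k ⊕ Fin k) ⊕ Fin 2) = 2 * (k + 1) := by
  simp; ring

theorem seven_le_minus (F : Type*) [Field F] {k : ℕ} (hk : 3 ≤ k) :
    7 ≤ finrank F ((Fin k ⊕ Fin k) ⊕ Fin 2 → F) := by
  rw [finrank_minus_space]; omega

theorem five_le_minus (F : Type*) [Field F] {k : ℕ} (hk : 3 ≤ k) :
    5 ≤ finrank F ((Fin k ⊕ Fin k) ⊕ Fin 2 → F) := by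
  rw [finrank_minus_space]; omega

/-- Semisimilarities of the minus form to `Out`. -/
noncomputable def outMinus :
    Semisim (qMinusC k a b) →* Cfsg.Out (Cfsg.POmega F (Cfsg.quadFormMinus k F a b)) :=
  outHom (qMinusC_nondeg k hab) (five_le_minus F hk) (quadFormMinus_eq k a b)

theorem outMinus_surjective : Function.Surjective (outMinus hab hk) :=
  outHom_surjective _ _ _ (seven_le_minus F hk) (noTriality_minus hab)

include hab hk in
theorem card_out_minus [Fact p.Prime] (hF : Fintype.card F = p ^ f) :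
    Nat.card (Cfsg.Out (Cfsg.POmega F (Cfsg.quadFormMinus k F a b))) =
      f * (2 * Nat.gcd 4 ((p ^ f) ^ (k + 1) + 1)) := by
  have h := card_out_mul (qMinusC_nondeg k hab) (five_le_minus F hk) (quadFormMinus_eq k a b)
    (seven_le_minus F hk) (noTriality_minus hab) (minus_tau_surjective k hab)
  have hO := card_isometry_minus hF (k + 1) (by omega) hab
  rw [Nat.add_sub_cancel] at hO
  rw [AutPSL.card_fieldAuts hF, mult_range_minus k hab, Subgroup.card_top, hO] at h
  have hP : 0 < Nat.card (Cfsg.POmega F (Cfsg.quadFormMinus k F a b)) := Nat.card_pos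
  have hU : 0 < Nat.card Fˣ := Nat.card_pos
  refine Nat.eq_of_mul_eq_mul_right (Nat.mul_pos hU hP) ?_
  rw [← mul_assoc, h]
  ring

theorem card_similitudes_minus [Fact p.Prime] (hF : Fintype.card F = p ^ f) :
    Nat.card ((similitudes (qMinusC k a b)).map (outMinus hab hk)) =
      2 * Nat.gcd 4 ((p ^ f) ^ (k + 1) + 1) := by
  have h := card_similitudes_out (qMinusC_nondeg k hab) (five_le_minus F hk) (quadFormMinus_eq k a b)
    (seven_le_minus F hk) (noTriality_minus hab) (minus_tau_surjective k hab)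
  rw [card_out_minus hab hk hF, AutPSL.card_fieldAuts hF] at h
  have hf : f ≠ 0 := by
    rintro rfl
    have := Fintype.one_lt_card (α := F)
    rw [hF, pow_zero] at this
    omega
  exact Nat.eq_of_mul_eq_mul_left (by omega) h

theorem card_proper_minus [Fact p.Prime] (hF : Fintype.card F = p ^ f) (h2 : (2 : F) ≠ 0) :
    Nat.card ((propDet (qMinusC k a b) (k + 1)).map (outMinus hab hk)) =
      Nat.gcd 4 ((p ^ f) ^ (k + 1) + 1) := by
  have h := card_propDet_out (qMinusC_nondeg k hab) (five_le_minus F hk) (quadFormMinus_eq k a b)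
    (seven_le_minus F hk) (card_minus_index k) h2
  have h' := card_similitudes_minus hab hk hF
  unfold outMinus at h' ⊢
  omega

theorem ker_outMinus_le (h2 : (2 : F) ≠ 0) :
    (outMinus hab hk).ker ≤ propDet (qMinusC k a b) (k + 1) :=
  ker_outHom_le_propDet _ _ _ (seven_le_minus F hk) (card_minus_index k)

omit [Fintype F] in
theorem qMinusC_frobVec_ne [Finite F]
    (hab : ∀ z₁ z₂ : F, z₁ ^ 2 + a * z₁ * z₂ + b * z₂ ^ 2 = 0 → z₁ = 0 ∧ z₂ = 0) :
    qMinusC k a b (frobVec k a) ≠ 0 := by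
  rw [qMinusC_frobVec]; exact neg_ne_zero.2 (disc_ne_zero hab)

theorem orefl_notMem_ker {v : (Fin k ⊕ Fin k) ⊕ Fin 2 → F} (hv : qMinusC k a b v ≠ 0) :
    orthHom (orefl (qMinusC k a b) v) ∉ (outMinus hab hk).ker := by
  by_cases h2 : (2 : F) = 0
  · intro h
    obtain ⟨l, g, hg, he⟩ := (mem_ker_outHom _ _ _ (seven_le_minus F hk) _).1 h
    have hl : (l : F) * l = 1 := by
      have h1 := congrArg Semisim.c he
      rw [mul_c, tau_apply_of_mem (scalar_mem l)] at h1
      have h1' : (1 : F) = (l : F) * l * 1 := h1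
      linear_combination -h1'
    have hl1 : l = 1 := Units.ext (by
      rcases mul_self_eq_one_iff.1 hl with h3 | h3
      · exact h3
      · rw [Units.val_one, h3]; linear_combination -h2)
    rw [hl1, map_one, one_mul] at he
    have h4 := orthHom_injective he
    have hd := dicksonHom_orefl (qMinusC_nondeg k hab) (ne01_or F hk) hv
    rw [h4] at hd
    have hle : EG (qMinusC k a b) ≤ (dicksonHom (qMinusC_nondeg k hab) (ne01_or F hk)).ker := by
      rw [← commutator_eq_EG (qMinusC_nondeg k hab) (five_le_minus F hk)]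
      exact Abelianization.commutator_subset_ker _
    rw [MonoidHom.mem_ker.1 (hle hg)] at hd
    exact absurd hd (by decide)
  · exact fun h => orefl_notMem_propDet (qMinusC_nondeg k hab) h2 (k + 1) hv (ker_outMinus_le hab hk h2 h)

/-- The image of the Frobenius element has order `2f`. -/
theorem exists_frobenius_out [Fact p.Prime] (hF : Fintype.card F = p ^ f) :
    ∃ S : Semisim (qMinusC k a b), S.c = 1 ∧
      S.toAdd (Sum.elim (0 : Fin k ⊕ Fin k → F) ![1, 0]) =
        Sum.elim (0 : Fin k ⊕ Fin k → F) ![1, 0] ∧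
      orderOf (outMinus hab hk S) = 2 * f ∧
      (∀ n, outMinus hab hk S ^ n ∈ (similitudes (qMinusC k a b)).map (outMinus hab hk) → f ∣ n) ∧
      outMinus hab hk S ^ f = outMinus hab hk (orthHom (orefl (qMinusC k a b) (frobVec k a))) := by
  have := charP_of_card_eq_prime_pow hF
  have hp := (Fact.out : p.Prime)
  have hf : 1 ≤ f := by
    by_contra h
    have := Fintype.one_lt_card (α := F)
    rw [hF, show f = 0 by omega, pow_zero] at this
    omega
  obtain ⟨S, hτ, hc, hfix, hpow⟩ := exists_frobenius_pow k hF hab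
  have hdvd : ∀ n, outMinus hab hk S ^ n ∈
      (similitudes (qMinusC k a b)).map (outMinus hab hk) → f ∣ n := fun n hn => by
    rw [← map_pow] at hn
    rw [outMinus, outHom_mem_map_iff _ _ _ (ker_outHom_le_similitudes _ _ _ (seven_le_minus F hk)),
      mem_similitudes] at hn
    refine dvd_of_forall_pow_eq hp.two_le hf hF fun t => ?_
    rw [← tau_pow hτ n t, hn]
    rfl
  refine ⟨S, hc, hfix, ?_, hdvd, by rw [← map_pow, hpow]⟩
  have hr2 : outMinus hab hk S ^ (2 * f) = 1 := by
    rw [mul_comm, pow_mul, ← map_pow, hpow, ← map_pow, ← map_pow, _root_.sq,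
      show orefl (qMinusC k a b) (frobVec k a) * orefl (qMinusC k a b) (frobVec k a) = 1 from
        Subtype.ext (refl_mul_self _ _), map_one, map_one]
  have hne : outMinus hab hk S ^ f ≠ 1 := by
    rw [← map_pow, hpow]
    exact fun h => orefl_notMem_ker hab hk (qMinusC_frobVec_ne hab) h
  obtain ⟨j, hj⟩ := hdvd _ (by rw [pow_orderOf_eq_one]; exact one_mem _)
  have h1 := orderOf_dvd_of_pow_eq_one hr2
  rw [hj] at h1 ⊢
  have h3 : j ∣ 2 := Nat.dvd_of_mul_dvd_mul_left hf (by rwa [mul_comm 2 f] at h1)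
  rcases (Nat.dvd_prime Nat.prime_two).1 h3 with rfl | rfl
  · rw [mul_one] at hj
    exact absurd (hj ▸ pow_orderOf_eq_one _) hne
  · ring

/-- The diagonal element: the proper part is cyclic of order four when `-1` is in `EG`. -/
theorem exists_diag_out [Fact p.Prime] (hF : Fintype.card F = p ^ f) (h2 : (2 : F) ≠ 0)
    (hkeven : Even k) (hq : p ^ f % 4 = 3) :
    ∃ D : Semisim (qMinusC k a b), ¬ IsSquare D.c ∧ orderOf (outMinus hab hk D) = 4 ∧
      Subgroup.zpowers (outMinus hab hk D) =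
        (propDet (qMinusC k a b) (k + 1)).map (outMinus hab hk) ∧
      (∃ n ∈ EG (qMinusC k a b), ∀ x, n.1 x = -x) := by
  have hg : Nat.gcd 4 ((p ^ f) ^ (k + 1) + 1) = 4 := by
    rw [gcd_four_pow_add_one (Nat.odd_iff.2 (by omega)) (by omega),
      if_pos ⟨hq, Even.add_one hkeven⟩]
  have hneg : ∃ n ∈ EG (qMinusC k a b), ∀ x, n.1 x = -x := by
    refine exists_neg_mem (qMinusC_nondeg k hab) (five_le_minus F hk) (quadFormMinus_eq k a b) h2 ?_
    have hO := card_isometry_minus hF (k + 1) (by omega) hab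
    rw [Nat.add_sub_cancel, hg] at hO
    rw [hO]
  obtain ⟨ν, hν⟩ := exists_nonsq h2
  have hν0 : ν ≠ 0 := fun h => hν (h ▸ IsSquare.zero)
  obtain ⟨D, u, hu, hDc, hDP, hDD⟩ := exists_diag k hab (Units.mk0 ν hν0)
  have hmem : outMinus hab hk D ∈ (propDet (qMinusC k a b) (k + 1)).map (outMinus hab hk) :=
    Subgroup.mem_map_of_mem _ hDP
  have hcard : Nat.card ((propDet (qMinusC k a b) (k + 1)).map (outMinus hab hk)) = 4 := by
    rw [card_proper_minus hab hk hF h2, hg]
  have h4 : orderOf (outMinus hab hk D) = 4 := by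
    refine orderOf_eq_prime_pow (p := 2) (n := 1) ?_ ?_
    · rw [pow_one, _root_.sq, ← map_mul, hDD, map_mul]
      intro h
      have hs : outMinus hab hk (scalar (Units.mk0 ν hν0)) = 1 := by
        refine (mem_ker_outHom _ _ _ (seven_le_minus F hk) _).2
          ⟨Units.mk0 ν hν0, (1 : orth (qMinusC k a b)), one_mem _, ?_⟩
        rw [map_one, mul_one]
      rw [hs, one_mul] at h
      exact diag_sq_notMem_EG hkeven (by omega) hab h2 hν hu
        (orth_mem_ker_outHom _ _ _ (seven_le_minus F hk) hneg h)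
    · have := congrArg Subtype.val (pow_card_eq_one' (G := ((propDet (qMinusC k a b) (k + 1)).map
        (outMinus hab hk))) (x := ⟨_, hmem⟩))
      rw [hcard] at this
      exact this
  refine ⟨D, by rw [hDc]; exact hν, h4, ?_, hneg⟩
  exact Subgroup.eq_of_le_of_card_ge (Subgroup.zpowers_le.2 hmem)
    (by rw [Nat.card_zpowers, h4, hcard])

end Minus

end Cfsg.Agent.Lib.AutPOmega
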