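import Cfsg.Agent.Lib.AutPOmega.OutPlus

/-!
`PGO` and `PSO` modulo `PΩ` in even dimension.
-/

set_option autoImplicit false

namespace Cfsg.Agent.Lib.AutPOmega

open Module QuadraticMap Cfsg.Agent.Lib.Forms Cfsg.Agent.Lib.OrthOmega Cfsg.Agent.Lib.OrthStd
open Semisim
open scoped Matrix

variable {F : Type*} [Field F] {ι : Type} [Fintype ι] [DecidableEq ι]
  {Q : QuadraticForm F (ι → F)} {f : (ι → F) → F}

variable (Q) in
/-- The special orthogonal group inside the semisimilarities. -/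
noncomputable def soSim (m : ℕ) : Subgroup (Semisim Q) :=
  propDet Q m ⊓ (orthHom (Q := Q)).range

theorem soSim_normal (m : ℕ) : (soSim Q m).Normal := ⟨fun T hT S =>
  ⟨(propDet_normal m).conj_mem T hT.1 S, by
    obtain ⟨g, rfl⟩ := hT.2
    exact ⟨S.conjO g, (conj_orthHom S g).symm⟩⟩⟩

theorem soSim_le (m : ℕ) : soSim Q m ≤ similitudes Q := fun _ h => (mem_propDet.1 h.1).1

variable [Finite F] (hQ : Nondeg Q) (h5 : 5 ≤ finrank F (ι → F)) (h7 : 7 ≤ finrank F (ι → F))
  (hf : ∀ v, f v = Q v) {m : ℕ} (hn : Fintype.card ι = 2 * m) (h2 : (2 : F) ≠ 0)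

include hQ h5 in
theorem psoAut_eq : Cfsg.psoAut F f = (soSim Q m).map (omegaAct hQ h5 hf) := by
  refine closure_eq_map hQ h5 hf (fun g => g ∈ Cfsg.specialIsometryGL F f) (fun g h => ⟨1, fun v => by
    rw [Units.val_one, one_mul]; exact h.1 v v⟩) _ (soSim_le m) fun S hS => ?_
  constructor
  · rintro ⟨h1, g, rfl⟩
    refine ⟨mat_orth_mem hf g, Units.ext ?_⟩
    have h := (mem_propDet.1 h1).2
    rw [show (orthHom g).c = 1 from rfl, one_pow] at h
    exact h
  · rintro ⟨h1, h3⟩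
    obtain ⟨g, rfl⟩ := (mem_orth_range_iff hQ h5 hf hS).2 h1
    refine ⟨⟨hS, ?_⟩, g, rfl⟩
    rw [show (orthHom g).c = 1 from rfl, one_pow]
    exact congrArg Units.val h3

variable {D : Semisim Q} (hD : D ∈ propDet Q m) (hDc : ¬ IsSquare D.c)

include h7 hn in
theorem scalar_mem_ker_outHom (l : Fˣ) : scalar l ∈ (outHom hQ h5 hf).ker :=
  (mem_ker_outHom hQ h5 hf h7 _).2 ⟨l, (1 : orth Q), one_mem _, by rw [map_one, mul_one]⟩

include h7 hn h2 hD hDc in
theorem outHom_mem_so_or (x : Semisim Q) (hx : x ∈ propDet Q m) :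
    outHom hQ h5 hf x ∈ (soSim Q m).map (outHom hQ h5 hf) ∨
      outHom hQ h5 hf D * outHom hQ h5 hf x ∈ (soSim Q m).map (outHom hQ h5 hf) := by
  have key : ∀ y ∈ propDet Q m, IsSquare y.c →
      outHom hQ h5 hf y ∈ (soSim Q m).map (outHom hQ h5 hf) := by
    intro y hy hsq
    obtain ⟨t, ht⟩ := hsq
    have ht0 : t ≠ 0 := fun h => y.c_ne (by rw [ht, h, mul_zero])
    set l := Units.mk0 t ht0
    have hs : scalar l ∈ propDet Q m :=
      ker_outHom_le_propDet hQ h5 hf h7 hn (scalar_mem_ker_outHom hQ h5 h7 hf hn l)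
    have hmem := mul_mem (inv_mem hs) hy
    obtain ⟨g, hg⟩ := exists_orth (mem_propDet.1 hmem).1 (by
      show (t * t)⁻¹ * y.c = 1
      rw [← ht, inv_mul_cancel₀ y.c_ne])
    refine ⟨(scalar l)⁻¹ * y, ⟨hmem, g, hg.symm⟩, ?_⟩
    rw [map_mul, map_inv, MonoidHom.mem_ker.1 (scalar_mem_ker_outHom hQ h5 h7 hf hn l), inv_one,
      one_mul]
  by_cases hsq : IsSquare x.c
  · exact Or.inl (key x hx hsq)
  · refine Or.inr ?_
    rw [← map_mul]
    refine key _ (mul_mem hD hx) ?_
    rw [mul_c, tau_apply_of_mem (mem_propDet.1 hD).1]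
    have h := isSquare_div_of_not h2 hDc (y := x.c⁻¹) (by rwa [isSquare_inv])
    rwa [div_inv_eq_mul] at h

include h7 hn hD hDc in
theorem outHom_notMem_so :
    outHom hQ h5 hf D ∉ (soSim Q m).map (outHom hQ h5 hf) := by
  rintro ⟨T, ⟨-, g, rfl⟩, he⟩
  have hk : (orthHom g)⁻¹ * D ∈ (outHom hQ h5 hf).ker := by
    rw [MonoidHom.mem_ker, map_mul, map_inv, he, inv_mul_cancel]
  obtain ⟨l, k, -, hlk⟩ := (mem_ker_outHom hQ h5 hf h7 _).1 hk
  refine hDc ⟨(l : F), ?_⟩
  have h1 := congrArg Semisim.c hlk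
  rw [mul_c, mul_c] at h1
  show D.c = _
  have e1 : ((orthHom g)⁻¹).c = 1 := by rw [← map_inv]; rfl
  rw [e1, tau_apply_of_mem (inv_mem (orthHom_mem g)), one_mul] at h1
  rw [h1]
  show (l : F) * l * 1 = _
  rw [mul_one]

include h7 hn h2 hD hDc in
theorem card_so_out :
    Nat.card ((propDet Q m).map (outHom hQ h5 hf)) =
      2 * Nat.card ((soSim Q m).map (outHom hQ h5 hf)) := by
  refine card_eq_two_mul_of_coset (Subgroup.map_mono inf_le_left)
    (r := outHom hQ h5 hf D) (Subgroup.mem_map_of_mem _ hD)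
    (outHom_notMem_so hQ h5 h7 hf hn hD hDc) ?_
  rintro _ ⟨x, hx, rfl⟩
  exact outHom_mem_so_or hQ h5 h7 hf hn h2 hD hDc x hx

include hQ h5 in
theorem relIndex_inn_eq (H : Subgroup (Semisim Q)) (hH : (EG Q).map orthHom ≤ H) :
    (Cfsg.Inn (Cfsg.POmega F f)).relIndex (H.map (omegaAct hQ h5 hf)) =
      Nat.card (H.map (outHom hQ h5 hf)) := by
  set A := H.map (omegaAct hQ h5 hf)
  set g := (QuotientGroup.mk' (Cfsg.Inn (Cfsg.POmega F f))).comp A.subtype
  have hrange : g.range = H.map (outHom hQ h5 hf) := by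
    rw [MonoidHom.range_comp, Subgroup.range_subtype, Subgroup.map_map]
    rfl
  have hker : g.ker = (Cfsg.Inn (Cfsg.POmega F f)).subgroupOf A := by
    rw [← MonoidHom.comap_ker, QuotientGroup.ker_mk']
    rfl
  rw [Subgroup.relIndex, ← hker, Subgroup.index_ker, hrange]

include hQ h5 in
theorem eg_le_soSim : (EG Q).map orthHom ≤ soSim Q m := by
  rintro _ ⟨g, hg, rfl⟩
  exact ⟨⟨orthHom_mem g, by rw [sdet_eg hQ h5 hg]; exact (one_pow m).symm⟩, g, rfl⟩

theorem outHom_orefl_sq (v : ι → F) :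
    outHom hQ h5 hf (orthHom (orefl Q v)) * outHom hQ h5 hf (orthHom (orefl Q v)) = 1 := by
  rw [← map_mul, ← map_mul, show orefl Q v * orefl Q v = 1 from Subtype.ext (refl_mul_self Q v),
    map_one, map_one]

include h7 hn h2 in
theorem outHom_orefl_notMem {v : ι → F} (hv : Q v ≠ 0) :
    outHom hQ h5 hf (orthHom (orefl Q v)) ∉ (propDet Q m).map (outHom hQ h5 hf) := fun h =>
  orefl_notMem_propDet hQ h2 m hv
    ((outHom_mem_map_iff hQ h5 hf (ker_outHom_le_propDet hQ h5 hf h7 hn) _).1 h)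

include h7 hn h2 hD hDc in
/-- `PGO` modulo `PΩ` when `-1` is not in `EG`. -/
theorem nonempty_pgo_klein
    (hP : Nat.card ((propDet Q m).map (outHom hQ h5 hf)) = 2) :
    Nonempty ((similitudes Q).map (outHom hQ h5 hf) ≃* Multiplicative (ZMod 2 × ZMod 2)) := by
  obtain ⟨v, hv⟩ := exists_Q_eq hQ (by omega) (1 : F)
  have hv0 : Q v ≠ 0 := by rw [hv]; exact one_ne_zero
  set L := (similitudes Q).map (outHom hQ h5 hf)
  set P := (propDet Q m).map (outHom hQ h5 hf)
  have hPL : P ≤ L := Subgroup.map_mono fun S hS => (mem_propDet.1 hS).1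
  have hL : Nat.card L = 2 ^ 2 := by rw [card_propDet_out hQ h5 hf h7 hn h2, hP]; rfl
  set r : L := ⟨_, Subgroup.mem_map_of_mem _ (orthHom_mem (orefl Q v))⟩
  have hor : orderOf r = 2 := orderOf_eq_prime
    (by rw [_root_.sq]; exact Subtype.ext (outHom_orefl_sq hQ h5 hf v))
    fun h0 => outHom_orefl_notMem hQ h5 h7 hf hn h2 hv0 (by
      rw [show outHom hQ h5 hf (orthHom (orefl Q v)) = 1 from congrArg Subtype.val h0]
      exact one_mem _)
  have : IsCyclic (P.subgroupOf L) := isCyclic_of_prime_card (p := 2) (by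
    rw [Nat.card_congr (Subgroup.subgroupOfEquivOfLe hPL).toEquiv, hP])
  let e₁ : P.subgroupOf L ≃* Multiplicative (ZMod 2) := mulEquivOfCyclicCardEq (by
    rw [Nat.card_congr Multiplicative.toAdd, Nat.card_zmod,
      Nat.card_congr (Subgroup.subgroupOfEquivOfLe hPL).toEquiv, hP])
  obtain ⟨e₂⟩ := nonempty_zpowers_equiv r hor
  obtain ⟨E⟩ := nonempty_equiv_prod ((P.subgroupOf L).subtype.comp e₁.symm.toMonoidHom)
    ((Subgroup.zpowers r).subtype.comp e₂.symm.toMonoidHom)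
    (fun x y => IsPGroup.commutative_of_card_eq_prime_sq (p := 2) hL _ _)
    (Subtype.coe_injective.comp e₁.symm.injective) (Subtype.coe_injective.comp e₂.symm.injective)
    (fun x y h' => by
      have h1 : ((e₁.symm x : P.subgroupOf L) : L) = ((e₂.symm y : Subgroup.zpowers r) : L) := h'
      show ((e₁.symm x : P.subgroupOf L) : L) = 1
      obtain ⟨i, hi⟩ := Subgroup.mem_zpowers_iff.1 (e₂.symm y).2
      rw [← zpow_mod_orderOf r i, hor] at hi
      rcases Int.emod_two_eq i with h | h <;> simp [h] at hi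
      · rw [h1, ← hi]
      · exfalso
        refine outHom_orefl_notMem hQ h5 h7 hf hn h2 hv0 ?_
        have h3 : r ∈ P.subgroupOf L := by rw [hi, ← h1]; exact (e₁.symm x).2
        exact h3)
    (by rw [hL, Nat.card_congr Multiplicative.toAdd, Nat.card_zmod]; rfl)
  exact ⟨E.trans (MulEquiv.prodMultiplicative _ _).symm⟩

include h7 hn h2 hD hDc in
/-- `PGO` modulo `PΩ` when `-1` is in `EG`. -/
theorem nonempty_pgo_dihedral (hneg : ∃ k ∈ EG Q, ∀ x, k.1 x = -x)
    (hP : Nat.card ((propDet Q m).map (outHom hQ h5 hf)) = 4) :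
    Nonempty ((similitudes Q).map (outHom hQ h5 hf) ≃* DihedralGroup 4) := by
  obtain ⟨v, hv⟩ := exists_Q_eq hQ (by omega) (1 : F)
  have hv0 : Q v ≠ 0 := by rw [hv]; exact one_ne_zero
  set Φ := outHom hQ h5 hf
  set L := (similitudes Q).map Φ
  set P := (propDet Q m).map Φ
  set S₀ := (soSim Q m).map Φ
  set r := Φ (orthHom (orefl Q v))
  have hDs := (mem_propDet.1 hD).1
  have hrr : r * r = 1 := outHom_orefl_sq hQ h5 hf v
  have hrinv : r⁻¹ = r := inv_eq_of_mul_eq_one_left hrr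
  have hncomm : Φ D * r * (Φ D)⁻¹ ≠ r := by
    intro hcom
    rw [← map_mul, ← map_inv, ← map_mul, conj_orthHom, conjO_orefl] at hcom
    have hker : orthHom (orefl Q (D.toAdd v) * orefl Q v) ∈ Φ.ker := by
      rw [MonoidHom.mem_ker, map_mul, map_mul, hcom, hrr]
    have hEG := orth_mem_ker_outHom hQ h5 hf h7 hneg hker
    rw [← cls_eq_one_iff hQ h5, map_mul] at hEG
    have hw : Q (D.toAdd v) = D.c * Q v := by rw [D.map_Q', tau_apply_of_mem hDs]
    refine cls_pair_ne_one hQ h2 (by omega) (by rw [hw]; exact mul_ne_zero D.c_ne hv0) hv0 ?_ hEG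
    rw [hw, div_mul_cancel_right₀ hv0, isSquare_inv]
    exact hDc
  have hrP : r ∉ P := outHom_orefl_notMem hQ h5 h7 hf hn h2 hv0
  have hL : Nat.card L = 8 := by rw [card_propDet_out hQ h5 hf h7 hn h2, hP]
  have hS₀ : Nat.card S₀ = 2 := by
    have := card_so_out hQ h5 h7 hf hn h2 hD hDc
    change Nat.card P = 2 * Nat.card S₀ at this
    omega
  obtain ⟨a, haL, ha, hra, hna⟩ : ∃ a ∈ L, orderOf a = 4 ∧ r * a * r⁻¹ = a⁻¹ ∧
      r ∉ Subgroup.zpowers a := by
    have hDP : Φ D ∈ P := Subgroup.mem_map_of_mem _ hD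
    have hDL : Φ D ∈ L := Subgroup.mem_map_of_mem _ hDs
    have h4 : Φ D ^ 4 = 1 := by
      have := congrArg Subtype.val (pow_card_eq_one' (G := P) (x := ⟨_, hDP⟩))
      rwa [hP] at this
    by_cases hD2 : Φ D * Φ D = 1
    · refine ⟨Φ D * r, mul_mem hDL (Subgroup.mem_map_of_mem _ (orthHom_mem _)), ?_, ?_, ?_⟩
      · have hne : (Φ D * r) ^ 2 ≠ 1 := fun h => hncomm (by
          rw [inv_eq_of_mul_eq_one_left hD2]
          rw [_root_.sq, mul_assoc, ← mul_assoc r] at h
          calc Φ D * r * Φ D = Φ D * r * Φ D * (r * r) := by rw [hrr, mul_one]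
            _ = (Φ D * (r * Φ D * r)) * r := by group
            _ = r := by rw [h, one_mul])
        have hmem : (Φ D * r) ^ 2 ∈ S₀ := by
          refine ⟨orthHom (orefl Q (D.toAdd v) * orefl Q v), ⟨⟨orthHom_mem _, ?_⟩, _, rfl⟩, ?_⟩
          · have hw : Q (D.toAdd v) ≠ 0 := by
              rw [D.map_Q', tau_apply_of_mem hDs]; exact mul_ne_zero D.c_ne hv0
            rw [map_mul, sdet_mul, tau_apply_of_mem (orthHom_mem _),
              sdet_orefl hQ (Or.inl (exists_ne01 h2)) hw, sdet_orefl hQ (Or.inl (exists_ne01 h2)) hv0]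
            show (-1 : F) * -1 = (1 * 1) ^ m
            rw [one_mul, one_pow]; ring
          · rw [map_mul, map_mul, ← conjO_orefl, ← conj_orthHom, map_mul, map_mul, map_inv,
              inv_eq_of_mul_eq_one_left hD2, _root_.sq]
            simp only [mul_assoc]
            rfl
        refine orderOf_eq_prime_pow (p := 2) (n := 1) (by rwa [pow_one]) ?_
        rw [show 2 ^ (1 + 1) = 2 * 2 from rfl, pow_mul]
        have := congrArg Subtype.val (pow_card_eq_one' (G := S₀) (x := ⟨_, hmem⟩))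
        rw [hS₀] at this
        exact this
      · rw [_root_.mul_inv_rev, inv_eq_of_mul_eq_one_left hD2, hrinv, mul_assoc, mul_assoc, hrr,
          mul_one]
      · intro hr'
        obtain ⟨i, hi⟩ := Subgroup.mem_zpowers_iff.1 hr'
        have hc : Commute ((Φ D * r) ^ i) (Φ D * r) := (Commute.refl (Φ D * r)).zpow_left i
        rw [hi] at hc
        have hc2 : Commute r (Φ D) := by
          have := hc.mul_right (Commute.refl r)
          rwa [mul_assoc, hrr, mul_one] at this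
        exact hncomm (by rw [← hc2.eq, mul_inv_cancel_right])
    · have ha : orderOf (Φ D) = 4 :=
        orderOf_eq_prime_pow (p := 2) (n := 1) (by rwa [pow_one, _root_.sq]) h4
      have hz : Subgroup.zpowers (Φ D) = P := Subgroup.eq_of_le_of_card_ge
        (Subgroup.zpowers_le.2 hDP) (by rw [Nat.card_zpowers, ha, hP])
      have hPL : P ≤ L := Subgroup.map_mono fun S hS => (mem_propDet.1 hS).1
      set d : L := ⟨Φ D, hDL⟩
      set r' : L := ⟨r, Subgroup.mem_map_of_mem _ (orthHom_mem _)⟩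
      have : (P.subgroupOf L).Normal := Subgroup.normal_of_index_eq_two (by
        have h1 := Subgroup.index_mul_card (P.subgroupOf L)
        rw [Nat.card_congr (Subgroup.subgroupOfEquivOfLe hPL).toEquiv, hP, hL] at h1
        omega)
      have had : orderOf d = 4 := (Subgroup.orderOf_coe d).symm.trans ha
      have hzd : Subgroup.zpowers d = P.subgroupOf L := by
        refine Subgroup.eq_of_le_of_card_ge (Subgroup.zpowers_le.2 hDP) (le_of_eq ?_)
        rw [Nat.card_zpowers, had, Nat.card_congr (Subgroup.subgroupOfEquivOfLe hPL).toEquiv, hP]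
      refine ⟨Φ D, hDL, ha, ?_, hz ▸ hrP⟩
      rcases conj_eq_or_inv (P.subgroupOf L) hzd had r' with h | h
      · have h' : r * Φ D * r⁻¹ = Φ D := congrArg Subtype.val h
        rw [mul_inv_eq_iff_eq_mul] at h'
        exact absurd (mul_inv_eq_iff_eq_mul.2 h'.symm) hncomm
      · exact congrArg Subtype.val h
  obtain ⟨δ, hδ, hδm⟩ := exists_dihedral_hom ha hrr hra hna
  have hle : Subgroup.closure {a, r} ≤ L := by
    rw [Subgroup.closure_le]
    rintro z (rfl | rfl)
    · exact haL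
    · exact Subgroup.mem_map_of_mem _ (orthHom_mem _)
  let δ' := δ.codRestrict L fun x => hle (hδm x)
  have hinj : Function.Injective δ' := fun x y h => hδ (congrArg Subtype.val h)
  exact ⟨(MulEquiv.ofBijective δ' (hinj.bijective_of_nat_card_le (by
    rw [hL, DihedralGroup.nat_card]))).symm⟩

include hQ h5 h7 hf hn h2 hD hDc in
/-- `PGO` modulo `PSO`. -/
theorem exists_pgo_mod_pso :
    ∃ φ : Cfsg.pgoAut F f →* Multiplicative (ZMod 2 × ZMod 2), Function.Surjective φ ∧
      φ.ker = (Cfsg.psoAut F f).subgroupOf (Cfsg.pgoAut F f) := by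
  obtain ⟨v, hv⟩ := exists_Q_eq hQ (by omega) (1 : F)
  have hv0 : Q v ≠ 0 := by rw [hv]; exact one_ne_zero
  set L := (similitudes Q).map (outHom hQ h5 hf)
  set P := (propDet Q m).map (outHom hQ h5 hf)
  set S₀ := (soSim Q m).map (outHom hQ h5 hf)
  have hPL : P ≤ L := Subgroup.map_mono fun S hS => (mem_propDet.1 hS).1
  have hSP : S₀ ≤ P := Subgroup.map_mono inf_le_left
  have hSL : S₀ ≤ L := hSP.trans hPL
  set N := S₀.subgroupOf L with hN
  have : N.Normal := ⟨by
    rintro ⟨_, x, hx, rfl⟩ hn' ⟨_, y, hy, rfl⟩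
    obtain ⟨z, hz, hze⟩ : outHom hQ h5 hf x ∈ S₀ := hn'
    refine ⟨y * z * y⁻¹, (soSim_normal m).conj_mem z hz y, ?_⟩
    rw [map_mul, map_mul, map_inv, hze]
    rfl⟩
  have hV : Nat.card (L ⧸ N) = 2 ^ 2 := by
    have h1 := Subgroup.card_eq_card_quotient_mul_card_subgroup N
    rw [hN, Nat.card_congr (Subgroup.subgroupOfEquivOfLe hSL).toEquiv] at h1
    have h3 := card_propDet_out hQ h5 hf h7 hn h2
    have h4 := card_so_out hQ h5 h7 hf hn h2 hD hDc
    change Nat.card L = 2 * Nat.card P at h3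
    change Nat.card P = 2 * Nat.card S₀ at h4
    rw [h3, h4, ← mul_assoc] at h1
    exact (Nat.eq_of_mul_eq_mul_right Nat.card_pos h1).symm
  set mk := QuotientGroup.mk' N
  set r : L := ⟨_, Subgroup.mem_map_of_mem _ (orthHom_mem (orefl Q v))⟩ with hr
  set d : L := ⟨_, Subgroup.mem_map_of_mem _ (mem_propDet.1 hD).1⟩ with hd'
  have hmk : ∀ x : L, mk x = 1 ↔ (x : Cfsg.Out (Cfsg.POmega F f)) ∈ S₀ := fun x =>
    QuotientGroup.eq_one_iff x
  have hdP : (d : Cfsg.Out (Cfsg.POmega F f)) ∈ P := Subgroup.mem_map_of_mem _ hD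
  have hrP : (r : Cfsg.Out (Cfsg.POmega F f)) ∉ P := outHom_orefl_notMem hQ h5 h7 hf hn h2 hv0
  have hor : orderOf (mk r) = 2 := orderOf_eq_prime
    (by
      rw [← map_pow, _root_.sq, show r * r = 1 from Subtype.ext (outHom_orefl_sq hQ h5 hf v),
        map_one])
    fun h0 => hrP (hSP ((hmk r).1 h0))
  have hod : orderOf (mk d) = 2 := orderOf_eq_prime
    (by
      rw [← map_pow, hmk, _root_.sq]
      exact (outHom_mem_so_or hQ h5 h7 hf hn h2 hD hDc D hD).resolve_left
        (outHom_notMem_so hQ h5 h7 hf hn hD hDc))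
    fun h0 => outHom_notMem_so hQ h5 h7 hf hn hD hDc ((hmk d).1 h0)
  obtain ⟨e₁⟩ := nonempty_zpowers_equiv (mk d) hod
  obtain ⟨e₂⟩ := nonempty_zpowers_equiv (mk r) hor
  obtain ⟨E⟩ := nonempty_equiv_prod ((Subgroup.zpowers (mk d)).subtype.comp e₁.symm.toMonoidHom)
    ((Subgroup.zpowers (mk r)).subtype.comp e₂.symm.toMonoidHom)
    (fun x y => IsPGroup.commutative_of_card_eq_prime_sq (p := 2) hV _ _)
    (Subtype.coe_injective.comp e₁.symm.injective) (Subtype.coe_injective.comp e₂.symm.injective)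
    (fun x y h' => by
      have h1 : ((e₁.symm x : Subgroup.zpowers (mk d)) : L ⧸ N) =
          ((e₂.symm y : Subgroup.zpowers (mk r)) : L ⧸ N) := h'
      show ((e₁.symm x : Subgroup.zpowers (mk d)) : L ⧸ N) = 1
      have hz : ∀ (z : L ⧸ N), orderOf z = 2 → ∀ w ∈ Subgroup.zpowers z, w = 1 ∨ w = z := by
        intro z hz w hw
        obtain ⟨i, rfl⟩ := Subgroup.mem_zpowers_iff.1 hw
        rw [← zpow_mod_orderOf z i, hz]
        rcases Int.emod_two_eq i with hi | hi <;> simp [hi]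
      rcases hz _ hod _ (e₁.symm x).2 with e | e
      · exact e
      · rcases hz _ hor _ (e₂.symm y).2 with e' | e'
        · rw [h1, e']
        · rw [e, e', ← mul_inv_eq_one, ← map_inv, ← map_mul, hmk] at h1
          exfalso
          refine hrP ?_
          have h3 := P.mul_mem (P.inv_mem (hSP h1)) hdP
          simpa using h3)
    (by rw [hV, Nat.card_congr Multiplicative.toAdd, Nat.card_zmod]; rfl)
  have hA := pgoAut_eq hQ h5 hf
  let ψ : Cfsg.pgoAut F f →* L :=
    ((QuotientGroup.mk' (Cfsg.Inn (Cfsg.POmega F f))).comp (Subgroup.subtype _)).codRestrict L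
      (by
        rintro ⟨β, hβ⟩
        rw [hA] at hβ
        obtain ⟨S, hS, rfl⟩ := hβ
        exact ⟨S, hS, rfl⟩)
  let e := E.trans (MulEquiv.prodMultiplicative _ _).symm
  refine ⟨e.toMonoidHom.comp (mk.comp ψ),
    e.surjective.comp ((QuotientGroup.mk'_surjective N).comp ?_), ?_⟩
  · rintro ⟨_, S, hS, rfl⟩
    exact ⟨⟨omegaAct hQ h5 hf S, by rw [hA]; exact Subgroup.mem_map_of_mem _ hS⟩, rfl⟩
  · ext x
    rw [MonoidHom.mem_ker, MonoidHom.comp_apply, MulEquiv.coe_toMonoidHom,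
      map_eq_one_iff e e.injective, MonoidHom.comp_apply, hmk, Subgroup.mem_subgroupOf,
      psoAut_eq hQ h5 hf (m := m)]
    constructor
    · rintro ⟨S, hS, he⟩
      have h3 : (omegaAct hQ h5 hf S)⁻¹ * (x : MulAut (Cfsg.POmega F f)) ∈
          (soSim Q m).map (omegaAct hQ h5 hf) := by
        have h4 : (omegaAct hQ h5 hf S)⁻¹ * (x : MulAut (Cfsg.POmega F f)) ∈
            Cfsg.Inn (Cfsg.POmega F f) := QuotientGroup.eq.1 he
        rw [conj_eq_omegaAct hQ h5 hf] at h4
        exact Subgroup.map_mono (eg_le_soSim hQ h5) h4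
      have h5' := mul_mem (Subgroup.mem_map_of_mem (omegaAct hQ h5 hf) hS) h3
      rwa [mul_inv_cancel_left] at h5'
    · rintro ⟨S, hS, he⟩
      exact ⟨S, hS, congrArg (QuotientGroup.mk' _) he⟩

theorem exists_scale_plus (m : ℕ) {F : Type*} [Field F] [Finite F] (h2 : (2 : F) ≠ 0) :
    ∃ D ∈ propDet (qPlus (F := F) m) m, ¬ IsSquare D.c := by
  obtain ⟨ν, hν⟩ := exists_nonsq h2
  have hν0 : ν ≠ 0 := fun h => hν (h ▸ IsSquare.zero)
  set D : Semisim (qPlus (F := F) m) :=
    ofLin (plusScale m (Units.mk0 ν hν0)) (Units.mk0 ν hν0) (qPlus_plusScale m _)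
  have hDs : D ∈ similitudes (qPlus m) := rfl
  refine ⟨D, ⟨hDs, ?_⟩, hν⟩
  rw [sdet, show (D.mat : Matrix (Fin m ⊕ Fin m) (Fin m ⊕ Fin m) F) =
    LinearMap.toMatrix' (plusScale m (Units.mk0 ν hν0)).toLinearMap from
      Matrix.ext_of_mulVec_single fun i => by
        rw [mat_mulVec_of_mem hDs, LinearMap.toMatrix'_mulVec]; rfl,
    LinearMap.det_toMatrix', det_plusScale]
  rfl

theorem exists_scale_minus (k : ℕ) {F : Type*} [Field F] [Finite F] (h2 : (2 : F) ≠ 0) {a b : F}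
    (hab : ∀ z₁ z₂ : F, z₁ ^ 2 + a * z₁ * z₂ + b * z₂ ^ 2 = 0 → z₁ = 0 ∧ z₂ = 0) :
    ∃ D ∈ propDet (qMinusC k a b) (k + 1), ¬ IsSquare D.c := by
  obtain ⟨ν, hν⟩ := exists_nonsq h2
  obtain ⟨D, u, -, hc, hD, -⟩ := exists_diag k hab (Units.mk0 ν fun h => hν (h ▸ IsSquare.zero))
  exact ⟨D, hD, by rw [hc]; exact hν⟩

end Cfsg.Agent.Lib.AutPOmega
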