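import Cfsg.Agent.Lib.AutPOmega.OutMinusStructure

/-!
Inner-diagonal modulo inner for the plus type.
-/

set_option autoImplicit false

namespace Cfsg.Agent.Lib.AutPOmega

open Module QuadraticMap Cfsg.Agent.Lib.Forms Cfsg.Agent.Lib.OrthOmega Cfsg.Agent.Lib.OrthStd
open Semisim Cfsg.Agent.Lib.Forms.MaxSingular

section Count

variable {F : Type*} [Field F] [Finite F] {ι : Type} [Fintype ι] [DecidableEq ι]
  {Q : QuadraticForm F (ι → F)} {f : (ι → F) → F}

/-- The order of the image of the similarities in `Out`, without the triality hypothesis. -/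
theorem card_similitudes_out_mul (hQ : Nondeg Q) (h5 : 5 ≤ finrank F (ι → F))
    (h7 : 7 ≤ finrank F (ι → F)) (hf : ∀ v, f v = Q v) :
    Nat.card ((similitudes Q).map (outHom hQ h5 hf)) * Nat.card (Cfsg.POmega F f) * Nat.card Fˣ =
      Nat.card (mult (Q := Q)).range * Nat.card (Cfsg.isometryGroup F f) := by
  have : Nontrivial (ι → F) := Module.nontrivial_of_finrank_pos (R := F) (by omega)
  rw [← Nat.card_congr (isoOrth Q hf).toEquiv.symm, ← card_similitudes]
  set A := (similitudes Q).map (omegaAct hQ h5 hf)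
  set g := (QuotientGroup.mk' (Cfsg.Inn (Cfsg.POmega F f))).comp A.subtype
  have hrange : g.range = (similitudes Q).map (outHom hQ h5 hf) := by
    rw [MonoidHom.range_comp, Subgroup.range_subtype, Subgroup.map_map]
    rfl
  have hle : Cfsg.Inn (Cfsg.POmega F f) ≤ A := by
    rw [conj_eq_omegaAct hQ h5 hf]
    exact Subgroup.map_mono (by rintro _ ⟨x, -, rfl⟩; exact orthHom_mem x)
  have hker : g.ker = (Cfsg.Inn (Cfsg.POmega F f)).subgroupOf A := by
    rw [← MonoidHom.comap_ker, QuotientGroup.ker_mk']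
    rfl
  have h1 := Subgroup.index_mul_card g.ker
  rw [Subgroup.index_ker, hrange, hker,
    Nat.card_congr (Subgroup.subgroupOfEquivOfLe hle).toEquiv,
    show Nat.card (Cfsg.Inn (Cfsg.POmega F f)) = Nat.card (Cfsg.POmega F f) from
      (Nat.card_congr (MonoidHom.ofInjective (conj_injective_pOmega hQ h5 hf h7)).toEquiv).symm] at h1
  set w := (omegaAct hQ h5 hf).comp (similitudes Q).subtype
  have hwr : w.range = A := by rw [MonoidHom.range_comp, Subgroup.range_subtype]
  have hwk : w.ker = ((scalar (Q := Q)).range).subgroupOf (similitudes Q) := by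
    rw [← MonoidHom.comap_ker, ker_omegaAct hQ h5 h7 hf]
    rfl
  have h2 := Subgroup.index_mul_card w.ker
  rw [Subgroup.index_ker, hwr, hwk,
    Nat.card_congr (Subgroup.subgroupOfEquivOfLe (show (scalar (Q := Q)).range ≤ similitudes Q by
      rintro _ ⟨l, rfl⟩; exact scalar_mem l)).toEquiv,
    ← Nat.card_congr (MonoidHom.ofInjective scalar_injective).toEquiv] at h2
  rw [h1, h2]

end Count

section Plus

variable {F : Type*} [Field F] [Fintype F] {m : ℕ} (hm : 4 ≤ m)

theorem seven_le_plus (F : Type*) [Field F] {m : ℕ} (hm : 4 ≤ m) :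
    7 ≤ finrank F (Fin m ⊕ Fin m → F) := by
  rw [finrank_space]; omega

theorem five_le_plus (F : Type*) [Field F] {m : ℕ} (hm : 4 ≤ m) :
    5 ≤ finrank F (Fin m ⊕ Fin m → F) := by
  rw [finrank_space]; omega

theorem card_plus_index (m : ℕ) : Fintype.card (Fin m ⊕ Fin m) = 2 * m := by
  simp; ring

/-- Semisimilarities of the plus form to `Out`. -/
noncomputable def outPlus :
    Semisim (qPlus (F := F) m) →* Cfsg.Out (Cfsg.POmega F (Cfsg.quadFormPlus m F)) :=
  outHom (qPlus_nondeg m) (five_le_plus F hm) (quadFormPlus_eq m)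

include hm in
theorem inndiagPlus_eq_propDet (h2 : (2 : F) ≠ 0) :
    Cfsg.inndiagPOmegaPlus m F = (propDet (qPlus (F := F) m) m).map
      (omegaAct (qPlus_nondeg m) (five_le_plus F hm) (quadFormPlus_eq m)) := by
  rw [inndiagPOmegaPlus_eq m (five_le_plus F hm)]
  congr 1
  ext S
  constructor
  · rintro ⟨hS, h⟩
    exact ⟨hS, (famHom_det (qPlus_nondeg m) finrank_space isMax_stdX h2
      (QuadraticMap.IsometryEquiv.refl _) hS).1 h⟩
  · rintro ⟨hS, h⟩
    exact ⟨hS, (famHom_det (qPlus_nondeg m) finrank_space isMax_stdX h2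
      (QuadraticMap.IsometryEquiv.refl _) hS).2 h⟩

theorem card_proper_plus {q : ℕ} (hF : Fintype.card F = q) (h2 : (2 : F) ≠ 0) :
    Nat.card ((propDet (qPlus (F := F) m) m).map (outPlus hm)) = Nat.gcd 4 (q ^ m - 1) := by
  have h := card_similitudes_out_mul (qPlus_nondeg (F := F) m) (five_le_plus F hm)
    (seven_le_plus F hm) (quadFormPlus_eq m)
  rw [mult_range_plus, Subgroup.card_top, card_isometry_plus hF m (by omega),
    card_propDet_out (qPlus_nondeg m) (five_le_plus F hm) (quadFormPlus_eq m) (seven_le_plus F hm)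
      (card_plus_index m) h2] at h
  have hP : 0 < Nat.card (Cfsg.POmega F (Cfsg.quadFormPlus m F)) := Nat.card_pos
  have hU : 0 < Nat.card Fˣ := Nat.card_pos
  refine Nat.eq_of_mul_eq_mul_right (Nat.mul_pos hP hU) (Nat.eq_of_mul_eq_mul_left two_pos ?_)
  show 2 * (Nat.card ((propDet (qPlus (F := F) m) m).map
    (outHom (qPlus_nondeg m) (five_le_plus F hm) (quadFormPlus_eq m))) * _) = _
  rw [← mul_assoc, ← mul_assoc, h]
  ring

include hm in
theorem exists_neg_plus {q : ℕ} (hF : Fintype.card F = q) (h2 : (2 : F) ≠ 0)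
    (hg : Nat.gcd 4 (q ^ m - 1) = 4) : ∃ n ∈ EG (qPlus (F := F) m), ∀ x, n.1 x = -x := by
  refine exists_neg_mem (qPlus_nondeg m) (five_le_plus F hm) (quadFormPlus_eq m) h2 ?_
  have := card_isometry_plus hF m (by omega)
  rw [hg] at this
  exact this

theorem ker_c_square {S : Semisim (qPlus (F := F) m)} (hS : S ∈ (outPlus hm).ker) :
    IsSquare S.c := by
  obtain ⟨l, g, -, rfl⟩ := (mem_ker_outHom _ _ _ (seven_le_plus F hm) _).1 hS
  refine ⟨l, ?_⟩
  show (l : F) * l * (scalar (Q := qPlus (F := F) m) l).τ 1 = _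
  rw [map_one, mul_one]

/-- The diagonal element, an element of `SO` outside `EG`, and the square of the former. -/
theorem exists_diag_plus {q : ℕ} (hF : Fintype.card F = q) (h2 : (2 : F) ≠ 0)
    (hg : Nat.gcd 4 (q ^ m - 1) = 4) :
    ∃ D R : Semisim (qPlus (F := F) m), D ∈ propDet (qPlus m) m ∧ R ∈ propDet (qPlus m) m ∧
      outPlus hm D ≠ 1 ∧ outPlus hm R ≠ 1 ∧ outPlus hm D ≠ outPlus hm R ∧
      outPlus hm R * outPlus hm R = 1 ∧
      outPlus hm D * outPlus hm D = if Even m then 1 else outPlus hm R := by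
  have hQ := qPlus_nondeg (F := F) m
  have hV : 5 ≤ finrank F (Fin m ⊕ Fin m → F) := five_le_plus F hm
  obtain ⟨ν, hν⟩ := exists_nonsq h2
  have hν0 : ν ≠ 0 := fun h => hν (h ▸ IsSquare.zero)
  set c := Units.mk0 ν hν0
  let i₀ : Fin m := ⟨0, by omega⟩
  set v := pairVec i₀ (1 : F)
  set w := pairVec i₀ ν
  have hv : qPlus m v ≠ 0 := by rw [qPlus_pairVec]; simp
  have hw : qPlus m w ≠ 0 := by rw [qPlus_pairVec]; simpa using hν0
  have hns : ¬ IsSquare (qPlus m w / qPlus m v) := by
    rw [qPlus_pairVec, qPlus_pairVec, neg_div_neg_eq, div_one]; exact hν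
  set D : Semisim (qPlus (F := F) m) := ofLin (plusScale m c) c (qPlus_plusScale m c)
  have hDs : D ∈ similitudes (qPlus m) := rfl
  set R : Semisim (qPlus (F := F) m) := orthHom (orefl (qPlus m) v * orefl (qPlus m) w)
  have hDP : D ∈ propDet (qPlus m) m := by
    refine ⟨hDs, ?_⟩
    rw [sdet, show (D.mat : Matrix (Fin m ⊕ Fin m) (Fin m ⊕ Fin m) F) =
      LinearMap.toMatrix' (plusScale m c).toLinearMap from Matrix.ext_of_mulVec_single fun i => by
        rw [mat_mulVec_of_mem hDs, LinearMap.toMatrix'_mulVec]; rfl,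
      LinearMap.det_toMatrix', det_plusScale]
    rfl
  have hRP : R ∈ propDet (qPlus m) m := by
    refine ⟨orthHom_mem _, ?_⟩
    rw [show R = orthHom (orefl (qPlus m) v) * orthHom (orefl (qPlus m) w) from map_mul _ _ _,
      sdet_mul, tau_apply_of_mem (orthHom_mem _), sdet_orefl hQ (Or.inl (exists_ne01 h2)) hv,
      sdet_orefl hQ (Or.inl (exists_ne01 h2)) hw]
    show (-1 : F) * -1 = (1 * 1) ^ m
    rw [one_mul, one_pow]; ring
  have hneg := exists_neg_plus hm hF h2 hg
  have hR1 : outPlus hm R ≠ 1 := fun h => by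
    have h1 := orth_mem_ker_outHom hQ _ _ (seven_le_plus F hm) hneg (MonoidHom.mem_ker.2 h)
    rw [← cls_eq_one_iff hQ hV, map_mul] at h1
    exact cls_pair_ne_one hQ h2 (by omega) hv hw hns h1
  have hR2 : outPlus hm R * outPlus hm R = 1 := by
    rw [← map_mul]
    refine (mem_ker_outHom hQ _ _ (seven_le_plus F hm) _).2 ⟨1, _,
      (cls_eq_one_iff hQ hV _).1 ?_, by rw [map_one, one_mul, ← map_mul]⟩
    rw [map_mul, map_mul, cls_pair_sq]
  have hD1 : outPlus hm D ≠ 1 := fun h => hν (ker_c_square hm (MonoidHom.mem_ker.2 h))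
  have hDR : outPlus hm D ≠ outPlus hm R := fun h => by
    have h1 : R⁻¹ * D ∈ (outPlus hm).ker := by
      rw [MonoidHom.mem_ker, map_mul, map_inv, h, inv_mul_cancel]
    have h3 : (R⁻¹ * D).c = ν := by
      show (R⁻¹).c * (R⁻¹).τ ν = ν
      rw [tau_apply_of_mem (inv_mem (orthHom_mem _))]
      show R.τ.symm R.c⁻¹ * ν = ν
      rw [show R.c = 1 from rfl, inv_one, map_one, one_mul]
    exact hν (h3 ▸ ker_c_square hm h1)
  refine ⟨D, R, hDP, hRP, hD1, hR1, hDR, hR2, ?_⟩
  have hDD : D * D = scalar c * orthHom (diagPlus m fun _ => c) := by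
    refine ext' (AddEquiv.ext fun x => ?_) rfl (by
      show (c : F) * (c : F) = (c : F) * c * 1
      rw [mul_one])
    show plusScale m c (plusScale m c x) = (c : F) • (diagPlus m fun _ => c).1 x
    funext j
    rcases j with i | i
    · simp [plusScale, diagPlus_apply_inl]
    · simp [plusScale, diagPlus_apply_inr]
  have hs : outPlus hm (scalar c) = 1 :=
    (mem_ker_outHom _ _ _ (seven_le_plus F hm) _).2
      ⟨c, (1 : orth (qPlus (F := F) m)), one_mem _, by rw [map_one, mul_one]⟩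
  rw [← map_mul, hDD, map_mul, hs, one_mul]
  have hd : Abelianization.of (diagPlus m fun _ => c) =
      (Abelianization.of (orefl (qPlus m) v) * Abelianization.of (orefl (qPlus m) w)) ^ m :=
    map_diagPlus_const Abelianization.of c _ fun i => by
      refine cls_pair_eq hQ h2 (by omega) hv hw hns (by rw [qPlus_pairVec]; simp)
        (by rw [qPlus_pairVec]; simp) ?_
      rw [qPlus_pairVec, qPlus_pairVec, neg_div_neg_eq, div_one]
      exact hν
  have heq : ∀ g k : orth (qPlus (F := F) m), Abelianization.of g = Abelianization.of k →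
      outPlus hm (orthHom g) = outPlus hm (orthHom k) := fun g k h => by
    rw [← mul_inv_eq_one, ← map_inv, ← map_mul]
    refine (mem_ker_outHom hQ _ _ (seven_le_plus F hm) _).2 ⟨1, g * k⁻¹,
      (cls_eq_one_iff hQ hV _).1 ?_, by rw [map_one, one_mul, map_mul, map_inv]⟩
    rw [map_mul, map_inv, h, mul_inv_cancel]
  rcases Nat.even_or_odd' m with ⟨j, hj | hj⟩
  · rw [if_pos ⟨j, by omega⟩]
    refine (heq _ 1 ?_).trans (by rw [map_one, map_one])
    rw [hd, map_one]
    have hh : ∀ x : Abelianization (orth (qPlus (F := F) m)), x * x = 1 → x ^ m = 1 := fun x hx => by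
      refine (congrArg (fun i => x ^ i) hj).trans ?_
      show x ^ (2 * j) = 1
      rw [pow_mul, _root_.sq, hx, one_pow]
    exact hh _ (cls_pair_sq _ _)
  · rw [if_neg (fun h => by obtain ⟨i, hi⟩ := h; omega)]
    refine heq _ _ ?_
    rw [hd, map_mul]
    have hh : ∀ x : Abelianization (orth (qPlus (F := F) m)), x * x = 1 → x ^ m = x := fun x hx => by
      refine (congrArg (fun i => x ^ i) hj).trans ?_
      show x ^ (2 * j + 1) = x
      rw [pow_succ, pow_mul, _root_.sq, hx, one_pow, one_mul]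
    exact hh _ (cls_pair_sq _ _)

theorem gcd_four_pow_sub_one {q n : ℕ} (hq : Odd q) (hn : 1 ≤ n) :
    Nat.gcd 4 (q ^ n - 1) = if q % 4 = 3 ∧ Odd n then 2 else 4 := by
  have h1 : 1 ≤ q ^ n := Nat.one_le_pow _ _ hq.pos
  have hev : Even (q ^ n - 1) := (even_pow_sub_one_iff hq.pos hn).2 hq
  have hmod : q ^ n % 4 = if q % 4 = 3 ∧ Odd n then 3 else 1 := by
    rcases (show q % 4 = 1 ∨ q % 4 = 3 by obtain ⟨i, rfl⟩ := hq; omega) with h | h
    · rw [if_neg (by omega), Nat.pow_mod, h, one_pow]; rfl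
    · rw [mod_four_pow h]
      rcases Nat.even_or_odd n with he | ho
      · rw [if_pos he, if_neg (fun hh => Nat.not_even_iff_odd.2 hh.2 he)]
      · rw [if_neg (Nat.not_even_iff_odd.2 ho), if_pos ⟨h, ho⟩]
  rcases gcd_four_cases hev with ⟨h4, hg⟩ | ⟨h4, hg⟩ <;> rw [hg] <;>
    split_ifs at hmod ⊢ <;> omega

end Plus

end Cfsg.Agent.Lib.AutPOmega
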