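import Cfsg.Agent.Lib.AutPOmega.Group
import Cfsg.Agent.Lib.Forms.MaxSingular

/-!
The action of semisimilarities of a hyperbolic form on its two families of maximal totally
singular subspaces.
-/

set_option autoImplicit false

namespace Cfsg.Agent.Lib.AutPOmega

open Module QuadraticMap Cfsg.Agent.Lib.Forms Cfsg.Agent.Lib.OrthOmega
open Cfsg.Agent.Lib.Forms.MaxSingular

variable {F : Type*} [Field F] {V : Type*} [AddCommGroup V] [Module F V]
  {Q : QuadraticForm F V}

namespace Semisim

/-- The image of a subspace. -/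
def mapSub (S : Semisim Q) (U : Submodule F V) : Submodule F V where
  carrier := {v | S.toAdd.symm v ∈ U}
  add_mem' {x y} hx hy := by
    show S.toAdd.symm (x + y) ∈ U
    rw [map_add]; exact U.add_mem hx hy
  zero_mem' := by
    show S.toAdd.symm 0 ∈ U
    rw [map_zero]; exact U.zero_mem
  smul_mem' t x hx := by
    show S.toAdd.symm (t • x) ∈ U
    rw [S.symm_smul]; exact U.smul_mem _ hx

theorem mem_mapSub {S : Semisim Q} {U : Submodule F V} {v : V} :
    v ∈ S.mapSub U ↔ S.toAdd.symm v ∈ U := Iff.rfl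

theorem mapSub_mul (S T : Semisim Q) (U : Submodule F V) :
    (S * T).mapSub U = S.mapSub (T.mapSub U) := Submodule.ext fun _ => Iff.rfl

theorem mapSub_inf (S : Semisim Q) (U W : Submodule F V) :
    S.mapSub (U ⊓ W) = S.mapSub U ⊓ S.mapSub W := Submodule.ext fun _ => Iff.rfl

theorem finrank_mapSub [Finite F] [FiniteDimensional F V] (S : Semisim Q) (U : Submodule F V) :
    finrank F (S.mapSub U) = finrank F U := by
  have e : S.mapSub U ≃ U :=
    S.toAdd.symm.toEquiv.subtypeEquiv fun v => Iff.rfl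
  have h := Nat.card_congr e
  rw [Module.natCard_eq_pow_finrank (K := F) (V := S.mapSub U),
    Module.natCard_eq_pow_finrank (K := F) (V := U)] at h
  exact Nat.pow_right_injective Finite.one_lt_card h

theorem isMax_mapSub [Finite F] [FiniteDimensional F V] (S : Semisim Q) {m : ℕ}
    {U : Submodule F V} (hU : IsMax Q m U) : IsMax Q m (S.mapSub U) := by
  refine ⟨by rw [finrank_mapSub, hU.1], fun v hv => ?_⟩
  rw [← S.toAdd.apply_symm_apply v, S.map_Q', hU.2 _ hv, map_zero, mul_zero]

end Semisim

open Semisim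

variable [Finite F] [FiniteDimensional F V] {m : ℕ}

/-- The parity of the move of a maximal totally singular subspace. -/
noncomputable def famVal (m : ℕ) (U : Submodule F V) (S : Semisim Q) : ZMod 2 :=
  ((m - finrank F ↥(U ⊓ S.mapSub U) : ℕ) : ZMod 2)

omit [Finite F] in
theorem triangle_cast (hQ : Nondeg Q) (hV : finrank F V = 2 * m) {U W X : Submodule F V}
    (hU : IsMax Q m U) (hW : IsMax Q m W) (hX : IsMax Q m X) :
    ((m - finrank F ↥(U ⊓ X) : ℕ) : ZMod 2) =
      ((m - finrank F ↥(U ⊓ W) : ℕ) : ZMod 2) + ((m - finrank F ↥(W ⊓ X) : ℕ) : ZMod 2) := by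
  have h := (ZMod.natCast_eq_zero_iff_even).2 (even_triangle hQ hV _ U W X hU hW hX rfl)
  push_cast at h
  have h20 : (2 : ZMod 2) = 0 := rfl
  linear_combination h - (((m - finrank F ↥(U ⊓ W) : ℕ) : ZMod 2) +
    ((m - finrank F ↥(W ⊓ X) : ℕ) : ZMod 2)) * h20

theorem famVal_mul (hQ : Nondeg Q) (hV : finrank F V = 2 * m) {U : Submodule F V}
    (hU : IsMax Q m U) (S T : Semisim Q) : famVal m U (S * T) = famVal m U S + famVal m U T := by
  rw [famVal, triangle_cast hQ hV hU (S.isMax_mapSub hU) ((S * T).isMax_mapSub hU), mapSub_mul,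
    ← mapSub_inf, finrank_mapSub]
  rfl

/-- The permutation of the two families. -/
noncomputable def famHom (hQ : Nondeg Q) (hV : finrank F V = 2 * m) {U : Submodule F V}
    (hU : IsMax Q m U) : Semisim Q →* Multiplicative (ZMod 2) :=
  MonoidHom.mk' (fun S => Multiplicative.ofAdd (famVal m U S)) fun S T => by
    rw [famVal_mul hQ hV hU, ofAdd_add]

theorem famHom_eq_one {hQ : Nondeg Q} {hV : finrank F V = 2 * m} {U : Submodule F V}
    {hU : IsMax Q m U} {S : Semisim Q} :
    famHom hQ hV hU S = 1 ↔ Even (m - finrank F ↥(U ⊓ S.mapSub U)) :=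
  ofAdd_eq_one.trans ZMod.natCast_eq_zero_iff_even

theorem famHom_indep {hQ : Nondeg Q} {hV : finrank F V = 2 * m} {U W : Submodule F V}
    {hU : IsMax Q m U} {S : Semisim Q} (hW : IsMax Q m W) :
    famHom hQ hV hU S = 1 ↔ Even (m - finrank F ↥(W ⊓ S.mapSub W)) := by
  rw [famHom_eq_one, ← ZMod.natCast_eq_zero_iff_even, ← ZMod.natCast_eq_zero_iff_even]
  have h1 := triangle_cast hQ hV hW hU (S.isMax_mapSub hW)
  have h2 := triangle_cast hQ hV hU (S.isMax_mapSub hU) (S.isMax_mapSub hW)
  rw [← mapSub_inf S U W, finrank_mapSub] at h2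
  rw [h2, inf_comm W U] at h1
  have h20 : (2 : ZMod 2) = 0 := rfl
  constructor <;> intro h
  · linear_combination h1 + h + ((m - finrank F ↥(U ⊓ W) : ℕ) : ZMod 2) * h20
  · linear_combination h - h1 - ((m - finrank F ↥(U ⊓ W) : ℕ) : ZMod 2) * h20

theorem famHom_scalar (hQ : Nondeg Q) (hV : finrank F V = 2 * m) {U : Submodule F V}
    (hU : IsMax Q m U) (l : Fˣ) : famHom hQ hV hU (scalar l) = 1 := by
  rw [famHom_eq_one]
  have h : (scalar (Q := Q) l).mapSub U = U := Submodule.ext fun v => by
    rw [mem_mapSub]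
    constructor <;> intro hv
    · rw [← (scalar (Q := Q) l).toAdd.apply_symm_apply v]
      exact U.smul_mem (l : F) hv
    · have h1 : (scalar (Q := Q) l).toAdd.symm v = ((l⁻¹ : Fˣ) : F) • v := by
        rw [AddEquiv.symm_apply_eq, scalar_toAdd, smul_smul, ← Units.val_mul, mul_inv_cancel,
          Units.val_one, one_smul]
      rw [h1]; exact U.smul_mem _ hv
  rw [h, inf_idem, hU.1, Nat.sub_self]
  exact ⟨0, rfl⟩

theorem famHom_orefl (hQ : Nondeg Q) (hV : finrank F V = 2 * m) {U : Submodule F V}
    (hU : IsMax Q m U) {v : V} (hv : Q v ≠ 0) :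
    famHom hQ hV hU (orthHom (orefl Q v)) = Multiplicative.ofAdd 1 := by
  set K := U ⊓ LinearMap.ker (polarBilin Q v)
  have hK : U ⊓ (orthHom (orefl Q v)).mapSub U = K := by
    have hsymm : ∀ x, (orthHom (orefl Q v)).toAdd.symm x = refl Q v x := fun x => by
      rw [AddEquiv.symm_apply_eq, orthHom_apply]
      exact (reflMap_involutive Q v x).symm
    ext x
    rw [Submodule.mem_inf, mem_mapSub, hsymm]
    constructor
    · rintro ⟨h1, h2⟩
      refine ⟨h1, ?_⟩
      show polar Q v x = 0
      by_contra h0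
      have h3 := U.sub_mem h1 h2
      rw [refl_apply, sub_sub_cancel] at h3
      have hvU : v ∈ U := by
        rw [← inv_smul_smul₀ (mul_ne_zero (inv_ne_zero hv) h0) v]
        exact U.smul_mem _ h3
      exact hv (hU.2 v hvU)
    · rintro ⟨h1, h2⟩
      exact ⟨h1, by rw [refl_fix Q h2]; exact h1⟩
  have hnot : ¬ U ≤ LinearMap.ker (polarBilin Q v) := fun h => by
    have h1 : v ∈ perp Q U := fun y hy => (polar_comm Q y v).trans (h hy)
    rw [perp_eq_self hQ hV hU] at h1
    exact hv (hU.2 v h1)
  have hfr : finrank F K + 1 = m := by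
    have h1 := ((polarBilin Q v).domRestrict U).finrank_range_add_finrank_ker
    have h2 : LinearMap.ker ((polarBilin Q v).domRestrict U) =
        (LinearMap.ker (polarBilin Q v)).comap U.subtype := by ext x; rfl
    have h3 : finrank F (LinearMap.range ((polarBilin Q v).domRestrict U)) = 1 := by
      have hle := Submodule.finrank_le (LinearMap.range ((polarBilin Q v).domRestrict U))
      rw [finrank_self] at hle
      refine le_antisymm hle (Nat.one_le_iff_ne_zero.2 fun h0 => hnot fun y hy => ?_)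
      rw [Submodule.finrank_eq_zero, LinearMap.range_eq_bot] at h0
      exact LinearMap.congr_fun h0 ⟨y, hy⟩
    have h4 : finrank F ((LinearMap.ker (polarBilin Q v)).comap U.subtype) = finrank F K := by
      rw [← Submodule.finrank_map_subtype_eq, Submodule.map_comap_subtype]
    rw [h2, h3, h4, hU.1] at h1
    omega
  show Multiplicative.ofAdd (famVal m U _) = _
  rw [famVal, hK, show m - finrank F K = 1 by omega]
  rfl

/-- On isometries the parity is the Dickson invariant. -/
theorem famHom_orth (hQ : Nondeg Q) (hV : finrank F V = 2 * m) {U : Submodule F V}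
    (hU : IsMax Q m U) (h : (∃ a : F, a ≠ 0 ∧ a ≠ 1) ∨ finrank F V ≠ 4) (g : orth Q) :
    famHom hQ hV hU (orthHom g) = dicksonHom hQ h g := by
  have he : (famHom hQ hV hU).comp orthHom = dicksonHom hQ h := by
    refine MonoidHom.eq_of_eqOn_dense (closure_reflSet hQ h) ?_
    rintro _ ⟨v, hv, rfl⟩
    rw [MonoidHom.comp_apply, famHom_orefl hQ hV hU hv, dicksonHom_orefl hQ h hv]
  exact DFunLike.congr_fun he g

/-- The parity is invariant under conjugation by semisimilarities. -/
theorem famHom_conj (hQ : Nondeg Q) (hV : finrank F V = 2 * m) {U : Submodule F V}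
    (hU : IsMax Q m U) (S T : Semisim Q) :
    famHom hQ hV hU (S * T * S⁻¹) = famHom hQ hV hU T := by
  rw [map_mul, map_mul, map_inv, mul_inv_cancel_comm]

end Cfsg.Agent.Lib.AutPOmega
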