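import Cfsg.Agent.Lib.AutPOmega.Incidence

/-!
The permutation of lines and of singular points induced by an automorphism.
-/

set_option autoImplicit false

namespace Cfsg.Agent.Lib.AutPOmega

open Module QuadraticMap Cfsg.Agent.Lib.Forms Cfsg.Agent.Lib.OrthOmega

variable {F : Type*} [Field F] {V : Type*} [AddCommGroup V] [Module F V]
  {Q : QuadraticForm F V}

/-- `M` is the image of the line `L`. -/
def Img (α : MulAut (PG Q)) (L M : Submodule F V) : Prop :=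
  IsLine Q L ∧ IsLine Q M ∧ ∀ x, OnLine Q L x ↔ OnLine Q M (α x)

/-- The singular point `b` is the image of the singular point `a`. -/
def Assoc (α : MulAut (PG Q)) (a b : V) : Prop :=
  a ≠ 0 ∧ Q a = 0 ∧ b ≠ 0 ∧ Q b = 0 ∧ ∀ L M, Img α L M → (a ∈ L ↔ b ∈ M)

theorem Img.symm {α : MulAut (PG Q)} {L M : Submodule F V} (h : Img α L M) : Img α⁻¹ M L :=
  ⟨h.2.1, h.1, fun x => by rw [h.2.2, MulAut.apply_inv_self]⟩

theorem Assoc.symm {α : MulAut (PG Q)} {a b : V} (h : Assoc α a b) : Assoc α⁻¹ b a :=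
  ⟨h.2.2.1, h.2.2.2.1, h.1, h.2.1, fun L M hi => (h.2.2.2.2 M L (by
    have := hi.symm; rwa [inv_inv] at this)).symm⟩

theorem mem_smul_iff (L : Submodule F V) {t : F} (ht : t ≠ 0) (a : V) : t • a ∈ L ↔ a ∈ L :=
  ⟨fun h => by simpa [smul_smul, inv_mul_cancel₀ ht] using L.smul_mem t⁻¹ h, L.smul_mem t⟩

theorem Assoc.smul {α : MulAut (PG Q)} {a b : V} (h : Assoc α a b) {s t : F} (hs : s ≠ 0)
    (ht : t ≠ 0) : Assoc α (s • a) (t • b) :=
  ⟨smul_ne_zero hs h.1, by rw [Q_smul, h.2.1, mul_zero], smul_ne_zero ht h.2.2.1,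
    by rw [Q_smul, h.2.2.2.1, mul_zero], fun L M hi => by
      rw [mem_smul_iff L hs, mem_smul_iff M ht]; exact h.2.2.2.2 L M hi⟩

/-- Indistinguishable by commuting with root elements. -/
def SameC (p : ℕ) (x y : PG Q) : Prop := ∀ z, RootLike p z → (Commute x z ↔ Commute y z)

theorem Semisim.map_lpair (S : Semisim Q) {a b : V} (h : LPair Q a b) :
    LPair Q (S.toAdd a) (S.toAdd b) :=
  ⟨by rw [S.map_Q', h.qa, map_zero, mul_zero], by rw [S.map_Q', h.qb, map_zero, mul_zero],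
    by rw [S.map_polar, h.perp, map_zero, mul_zero], LinearIndependent.pair_iff.2 fun s t hst => by
      have h1 := congrArg S.toAdd.symm hst
      rw [map_add, map_zero, S.symm_smul, S.symm_smul, S.toAdd.symm_apply_apply,
        S.toAdd.symm_apply_apply] at h1
      have h2 := LinearIndependent.pair_iff.1 h.ind _ _ h1
      simpa using h2⟩

theorem Semisim.mem_span_map (S : Semisim Q) {a b v : V}
    (hv : v ∈ Submodule.span F ({a, b} : Set V)) :
    S.toAdd v ∈ Submodule.span F ({S.toAdd a, S.toAdd b} : Set V) := by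
  obtain ⟨s, t, rfl⟩ := Submodule.mem_span_pair.1 hv
  exact Submodule.mem_span_pair.2 ⟨S.τ s, S.τ t, by rw [map_add, S.map_smul', S.map_smul']⟩

variable {p : ℕ} [Fact p.Prime] [CharP F p] [Finite F] [FiniteDimensional F V]
  (hQ : Nondeg Q) (h7 : 7 ≤ finrank F V)

omit [Finite F] in
theorem Semisim.onLine_aut (S : Semisim Q) {a b : V} (h : LPair Q a b) {x : PG Q}
    (hx : OnLine Q (Submodule.span F {a, b}) x) :
    OnLine Q (Submodule.span F {S.toAdd a, S.toAdd b}) (S.aut x) := by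
  obtain ⟨a', b', h', hspan, rfl⟩ := hx
  have hc := inv_ne_zero S.c_ne
  have hl : LPair Q (S.toAdd a') (S.c⁻¹ • S.toAdd b') := by
    have h1 := S.map_lpair h'
    refine ⟨h1.qa, by rw [Q_smul, h1.qb, mul_zero], by rw [polar_smul_right, h1.perp, smul_zero],
      LinearIndependent.pair_iff.2 fun s t hst => ?_⟩
    rw [smul_smul] at hst
    have h2 := LinearIndependent.pair_iff.1 h1.ind _ _ hst
    exact ⟨h2.1, (mul_eq_zero.1 h2.2).resolve_right hc⟩
  refine ⟨_, _, hl, (S.map_lpair h).isLine.span_eq hl (S.mem_span_map (hspan ▸ mem_left a' b'))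
    ((mem_smul_iff _ hc _).2 (S.mem_span_map (hspan ▸ mem_right a' b'))), ?_⟩
  rw [rt, rt, S.aut_toP]
  congr 1
  exact Subtype.ext (S.conjO_rho h'.spair)

omit [Finite F] in
theorem Semisim.img (S : Semisim Q) {a b : V} (h : LPair Q a b) :
    Img S.aut (Submodule.span F {a, b}) (Submodule.span F {S.toAdd a, S.toAdd b}) := by
  refine ⟨h.isLine, (S.map_lpair h).isLine, fun x => ⟨S.onLine_aut h, fun hx => ?_⟩⟩
  have h1 := S.inv.onLine_aut (S.map_lpair h) hx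
  rw [S.aut_inv, MulAut.inv_apply_self] at h1
  simpa [Semisim.inv] using h1

omit [Fact p.Prime] [CharP F p] [Finite F] [FiniteDimensional F V] in
theorem Img.comp {α β : MulAut (PG Q)} {L M N : Submodule F V} (h : Img α L M) (h' : Img β M N) :
    Img (β * α) L N :=
  ⟨h.1, h'.2.1, fun x => by rw [h.2.2, h'.2.2, MulAut.mul_apply]⟩

include hQ h7

theorem onLine_iff {L : Submodule F V} {x₀ x : PG Q} (h₀ : OnLine Q L x₀) :
    OnLine Q L x ↔ RootLike p x ∧ SameC p x x₀ := by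
  have h5 : 5 ≤ finrank F V := by omega
  constructor
  · intro hx
    refine ⟨hx.rootLike hQ h5, fun z hz => ?_⟩
    obtain ⟨K, hK⟩ := exists_onLine_of_rootLike hQ h5 hz
    rw [commute_iff hQ h5 p hx hK, commute_iff hQ h5 p h₀ hK]
  · rintro ⟨hx, hsame⟩
    obtain ⟨K, hK⟩ := exists_onLine_of_rootLike hQ h5 hx
    by_cases hKL : K = L
    · exact hKL ▸ hK
    obtain ⟨N, hN, h1, h2⟩ := exists_separating hQ h5 hK.isLine h₀.isLine hKL
    obtain ⟨z, hz⟩ := hN.exists_onLine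
    have := hsame z (hz.rootLike hQ h5)
    rw [commute_iff hQ h5 p hK hz, commute_iff hQ h5 p h₀ hz] at this
    exact absurd (this.1 h1) h2

variable (p)
include p

theorem exists_img (α : MulAut (PG Q)) {L : Submodule F V} (hL : IsLine Q L) :
    ∃ M, Img α L M := by
  have h5 : 5 ≤ finrank F V := by omega
  obtain ⟨x₀, h₀⟩ := hL.exists_onLine
  obtain ⟨M, hM⟩ := exists_onLine_of_rootLike (p := p) hQ h5 ((h₀.rootLike hQ h5).map α)
  refine ⟨M, hL, hM.isLine, fun x => ?_⟩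
  rw [onLine_iff (p := p) hQ h7 h₀, onLine_iff (p := p) hQ h7 hM]
  constructor
  · rintro ⟨h1, h2⟩
    refine ⟨h1.map α, fun z hz => ?_⟩
    have h3 := h2 _ (hz.map α⁻¹)
    constructor <;> intro hc
    · have := (h3.1 (by simpa using hc.map α⁻¹)).map α
      simpa using this
    · have := (h3.2 (by simpa using hc.map α⁻¹)).map α
      simpa using this
  · rintro ⟨h1, h2⟩
    refine ⟨by simpa using h1.map α⁻¹, fun z hz => ?_⟩
    have h3 := h2 _ (hz.map α)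
    constructor <;> intro hc
    · simpa using (h3.1 (hc.map α)).map α⁻¹
    · simpa using (h3.2 (hc.map α)).map α⁻¹

theorem exists_preimg (α : MulAut (PG Q)) {M : Submodule F V} (hM : IsLine Q M) :
    ∃ L, Img α L M := by
  obtain ⟨L, hL⟩ := exists_img p hQ h7 α⁻¹ hM
  refine ⟨L, ?_⟩
  have := hL.symm
  rwa [inv_inv] at this

theorem Img.unique {α : MulAut (PG Q)} {L M M' : Submodule F V} (h : Img α L M)
    (h' : Img α L M') : M = M' := by
  obtain ⟨x, hx⟩ := h.1.exists_onLine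
  exact OnLine.unique hQ (by omega) p ((h.2.2 x).1 hx) ((h'.2.2 x).1 hx)

theorem Img.unique_left {α : MulAut (PG Q)} {L L' M : Submodule F V} (h : Img α L M)
    (h' : Img α L' M) : L = L' := h.symm.unique p hQ h7 h'.symm

section Transfer

variable {α : MulAut (PG Q)}

theorem Img.comm_iff {L L' M M' : Submodule F V} (hL : Img α L L') (hM : Img α M M') :
    Meet L M ∨ Perp Q L M ↔ Meet L' M' ∨ Perp Q L' M' := by
  obtain ⟨x, hx⟩ := hL.1.exists_onLine
  obtain ⟨y, hy⟩ := hM.1.exists_onLine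
  rw [← commute_iff hQ (by omega) p hx hy,
    ← commute_iff hQ (by omega) p ((hL.2.2 x).1 hx) ((hM.2.2 y).1 hy)]
  exact ⟨fun h => h.map α, fun h => by simpa using h.map α⁻¹⟩

theorem Img.adj_imp {L L' M M' : Submodule F V} (hL : Img α L L') (hM : Img α M M')
    (h : Adj Q L M) : Adj Q L' M' := by
  have h5 : 5 ≤ finrank F V := by omega
  obtain ⟨x, hx⟩ := hL.1.exists_onLine
  obtain ⟨y, hy⟩ := hM.1.exists_onLine
  have hne : L' ≠ M' := fun he => h.1 (hL.unique_left p hQ h7 (he ▸ hM))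
  have h1 := (adj_iff (p := p) hQ h5 hx hy h.1).2 h.2
  exact ⟨hne, (adj_iff (p := p) hQ h5 ((hL.2.2 x).1 hx) ((hM.2.2 y).1 hy) hne).1
    ⟨h1.1.map α, by rw [← map_mul]; exact h1.2.map α⟩⟩

theorem Img.adj_iff {L L' M M' : Submodule F V} (hL : Img α L L') (hM : Img α M M') :
    Adj Q L M ↔ Adj Q L' M' :=
  ⟨hL.adj_imp p hQ h7 hM, hL.symm.adj_imp p hQ h7 hM.symm⟩

theorem Img.cq_imp {L L' M M' : Submodule F V} (hL : Img α L L') (hM : Img α M M')
    (h : CQ Q L M) : CQ Q L' M' := by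
  obtain ⟨N, N', Z₁, Z₂, hN, hN', h1, h2, h3, h4, hne, hnadj, hZ, hZ₁, hZ₂, hall⟩ := h
  obtain ⟨n, hn⟩ := exists_img p hQ h7 α hN
  obtain ⟨n', hn'⟩ := exists_img p hQ h7 α hN'
  obtain ⟨z₁, hz₁⟩ := exists_img p hQ h7 α hZ₁.1
  obtain ⟨z₂, hz₂⟩ := exists_img p hQ h7 α hZ₂.1
  have h4' : ∀ {Z z}, Img α Z z → (Adj4 Q L M N N' Z ↔ Adj4 Q L' M' n n' z) := fun hZ => by
    unfold Adj4
    rw [hZ.adj_iff p hQ h7 hL, hZ.adj_iff p hQ h7 hM, hZ.adj_iff p hQ h7 hn,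
      hZ.adj_iff p hQ h7 hn']
    simp [hZ.1, hZ.2.1]
  refine ⟨n, n', z₁, z₂, hn.2.1, hn'.2.1, hn.adj_imp p hQ h7 hL h1, hn.adj_imp p hQ h7 hM h2,
    hn'.adj_imp p hQ h7 hL h3, hn'.adj_imp p hQ h7 hM h4, ?_, ?_, ?_, (h4' hz₁).1 hZ₁,
    (h4' hz₂).1 hZ₂, fun z hz => ?_⟩
  · exact fun he => hne (hn.unique_left p hQ h7 (he ▸ hn'))
  · exact fun ha => hnadj ((hn.adj_iff p hQ h7 hn').2 ha)
  · exact fun he => hZ (hz₁.unique_left p hQ h7 (he ▸ hz₂))
  · obtain ⟨Z, hZi⟩ := exists_preimg p hQ h7 α hz.1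
    rcases hall Z ((h4' hZi).2 hz) with rfl | rfl
    · exact Or.inl (hZi.unique p hQ h7 hz₁)
    · exact Or.inr (hZi.unique p hQ h7 hz₂)

theorem Img.meet_imp (h8 : NoTriality Q) {L L' M M' : Submodule F V} (hL : Img α L L')
    (hM : Img α M M') (h : Meet L M) : Meet L' M' := by
  by_cases hperp : Perp Q L M
  · by_cases he : L = M
    · subst he
      rw [← hL.unique p hQ h7 hM]
      obtain ⟨v, hv, hv0⟩ := hL.2.1.exists_ne_zero
      exact ⟨v, hv0, hv, hv⟩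
    · exact (hL.adj_imp p hQ h7 hM ⟨he, h, hperp⟩).2.1
  · rcases (hL.comm_iff p hQ h7 hM).1 (Or.inl h) with h' | h'
    · exact h'
    · by_contra hm
      have h1 := cq_of_perp hL.2.1 hM.2.1 h' hm
      exact not_cq_of_ptype hQ h7 h8 hL.1 hM.1 ⟨h, hperp⟩ (hL.symm.cq_imp p hQ h7 hM.symm h1)

theorem Img.meet_iff (h8 : NoTriality Q) {L L' M M' : Submodule F V} (hL : Img α L L')
    (hM : Img α M M') : Meet L M ↔ Meet L' M' :=
  ⟨hL.meet_imp p hQ h7 h8 hM, hL.symm.meet_imp p hQ h7 h8 hM.symm⟩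

theorem Img.ptype (h8 : NoTriality Q) {L L' M M' : Submodule F V} (hL : Img α L L')
    (hM : Img α M M') (h : PType Q L M) : PType Q L' M' := by
  refine ⟨hL.meet_imp p hQ h7 h8 hM h.1, fun hperp => ?_⟩
  have hne : L ≠ M := fun he => h.2 (by subst he; exact fun x hx y hy => hL.1.perp hx hy)
  exact h.2 ((hL.adj_iff p hQ h7 hM).2
    ⟨fun he => hne (hL.unique_left p hQ h7 (he ▸ hM)), hL.meet_imp p hQ h7 h8 hM h.1, hperp⟩).2.2

end Transfer

omit [Fact p.Prime] [CharP F p] in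
theorem exists_ptype {a : V} (ha0 : a ≠ 0) (ha : Q a = 0) :
    ∃ L M, IsLine Q L ∧ IsLine Q M ∧ PType Q L M ∧ a ∈ L ∧ a ∈ M := by
  obtain ⟨f, hp⟩ := exists_hypPair hQ ha0 ha
  have hfr := hp.finrank_core
  obtain ⟨⟨u, hu⟩, ⟨b, hb⟩, hk⟩ := exists_hyp (hp.nondeg_core hQ) (by omega)
  have hub : polar Q u b = 1 := hk.pol
  have h1 := lpair_core hp hu (fun h => by simp [h] at hub) hk.left
  have h2 := lpair_core hp hb (fun h => by simp [h] at hub) hk.right
  refine ⟨_, _, h1.isLine, h2.isLine, ⟨⟨a, ha0, mem_left a u, mem_left a b⟩, fun h => ?_⟩,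
    mem_left a u, mem_left a b⟩
  have := h u (mem_right a u) b (mem_right a b)
  rw [hub] at this
  exact one_ne_zero this

theorem exists_assoc (h8 : NoTriality Q) (α : MulAut (PG Q)) {a : V} (ha0 : a ≠ 0)
    (ha : Q a = 0) : ∃ b, Assoc α a b := by
  obtain ⟨L, M, hL, hM, hP, haL, haM⟩ := exists_ptype p hQ h7 ha0 ha
  obtain ⟨L', hL'⟩ := exists_img p hQ h7 α hL
  obtain ⟨M', hM'⟩ := exists_img p hQ h7 α hM
  have hP' := hL'.ptype p hQ h7 h8 hM' hP
  obtain ⟨b, hb0, hbL, hbM⟩ := hP'.1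
  refine ⟨b, ha0, ha, hb0, hL'.2.1.sing b hbL, fun K K' hK => ?_⟩
  rw [star hL hM hP ha0 haL haM hK.1, star hL'.2.1 hM'.2.1 hP' hb0 hbL hbM hK.2.1,
    hK.meet_iff p hQ h7 h8 hL', hK.meet_iff p hQ h7 h8 hM']

theorem Assoc.comp {α β : MulAut (PG Q)} {a b c : V} (h : Assoc α a b) (h' : Assoc β b c) :
    Assoc (β * α) a c := by
  refine ⟨h.1, h.2.1, h'.2.2.1, h'.2.2.2.1, fun L N hi => ?_⟩
  obtain ⟨M, hM⟩ := exists_img p hQ h7 α hi.1
  have h1 : Img β M N := by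
    have := hM.symm.comp hi
    rwa [mul_inv_cancel_right] at this
  rw [h.2.2.2.2 L M hM, h'.2.2.2.2 M N h1]

theorem Assoc.unique {α : MulAut (PG Q)} {a b b' : V} (h : Assoc α a b) (h' : Assoc α a b') :
    ∃ t : F, t ≠ 0 ∧ b' = t • b := by
  obtain ⟨L, M, hL, hM, hP, hbL, hbM⟩ := exists_ptype p hQ h7 h.2.2.1 h.2.2.2.1
  have hne : L ≠ M := fun he => hP.2 (by subst he; exact fun x hx y hy => hL.perp hx hy)
  obtain ⟨L₀, hL₀⟩ := exists_preimg p hQ h7 α hL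
  obtain ⟨M₀, hM₀⟩ := exists_preimg p hQ h7 α hM
  obtain ⟨t, ht⟩ := hL.mem_of_meet_two hM hne h.2.2.1 hbL hbM
    ((h'.2.2.2.2 _ _ hL₀).1 ((h.2.2.2.2 _ _ hL₀).2 hbL))
    ((h'.2.2.2.2 _ _ hM₀).1 ((h.2.2.2.2 _ _ hM₀).2 hbM))
  exact ⟨t, fun h0 => h'.2.2.1 (by rw [ht, h0, zero_smul]), ht⟩

theorem Assoc.perp {α : MulAut (PG Q)} {a b c d : V} (h : Assoc α a b) (h' : Assoc α c d)
    (hac : polar Q a c = 0) : polar Q b d = 0 := by
  by_cases hc : c ∈ Submodule.span F {a}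
  · obtain ⟨s, rfl⟩ := Submodule.mem_span_singleton.1 hc
    have hs : s ≠ 0 := fun h0 => h'.1 (by rw [h0, zero_smul])
    have h1 : Assoc α a d := by
      simpa [smul_smul, inv_mul_cancel₀ hs] using h'.smul (inv_ne_zero hs) one_ne_zero
    obtain ⟨t, -, rfl⟩ := Assoc.unique p hQ h7 h h1
    rw [polar_smul_right, polar_self', h.2.2.2.1, mul_zero, smul_zero]
  · have hl : LPair Q a c := ⟨h.2.1, h'.2.1, hac, pair_ind h.1 hc⟩
    obtain ⟨K, hK⟩ := exists_img p hQ h7 α hl.isLine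
    exact hK.2.1.perp ((h.2.2.2.2 _ _ hK).1 (mem_left a c)) ((h'.2.2.2.2 _ _ hK).1 (mem_right a c))

theorem Semisim.assoc (S : Semisim Q) {a : V} (ha0 : a ≠ 0) (ha : Q a = 0) :
    Assoc S.aut a (S.toAdd a) := by
  refine ⟨ha0, ha, fun h => ha0 (S.toAdd.injective (h.trans (map_zero _).symm)),
    by rw [S.map_Q', ha, map_zero, mul_zero], fun L M hi => ?_⟩
  obtain ⟨x, hx, hx0⟩ := hi.1.exists_ne_zero
  obtain ⟨y, hy, hl, rfl⟩ := hi.1.exists_pair hx hx0
  rw [hi.unique p hQ h7 (S.img hl)]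
  refine ⟨S.mem_span_map, fun h => ?_⟩
  have := S.inv.mem_span_map h
  simpa [Semisim.inv] using this

theorem Assoc.equivariant {α : MulAut (PG Q)} {a b : V} (h : Assoc α a b) {g k : EG Q}
    (hgk : α (toP g) = toP k) : Assoc α (g.1.1 a) (k.1.1 b) := by
  have h1 := (Semisim.ofOrth g.1).assoc p hQ h7 h.1 h.2.1
  rw [← Semisim.conj_eq_aut, Semisim.ofOrth_apply] at h1
  have h3 := (Semisim.ofOrth k.1).assoc p hQ h7 h.2.2.1 h.2.2.2.1
  rw [← Semisim.conj_eq_aut, Semisim.ofOrth_apply] at h3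
  have h4 := Assoc.comp p hQ h7 (Assoc.comp p hQ h7 h1.symm h) h3
  have e : MulAut.conj (toP k) * (α * (MulAut.conj (toP g))⁻¹) = α := by
    refine MulEquiv.ext fun x => ?_
    simp only [MulAut.mul_apply, MulAut.conj_apply, MulAut.conj_inv_apply, map_mul, map_inv, hgk]
    group
  rwa [e] at h4

end Cfsg.Agent.Lib.AutPOmega
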