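import Cfsg.Agent.Lib.AutPOmega.Basic

/-!
Long root elements of orthogonal groups are recognised group-theoretically: they are the
`p`-elements (`p` the characteristic) centralised by a Sylow `p`-subgroup.
-/

set_option autoImplicit false

namespace Cfsg.Agent.Lib.AutPOmega

open Module QuadraticMap Cfsg.Agent.Lib.Forms Cfsg.Agent.Lib.OrthOmega

variable {F : Type*} [Field F] {V : Type*} [AddCommGroup V] [Module F V]
  {Q : QuadraticForm F V}

/-- Independent singular perpendicular vectors. -/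
structure LPair (Q : QuadraticForm F V) (a b : V) : Prop where
  qa : Q a = 0
  qb : Q b = 0
  perp : polar Q a b = 0
  ind : LinearIndependent F ![a, b]

theorem LPair.spair {a b : V} (h : LPair Q a b) : SPair Q a b := ⟨h.qa, h.perp⟩

theorem LPair.ne {a b : V} (h : LPair Q a b) : a ≠ 0 := by
  simpa using h.ind.ne_zero 0

theorem LPair.ne' {a b : V} (h : LPair Q a b) : b ≠ 0 := by
  simpa using h.ind.ne_zero 1

theorem sing_span_pair {a b v : V} (ha : Q a = 0) (hb : Q b = 0) (hab : polar Q a b = 0)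
    (hv : v ∈ Submodule.span F ({a, b} : Set V)) : Q v = 0 := by
  obtain ⟨s, t, rfl⟩ := Submodule.mem_span_pair.1 hv
  rw [Q_comb, ha, hb, hab]; ring

/-- Dual vectors of an independent family. -/
theorem exists_dual (hQ : Nondeg Q) {k : ℕ} {v : Fin k → V} (hv : LinearIndependent F v)
    (r : Fin k → F) : ∃ x, ∀ i, polar Q (v i) x = r i := by
  let T : V →ₗ[F] (Fin k → F) := LinearMap.pi fun i => polarBilin Q (v i)
  have hT : LinearMap.range T = ⊤ := by
    by_contra hne
    obtain ⟨φ, hφ0, hφ⟩ :=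
      Submodule.exists_dual_map_eq_bot_of_lt_top (lt_top_iff_ne_top.2 hne) inferInstance
    have hzero : ∀ x, φ (T x) = 0 := fun x => by
      have : φ (T x) ∈ (LinearMap.range T).map φ :=
        Submodule.mem_map_of_mem (LinearMap.mem_range_self T x)
      rwa [hφ, Submodule.mem_bot] at this
    have hs : ∑ i, φ (Pi.single i 1) • v i = 0 := by
      refine hQ _ fun x => ?_
      have h := hzero x
      rw [show T x = ∑ i, (T x) i • (Pi.single i (1 : F) : Fin k → F) from pi_eq_sum_univ' _,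
        map_sum] at h
      show polarBilin Q (∑ i, φ (Pi.single i 1) • v i) x = 0
      rw [map_sum, LinearMap.sum_apply]
      refine Eq.trans (Finset.sum_congr rfl fun i _ => ?_) h
      rw [map_smul, map_smul, LinearMap.smul_apply, smul_eq_mul, smul_eq_mul, mul_comm]
      rfl
    have h0 := Fintype.linearIndependent_iff.1 hv _ hs
    refine hφ0 (LinearMap.ext fun y => ?_)
    rw [pi_eq_sum_univ' y, map_sum, LinearMap.zero_apply]
    exact Finset.sum_eq_zero fun i _ => by rw [map_smul, h0 i, smul_zero]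
  obtain ⟨x, hx⟩ := LinearMap.range_eq_top.1 hT r
  exact ⟨x, fun i => congrFun hx i⟩

theorem exists_dual_pair (hQ : Nondeg Q) {a b : V} (h : LinearIndependent F ![a, b]) (s t : F) :
    ∃ x, polar Q a x = s ∧ polar Q b x = t := by
  obtain ⟨x, hx⟩ := exists_dual hQ h ![s, t]
  exact ⟨x, hx 0, hx 1⟩

/-- The nilpotent part of a root element. -/
def N (Q : QuadraticForm F V) (a b : V) : V →ₗ[F] V :=
  (polarBilin Q a).smulRight b - (polarBilin Q b).smulRight a

theorem N_apply (a b x : V) : N Q a b x = polar Q a x • b - polar Q b x • a := rfl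

theorem N_mem (a b x : V) : N Q a b x ∈ Submodule.span F ({a, b} : Set V) := by
  rw [N_apply]
  exact Submodule.sub_mem _ (Submodule.smul_mem _ _ (Submodule.subset_span (by simp)))
    (Submodule.smul_mem _ _ (Submodule.subset_span (by simp)))

theorem N_smul (a b : V) (t : F) : N Q a (t • b) = t • N Q a b := by
  refine LinearMap.ext fun x => ?_
  rw [LinearMap.smul_apply, N_apply, N_apply, polar_smul_left, smul_eq_mul]
  module

theorem rho_sing_apply {a b : V} (h : SPair Q a b) (hb : Q b = 0) (x : V) :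
    (rho h).1 x = x + N Q a b x := by
  rw [rho_apply, N_apply, hb, zero_mul, add_zero]
  abel

theorem rho_eq_iff_N {a b c d : V} (h : LPair Q a b) (h' : LPair Q c d) :
    rho h.spair = rho h'.spair ↔ N Q a b = N Q c d := by
  constructor
  · intro he
    refine LinearMap.ext fun x => ?_
    have := congrArg (fun g : orth Q => g.1 x) he
    simpa [rho_sing_apply _ h.qb, rho_sing_apply _ h'.qb] using this
  · intro he
    exact orth_ext fun x => by rw [rho_sing_apply _ h.qb, rho_sing_apply _ h'.qb, he]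

theorem span_le_of_N (hQ : Nondeg Q) {a b : V} (h : LPair Q a b) {U : Submodule F V}
    (hU : ∀ x, N Q a b x ∈ U) : Submodule.span F ({a, b} : Set V) ≤ U := by
  rw [Submodule.span_le]
  rintro y (rfl | rfl)
  · obtain ⟨x, h1, h2⟩ := exists_dual_pair hQ h.ind 0 (-1)
    simpa [N_apply, h1, h2] using hU x
  · obtain ⟨x, h1, h2⟩ := exists_dual_pair hQ h.ind 1 0
    simpa [N_apply, h1, h2] using hU x

theorem span_eq_of_rho_eq (hQ : Nondeg Q) {a b c d : V} (h : LPair Q a b) (h' : LPair Q c d)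
    (he : rho h.spair = rho h'.spair) :
    Submodule.span F ({a, b} : Set V) = Submodule.span F {c, d} := by
  have hN := (rho_eq_iff_N h h').1 he
  exact le_antisymm (span_le_of_N hQ h fun x => hN ▸ N_mem c d x)
    (span_le_of_N hQ h' fun x => hN.symm ▸ N_mem a b x)

theorem rho_ne_one (hQ : Nondeg Q) {a b : V} (h : LPair Q a b) : rho h.spair ≠ 1 := by
  intro he
  obtain ⟨x, h1, h2⟩ := exists_dual_pair hQ h.ind 1 0
  have := congrArg (fun g : orth Q => g.1 x) he
  simp [rho_sing_apply _ h.qb, N_apply, h1, h2] at this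
  exact h.ne' this

/-- A Siegel element of `EG Q`. -/
def rE {e u : V} (h : SPair Q e u) : EG Q := ⟨rho h, rho_mem h⟩

theorem rE_mul {e u w : V} (hu : SPair Q e u) (hw : SPair Q e w) :
    rE hu * rE hw = rE (hu.add hw) := Subtype.ext (rho_mul hu hw)

theorem rE_congr {e u e' u' : V} (h : SPair Q e u) (h' : SPair Q e' u') (he : e = e')
    (hu : u = u') : rE h = rE h' := Subtype.ext (rho_congr h h' he hu)

theorem rE_inv {e u : V} (hu : SPair Q e u) : (rE hu)⁻¹ = rE hu.neg := Subtype.ext (rho_inv hu)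

theorem rho_eq_one {e u : V} (h : SPair Q e u) (hu : u = 0) : rho h = 1 :=
  (rho_congr h (SPair.zero h.sing) rfl hu).trans (rho_zero _)

theorem finite_EG [Finite F] [FiniteDimensional F V] : Finite (EG Q) := by
  have : Finite V := Module.finite_of_finite F
  exact Finite.of_injective (fun g : EG Q => (⇑g.1.1 : V → V))
    fun g h hgh => Subtype.ext (Subtype.ext (LinearEquiv.ext (congrFun hgh)))

/-- The root element in the quotient. -/
def rt {a b : V} (h : LPair Q a b) : PG Q := toP (rE h.spair)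

section Char

variable {p : ℕ} [Fact p.Prime] [CharP F p]

theorem rE_pow {e u : V} (h : SPair Q e u) (k : ℕ) : rE h ^ k = rE (h.smul (k : F)) := by
  induction k with
  | zero =>
    rw [pow_zero]
    exact Subtype.ext (rho_eq_one (h.smul ((0 : ℕ) : F)) (by rw [Nat.cast_zero, zero_smul])).symm
  | succ k ih =>
    rw [pow_succ, ih, rE_mul]
    exact rE_congr _ _ rfl (by rw [Nat.cast_succ, add_smul, one_smul])

theorem rE_pow_char {e u : V} (h : SPair Q e u) : rE h ^ p = 1 := by
  rw [rE_pow]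
  exact Subtype.ext (rho_eq_one (h.smul (p : F)) (by rw [CharP.cast_eq_zero, zero_smul]))

variable [Finite F] [FiniteDimensional F V]

theorem central_eq_one (hQ : Nondeg Q) (h5 : 5 ≤ finrank F V) {z : EG Q}
    (hz : z ∈ Subgroup.center (EG Q)) {i : ℕ} (hi : z ^ p ^ i = 1) : z = 1 := by
  rcases (mem_center_EG_iff hQ h5 z).1 hz with h | h
  · exact Subtype.ext (orth_ext h)
  · rcases (Fact.out : p.Prime).eq_two_or_odd' with hp | hp
    · subst hp
      refine Subtype.ext (orth_ext fun x => ?_)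
      rw [h x]
      show -x = x
      rw [← neg_one_smul F x, CharTwo.neg_eq, one_smul]
    · have h2 : z * z = 1 := Subtype.ext (orth_ext fun x => by
        show z.1.1 (z.1.1 x) = x
        rw [h, h, neg_neg])
      obtain ⟨j, hj⟩ := hp.pow (n := i)
      rw [hj, pow_succ, pow_mul, pow_two, h2, one_pow, one_mul] at hi
      exact hi

theorem toP_inj_of_pow (hQ : Nondeg Q) (h5 : 5 ≤ finrank F V) {g h : EG Q} {i j : ℕ}
    (hg : g ^ p ^ i = 1) (hh : h ^ p ^ j = 1) (he : toP g = toP h) : g = h := by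
  have hz : g⁻¹ * h ∈ Subgroup.center (EG Q) := (QuotientGroup.eq).1 he
  obtain ⟨z, rfl⟩ : ∃ z, h = g * z := ⟨g⁻¹ * h, by rw [mul_inv_cancel_left]⟩
  rw [inv_mul_cancel_left] at hz
  have hc : Commute g z := Subgroup.mem_center_iff.1 hz g
  have : z = 1 := central_eq_one hQ h5 hz (i := i + j) (by
    rw [hc.mul_pow] at hh
    have h1 : g ^ p ^ (i + j) = 1 := by rw [pow_add, pow_mul, hg, one_pow]
    have h2 := congrArg (· ^ p ^ i) hh
    simp only [one_pow] at h2
    rw [hc.pow_pow _ _ |>.mul_pow, ← pow_mul, ← pow_mul, ← pow_add, add_comm, h1, one_mul] at h2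
    exact h2)
  rw [this, mul_one]

theorem toP_commute (hQ : Nondeg Q) (h5 : 5 ≤ finrank F V) {g h : EG Q} {j : ℕ}
    (hh : h ^ p ^ j = 1) (hc : Commute (toP g) (toP h)) : Commute g h := by
  have hg : (g * h * g⁻¹) ^ p ^ j = 1 := by rw [conj_pow, hh, mul_one, mul_inv_cancel]
  have := toP_inj_of_pow hQ h5 hg hh (by
    rw [map_mul, map_mul, map_inv, hc.eq, mul_inv_cancel_right])
  exact mul_inv_eq_iff_eq_mul.1 this

/-- The group-theoretic notion of a long root element. -/
def RootLike (p : ℕ) {G : Type*} [Group G] (x : G) : Prop :=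
  x ≠ 1 ∧ x ^ p = 1 ∧ ∃ P : Sylow p G, ∀ y ∈ P, Commute x y

theorem RootLike.map {G : Type*} [Group G] (α : MulAut G) {x : G} (h : RootLike p x) :
    RootLike p (α x) := by
  obtain ⟨h1, h2, P, hP⟩ := h
  refine ⟨fun he => h1 (α.injective (he.trans (map_one α).symm)), by rw [← map_pow, h2, map_one],
    α • P, fun y hy => ?_⟩
  obtain ⟨z, hz, rfl⟩ := hy
  exact (hP z hz).map α

theorem shape_fst (hQ : Nondeg Q) (h5 : 5 ≤ finrank F V) {e f : V} (hp : HypPair Q e f)
    {X : orth Q} {i : ℕ} (hX : X ^ p ^ i = 1)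
    (hc : ∀ (u : V) (h : SPair Q e u), Commute X (rho h)) :
    ∃ w ∈ core Q e f, ∃ h : SPair Q e w, X = rho h := by
  have hconj : ∀ (u : V) (h : SPair Q e u), rho (h.map X) = rho h := fun u h => by
    rw [← rho_conj X h, (hc u h).eq, mul_inv_cancel_right]
  have hfr := hp.finrank_core
  have hW := hp.nondeg_core hQ
  have hin : ∀ u ∈ core Q e f, u ≠ 0 → ∃ s t : F, e = s • X.1 e + t • X.1 u := by
    intro u hu hu0
    have hh : SPair Q e u := ⟨hp.left, (mem_core.1 hu).1⟩
    obtain ⟨⟨y, hy⟩, hy1⟩ := exists_polar_eq_one hW (x := ⟨u, hu⟩)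
      (fun h => hu0 (congrArg Subtype.val h))
    rw [res_polar] at hy1
    have := congrArg (fun g : orth Q => g.1 y) (hconj u hh)
    simp only [rho_apply, (mem_core.1 hy).1] at this
    rw [show polar Q u y = 1 from hy1, mul_zero, add_zero, one_smul, zero_smul, add_zero] at this
    refine ⟨polar Q (X.1 u) y + Q (X.1 u) * polar Q (X.1 e) y, -polar Q (X.1 e) y, ?_⟩
    rw [neg_smul, ← sub_eq_zero]
    rw [← sub_eq_zero] at this
    rw [← this]
    abel
  obtain ⟨u₁, u₂, hu₁, hu₂, hind⟩ : ∃ u₁ u₂, u₁ ∈ core Q e f ∧ u₂ ∈ core Q e f ∧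
      LinearIndependent F ![u₁, u₂] := by
    have h2 : 1 < finrank F (core Q e f) := by omega
    have := Module.nontrivial_of_finrank_pos (R := F) (M := core Q e f) (by omega)
    obtain ⟨u₁, hu₁⟩ := exists_ne (0 : core Q e f)
    obtain ⟨u₂, hu₂⟩ := exists_linearIndependent_pair_of_one_lt_finrank h2 hu₁
    refine ⟨u₁, u₂, u₁.2, u₂.2, ?_⟩
    rw [LinearIndependent.pair_iff] at hu₂ ⊢
    exact fun s t hst => hu₂ s t (Subtype.ext hst)
  have hz := LinearIndependent.pair_iff.1 hind
  obtain ⟨a, ha⟩ : ∃ a : F, X.1 e = a • e := by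
    obtain ⟨s, t, hst⟩ := hin u₁ hu₁ (by simpa using hind.ne_zero 0)
    obtain ⟨s', t', hst'⟩ := hin u₂ hu₂ (by simpa using hind.ne_zero 1)
    have heq := congrArg X⁻¹.1 (hst.symm.trans hst')
    simp only [map_add, map_smul, orth_inv_apply_apply] at heq
    have hfs := congrArg (polar Q f) heq
    simp only [polar_add_right, polar_smul_right, hp.pol', (mem_core.1 hu₁).2, (mem_core.1 hu₂).2,
      smul_eq_mul, mul_one, mul_zero, add_zero] at hfs
    rw [hfs] at heq
    have h0 := hz t (-t') (by rw [neg_smul, ← sub_eq_add_neg, sub_eq_zero]; exact add_left_cancel heq)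
    rw [h0.1, zero_smul, add_zero] at hst
    have hs : s ≠ 0 := fun h => hp.left_ne (by rw [hst, h, zero_smul])
    exact ⟨s⁻¹, by conv_rhs => rw [hst]; rw [smul_smul, inv_mul_cancel₀ hs, one_smul]⟩
  have hpow : ∀ k : ℕ, (X ^ k).1 e = a ^ k • e := fun k => by
    induction k with
    | zero => simp
    | succ k ih => rw [pow_succ, orth_mul_apply, ha, map_smul, ih, smul_smul, pow_succ']
  have ha1 : a = 1 := by
    have h1 := hpow (p ^ i)
    rw [hX] at h1
    have h2 : a ^ p ^ i = 1 := by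
      have h3 := congrArg (polar Q f) h1
      rw [polar_smul_right, hp.pol', smul_eq_mul, mul_one] at h3
      exact h3.symm.trans (by show polar Q f e = 1; exact hp.pol')
    have h3 := sub_pow_char_pow (R := F) (p := p) (n := i) a 1
    rw [h2, one_pow, sub_self] at h3
    exact sub_eq_zero.1 (eq_zero_of_pow_eq_zero h3)
  rw [ha1, one_smul] at ha
  have hXu : ∀ u ∈ core Q e f, ∃ s : F, X.1 u = u + s • e := by
    intro u hu
    have hh : SPair Q e u := ⟨hp.left, (mem_core.1 hu).1⟩
    have := congrArg (fun g : orth Q => g.1 f) (hconj u hh)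
    simp only [rho_apply, ha, hp.pol, one_smul] at this
    refine ⟨(polar Q (X.1 u) f + Q (X.1 u) * 1) - (polar Q u f + Q u * 1), ?_⟩
    rw [sub_smul, ← sub_eq_zero]
    rw [← sub_eq_zero] at this
    rw [← this]
    abel
  set w := X.1 f - polar Q f (X.1 f) • e - polar Q e (X.1 f) • f with hw
  have hwc : w ∈ core Q e f := hp.proj_mem _
  have hβ : polar Q e (X.1 f) = 1 := by
    conv_lhs => rw [← ha]
    rw [orth_polar X.2, hp.pol]
  have hXf : X.1 f = polar Q f (X.1 f) • e + (1 : F) • f + w := by rw [hw, hβ]; abel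
  have hα : polar Q f (X.1 f) = -Q w := by
    have h1 := congrArg Q hXf
    rw [X.2, hp.right, hp.Q_comb_core _ _ hwc, mul_one] at h1
    linear_combination -h1
  refine ⟨w, hwc, ⟨hp.left, (mem_core.1 hwc).1⟩, ?_⟩
  refine orth_ext fun x => ?_
  have hx : x = polar Q f x • e + polar Q e x • f +
      (x - polar Q f x • e - polar Q e x • f) := by abel
  have he' : (rho (⟨hp.left, (mem_core.1 hwc).1⟩ : SPair Q e w)).1 e = e :=
    rho_fix _ hp.pol_ee ((polar_comm Q w e).trans (mem_core.1 hwc).1)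
  have hf' : X.1 f = (rho (⟨hp.left, (mem_core.1 hwc).1⟩ : SPair Q e w)).1 f := by
    rw [rho_apply, hp.pol, polar_comm Q w f, (mem_core.1 hwc).2, hXf, hα]
    module
  have hu' : ∀ u ∈ core Q e f,
      X.1 u = (rho (⟨hp.left, (mem_core.1 hwc).1⟩ : SPair Q e w)).1 u := by
    intro u hu
    obtain ⟨s, hs⟩ := hXu u hu
    have h1 := orth_polar X.2 u f
    rw [hs, hXf, polar_comm Q u f, (mem_core.1 hu).2] at h1
    simp only [polar_add_left, polar_add_right, polar_smul_left, polar_smul_right, hp.pol_ee,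
      hp.pol, (mem_core.1 hwc).1, polar_comm Q u e, (mem_core.1 hu).1, polar_comm Q u f,
      (mem_core.1 hu).2, smul_eq_mul] at h1
    rw [rho_apply, (mem_core.1 hu).1, hs, polar_comm Q w u]
    rw [show s = -polar Q u w by linear_combination h1]
    module
  rw [hx]
  simp only [map_add, map_smul, ha, he', hf', hu' _ (hp.proj_mem x)]

/-- The `p`-group generated by the Siegel groups of a singular flag `e, u`. -/
def P0 (Q : QuadraticForm F V) (e u f : V) : Subgroup (EG Q) :=
  Subgroup.closure {g | ∃ (v : V) (h : SPair Q e v), g = rE h} ⊔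
    Subgroup.closure {g | ∃ (v : V) (h : SPair Q u v), polar Q e v = 0 ∧ polar Q f v = 0 ∧ g = rE h}

theorem closure_pow_char {e : V} (C : V → Prop) (hC0 : Q e = 0 → C 0)
    (hCadd : ∀ v w, C v → C w → C (v + w)) (he : Q e = 0) {g : EG Q}
    (hg : g ∈ Subgroup.closure {g | ∃ (v : V) (h : SPair Q e v), C v ∧ g = rE h}) :
    g ^ p = 1 := by
  have : ∃ (v : V) (h : SPair Q e v), C v ∧ g = rE h := by
    have : Finite (EG Q) := finite_EG
    rw [← Subgroup.mem_toSubmonoid, Subgroup.closure_toSubmonoid_of_finite] at hg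
    induction hg using Submonoid.closure_induction with
    | mem x hx => exact hx
    | one =>
      exact ⟨0, SPair.zero he, hC0 he, (Subtype.ext (rho_zero (SPair.zero he)).symm)⟩
    | mul x y _ _ hx hy =>
      obtain ⟨v, h, hv, rfl⟩ := hx
      obtain ⟨w, k, hw, rfl⟩ := hy
      exact ⟨v + w, h.add k, hCadd v w hv hw, rE_mul h k⟩
  obtain ⟨v, h, -, rfl⟩ := this
  exact rE_pow_char h

theorem isPGroup_P0 {e u f : V} (he : Q e = 0) (hu : Q u = 0) (heu : polar Q e u = 0) :
    IsPGroup p (P0 Q e u f) := by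
  have h1 : IsPGroup p (Subgroup.closure {g | ∃ (v : V) (h : SPair Q e v), g = rE h}) :=
    fun g => ⟨1, Subtype.ext (by
      rw [pow_one, SubgroupClass.coe_pow]
      refine closure_pow_char (fun _ => True) (fun _ => trivial) (fun _ _ _ _ => trivial) he ?_
      simpa using g.2)⟩
  have h2 : IsPGroup p (Subgroup.closure
      {g | ∃ (v : V) (h : SPair Q u v), polar Q e v = 0 ∧ polar Q f v = 0 ∧ g = rE h}) :=
    fun g => ⟨1, Subtype.ext (by
      rw [pow_one, SubgroupClass.coe_pow]
      refine closure_pow_char (fun v => polar Q e v = 0 ∧ polar Q f v = 0)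
        (fun _ => ⟨polar_zero_right .., polar_zero_right ..⟩)
        (fun v w hv hw => ⟨by rw [polar_add_right, hv.1, hw.1, add_zero],
          by rw [polar_add_right, hv.2, hw.2, add_zero]⟩) hu ?_
      simpa only [and_assoc] using g.2)⟩
  refine h1.to_sup_of_normal_left' h2 ((Subgroup.closure_le _).2 ?_)
  have key : ∀ (v : V) (h : SPair Q u v), polar Q e v = 0 →
      ∀ k ∈ Subgroup.closure {g | ∃ (v : V) (h : SPair Q e v), g = rE h},
        rE h * k * (rE h)⁻¹ ∈ Subgroup.closure {g | ∃ (v : V) (h : SPair Q e v), g = rE h} := by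
    intro v h hev k hk
    have hfix : (rho h).1 e = e :=
      rho_fix h ((polar_comm Q u e).trans heu) ((polar_comm Q v e).trans hev)
    have hle : Subgroup.closure {g | ∃ (v : V) (h : SPair Q e v), g = rE h} ≤
        (Subgroup.closure {g | ∃ (v : V) (h : SPair Q e v), g = rE h}).comap
          (MulAut.conj (rE h)).toMonoidHom := by
      refine (Subgroup.closure_le _).2 ?_
      rintro x ⟨w, hw, rfl⟩
      have h1 := orth_polar (rho h).2 e w
      rw [hfix] at h1
      have hs' : SPair Q e ((rho h).1 w) := ⟨hw.sing, h1.trans hw.perp⟩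
      refine Subgroup.subset_closure ⟨(rho h).1 w, hs', Subtype.ext ?_⟩
      show rho h * rho hw * (rho h)⁻¹ = rho hs'
      rw [rho_conj]
      exact rho_congr _ _ hfix rfl
    exact hle hk
  rintro g ⟨v, h, hev, -, rfl⟩
  rw [SetLike.mem_coe, Subgroup.mem_normalizer_iff]
  refine fun k => ⟨key v h hev k, fun hk => ?_⟩
  have h1 := key (-v) h.neg (by rw [polar_neg_right, hev, neg_zero]) _ hk
  rw [← rE_inv h, inv_inv] at h1
  simpa [mul_assoc] using h1

theorem shape (hQ : Nondeg Q) (h5 : 5 ≤ finrank F V) {e f u : V} (hp : HypPair Q e f)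
    (hu : u ∈ core Q e f) (hu0 : u ≠ 0) (hqu : Q u = 0) {X : EG Q} {i : ℕ} (hX : X ^ p ^ i = 1)
    (hc : ∀ g ∈ P0 Q e u f, Commute X g) : ∃ (c : F) (h : SPair Q e (c • u)), X = rE h := by
  obtain ⟨w, hw, hew, hXw⟩ := shape_fst hQ h5 hp (X := X.1) (i := i)
    (by rw [← SubgroupClass.coe_pow, hX]; rfl)
    (fun v h => congrArg Subtype.val
      (hc (rE h) (Subgroup.mem_sup_left (Subgroup.subset_closure ⟨v, h, rfl⟩))).eq)
  have hW := hp.nondeg_core hQ
  obtain ⟨⟨h', hh'⟩, hk⟩ := exists_hypPair hW (e := (⟨u, hu⟩ : core Q e f))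
    (fun h => hu0 (congrArg Subtype.val h)) hqu
  have hpk : HypPair Q u h' := ⟨hqu, hk.right, hk.pol⟩
  have key : ∀ v ∈ core Q e f, polar Q u v = 0 → LinearIndependent F ![u, v] →
      polar Q u w = 0 ∧ polar Q v w = 0 := by
    intro v hv huv hind
    have hs : SPair Q u v := ⟨hqu, huv⟩
    have hcomm : Commute X.1 (rho hs) := congrArg Subtype.val
      (hc (rE hs) (Subgroup.mem_sup_right
        (Subgroup.subset_closure ⟨v, hs, (mem_core.1 hv).1, (mem_core.1 hv).2, rfl⟩))).eq
    have he' : (rho hs).1 e = e := rho_fix hs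
      ((polar_comm Q u e).trans (mem_core.1 hu).1) ((polar_comm Q v e).trans (mem_core.1 hv).1)
    have hgw : rho (hew.map (rho hs)) = rho hew := by
      rw [← rho_conj (rho hs) hew, ← hXw, ← hcomm.eq, mul_inv_cancel_right]
    have hs' : SPair Q e ((rho hs).1 w) := by
      refine ⟨hew.sing, ?_⟩
      have h1 := orth_polar (rho hs).2 e w
      rw [he'] at h1
      rw [h1, hew.perp]
    rw [rho_congr _ hs' he' rfl] at hgw
    have h1 := congrArg (fun g : orth Q => g.1 f) hgw
    simp only [rho_apply hs', rho_apply hew, hp.pol] at h1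
    have h2 := congrArg (polar Q f) h1
    simp only [polar_sub_right, polar_add_right, polar_smul_right, hp.pol', (mem_core.1 hw).2,
      smul_eq_mul] at h2
    have hfg : polar Q f ((rho hs).1 w) = 0 := by
      have hf' : (rho hs).1 f = f := rho_fix hs
        ((polar_comm Q u f).trans (mem_core.1 hu).2) ((polar_comm Q v f).trans (mem_core.1 hv).2)
      have h3 := orth_polar (rho hs).2 f w
      rw [hf'] at h3
      rw [h3, (mem_core.1 hw).2]
    have hgw' : (rho hs).1 w = w := by
      rw [hfg] at h2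
      have h3 : polar Q ((rho hs).1 w) f + Q ((rho hs).1 w) * 1 = polar Q w f + Q w * 1 := by
        linear_combination -h2
      rw [h3] at h1
      simpa using h1
    rw [rho_apply, add_sub_assoc, add_eq_left, sub_eq_zero] at hgw'
    have := LinearIndependent.pair_iff.1 hind (polar Q v w + Q v * polar Q u w) (-polar Q u w)
      (by rw [neg_smul, hgw', add_neg_cancel])
    have h3 : polar Q u w = 0 := neg_eq_zero.1 this.2
    rw [h3, mul_zero, add_zero] at this
    exact ⟨h3, this.1⟩
  have hfr := hp.finrank_core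
  have hfr2 := hk.finrank_core
  -- an independent vector in `u^⊥`
  obtain ⟨v₀, hv₀, huv₀, hind₀⟩ : ∃ v ∈ core Q e f, polar Q u v = 0 ∧
      LinearIndependent F ![u, v] := by
    have := Module.nontrivial_of_finrank_pos (R := F)
      (M := core (res Q (core Q e f)) ⟨u, hu⟩ ⟨h', hh'⟩) (by omega)
    obtain ⟨⟨⟨v, hv⟩, hv2⟩, hv0⟩ := exists_ne (0 : core (res Q (core Q e f)) ⟨u, hu⟩ ⟨h', hh'⟩)
    have hv0' : v ≠ 0 := fun h => hv0 (Subtype.ext (Subtype.ext h))
    refine ⟨v, hv, hv2.1, LinearIndependent.pair_iff.2 fun s t hst => ?_⟩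
    have h1 := congrArg (polar Q h') hst
    rw [polar_add_right, polar_smul_right, polar_smul_right, hpk.pol', show polar Q h' v = 0 from
      hv2.2, smul_zero, add_zero, polar_zero_right, smul_eq_mul, mul_one] at h1
    refine ⟨h1, ?_⟩
    rw [h1, zero_smul, zero_add] at hst
    exact (smul_eq_zero.1 hst).resolve_right hv0'
  have huw : polar Q u w = 0 := (key v₀ hv₀ huv₀ hind₀).1
  have hperp : ∀ v ∈ core Q e f, polar Q u v = 0 → polar Q v w = 0 := by
    intro v hv huv
    by_cases hind : LinearIndependent F ![u, v]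
    · exact (key v hv huv hind).2
    · rw [LinearIndependent.pair_iff' hu0] at hind
      push Not at hind
      obtain ⟨a, rfl⟩ := hind
      rw [polar_smul_left, huw, smul_zero]
  have hwu : (⟨w, hw⟩ : core Q e f) - polar Q h' w • ⟨u, hu⟩ = 0 := by
    refine hW _ fun y => ?_
    rw [res_polar]
    show polar Q (w - polar Q h' w • u) y = 0
    have hy2 : (y : V) - polar Q u y • h' ∈ core Q e f :=
      Submodule.sub_mem _ y.2 (Submodule.smul_mem _ _ hh')
    have h1 := hperp _ hy2 (by rw [polar_sub_right, polar_smul_right, hpk.pol, smul_eq_mul,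
      mul_one, sub_self])
    rw [polar_sub_left, polar_smul_left, smul_eq_mul] at h1
    rw [polar_sub_left, polar_smul_left, smul_eq_mul, polar_comm Q w (y : V)]
    linear_combination h1
  have hwu' : w = polar Q h' w • u := sub_eq_zero.1 (congrArg Subtype.val hwu)
  have hs : SPair Q e (polar Q h' w • u) :=
    (⟨hp.left, (mem_core.1 hu).1⟩ : SPair Q e u).smul (polar Q h' w)
  exact ⟨polar Q h' w, hs, Subtype.ext (hXw.trans (rho_congr hew hs rfl hwu'))⟩

theorem commute_rho_smul {a b : V} (ha : Q a = 0) (hb : Q b = 0) {c : F} (hc : c ≠ 0)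
    (hs : SPair Q a (c • b)) (hs' : SPair Q a b) {g : orth Q} (h : Commute g (rho hs)) :
    Commute g (rho hs') := by
  refine orth_ext fun x => ?_
  have h1 := congrArg (fun k : orth Q => k.1 x) h.eq
  have hcb : Q (c • b) = 0 := by rw [Q_smul, hb, mul_zero]
  simp only [orth_mul_apply, rho_sing_apply _ hcb, rho_sing_apply _ hb, map_add, N_smul,
    LinearMap.smul_apply, map_smul] at h1 ⊢
  rw [add_left_cancel_iff] at h1 ⊢
  exact smul_right_injective V hc h1

theorem exists_sylow_rE (hQ : Nondeg Q) (h5 : 5 ≤ finrank F V) {e f u : V} (hp : HypPair Q e f)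
    (hu : u ∈ core Q e f) (hu0 : u ≠ 0) (hqu : Q u = 0) :
    ∃ P : Sylow p (EG Q), P0 Q e u f ≤ P ∧
      ∀ g ∈ P, Commute (rE (⟨hp.left, (mem_core.1 hu).1⟩ : SPair Q e u)) g := by
  have : Finite (EG Q) := finite_EG
  obtain ⟨P, hP⟩ := (isPGroup_P0 (f := f) hp.left hqu (mem_core.1 hu).1).exists_le_sylow
  refine ⟨P, hP, ?_⟩
  set hs : SPair Q e u := ⟨hp.left, (mem_core.1 hu).1⟩
  have hl : LPair Q e u := ⟨hp.left, hqu, (mem_core.1 hu).1, LinearIndependent.pair_iff.2
    fun s t hst => by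
      have h1 := congrArg (polar Q f) hst
      rw [polar_add_right, polar_smul_right, polar_smul_right, hp.pol', (mem_core.1 hu).2,
        smul_zero, add_zero, polar_zero_right, smul_eq_mul, mul_one] at h1
      refine ⟨h1, ?_⟩
      rw [h1, zero_smul, zero_add] at hst
      exact (smul_eq_zero.1 hst).resolve_right hu0⟩
  have hmem : rE hs ∈ (P : Subgroup (EG Q)) :=
    hP (Subgroup.mem_sup_left (Subgroup.subset_closure ⟨u, hs, rfl⟩))
  have : Nontrivial (P : Subgroup (EG Q)) := ⟨⟨⟨rE hs, hmem⟩, 1, fun h =>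
    rho_ne_one hQ hl (congrArg (fun k : (P : Subgroup (EG Q)) => k.1.1) h)⟩⟩
  have := P.isPGroup'.center_nontrivial
  obtain ⟨⟨⟨z, hzP⟩, hzc⟩, hz1⟩ := exists_ne (1 : Subgroup.center (P : Subgroup (EG Q)))
  obtain ⟨i, hi⟩ := P.isPGroup' ⟨z, hzP⟩
  have hcomm : ∀ g ∈ P, Commute z g := fun g hg =>
    (congrArg Subtype.val (Subgroup.mem_center_iff.1 hzc ⟨g, hg⟩)).symm
  obtain ⟨c, hsc, rfl⟩ := shape hQ h5 hp hu hu0 hqu (congrArg Subtype.val hi)
    (fun g hg => hcomm g (hP hg))
  have hc : c ≠ 0 := by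
    rintro rfl
    apply hz1
    refine Subtype.ext (Subtype.ext (Subtype.ext ?_))
    exact rho_eq_one hsc (zero_smul ..)
  intro g hg
  exact Subtype.ext (commute_rho_smul hp.left hqu hc hsc hs
    (congrArg Subtype.val (hcomm g hg).eq.symm)).eq.symm

theorem exists_frame (hQ : Nondeg Q) {a b : V} (h : LPair Q a b) :
    ∃ (f u : V) (hp : HypPair Q a f) (hu : u ∈ core Q a f), u ≠ 0 ∧ Q u = 0 ∧
      rE h.spair = rE (⟨hp.left, (mem_core.1 hu).1⟩ : SPair Q a u) := by
  obtain ⟨f, hp⟩ := exists_hypPair hQ h.ne h.qa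
  have hm : b - polar Q f b • a ∈ core Q a f := by
    refine mem_core.2 ⟨?_, ?_⟩
    · rw [polar_sub_right, polar_smul_right, h.perp, hp.pol_ee, smul_zero, sub_zero]
    · rw [polar_sub_right, polar_smul_right, hp.pol', smul_eq_mul, mul_one, sub_self]
  refine ⟨f, _, hp, hm, fun h0 => ?_, ?_, ?_⟩
  · have := LinearIndependent.pair_iff.1 h.ind (-polar Q f b) 1
      (by rw [one_smul, neg_smul, neg_add_eq_sub, h0])
    exact one_ne_zero this.2
  · refine sing_span_pair h.qa h.qb h.perp (Submodule.mem_span_pair.2 ⟨-polar Q f b, 1, ?_⟩)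
    rw [one_smul, neg_smul, neg_add_eq_sub]
  · refine Subtype.ext ?_
    show rho h.spair = rho (⟨hp.left, (mem_core.1 hm).1⟩ : SPair Q a (b - polar Q f b • a))
    have hs : SPair Q a (b + (-polar Q f b) • a) := h.spair.add ⟨h.qa, by
      rw [polar_smul_right, hp.pol_ee, smul_zero]⟩
    rw [← rho_shift h.spair (-polar Q f b) hs]
    exact rho_congr hs (⟨hp.left, (mem_core.1 hm).1⟩ : SPair Q a (b - polar Q f b • a)) rfl
      (by rw [neg_smul, ← sub_eq_add_neg])

theorem rootLike_rt (hQ : Nondeg Q) (h5 : 5 ≤ finrank F V) {a b : V} (h : LPair Q a b) :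
    RootLike p (rt h) := by
  have : Finite (EG Q) := finite_EG
  obtain ⟨f, u, hp, hu, hu0, hqu, he⟩ := exists_frame hQ h
  obtain ⟨P, -, hP⟩ := exists_sylow_rE (p := p) hQ h5 hp hu hu0 hqu
  refine ⟨fun h1 => ?_, ?_, P.mapSurjective (QuotientGroup.mk'_surjective _), ?_⟩
  · have := toP_inj_of_pow hQ h5 (g := rE h.spair) (h := 1) (i := 1) (j := 0)
      (by rw [pow_one]; exact rE_pow_char _) (by rw [one_pow]) (by rw [map_one]; exact h1)
    exact rho_ne_one hQ h (congrArg Subtype.val this)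
  · rw [rt, ← map_pow, rE_pow_char, map_one]
  · rintro y ⟨g, hg, rfl⟩
    rw [rt, he]
    exact (hP g hg).map toP

theorem exists_rt_of_rootLike (hQ : Nondeg Q) (h5 : 5 ≤ finrank F V) {x : PG Q}
    (hx : RootLike p x) : ∃ (a b : V) (h : LPair Q a b), x = rt h := by
  have : Finite (EG Q) := finite_EG
  obtain ⟨hx1, hxp, P', hP'⟩ := hx
  obtain ⟨Y, rfl⟩ := toP_surj x
  -- a lift of order `p`
  obtain ⟨X, hXY, hX⟩ : ∃ X : EG Q, toP X = toP Y ∧ X ^ p = 1 := by
    have hz : Y ^ p ∈ Subgroup.center (EG Q) := by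
      rw [← QuotientGroup.eq_one_iff]; exact hxp
    rcases (Fact.out : p.Prime).eq_two_or_odd' with hp | ⟨k, hk⟩
    · refine ⟨Y, rfl, ?_⟩
      rcases (mem_center_EG_iff hQ h5 _).1 hz with h | h
      · exact Subtype.ext (orth_ext h)
      · subst hp
        refine Subtype.ext (orth_ext fun v => ?_)
        rw [h v]
        show -v = v
        rw [← neg_one_smul F v, CharTwo.neg_eq, one_smul]
    · refine ⟨Y * Y ^ p, ?_, ?_⟩
      · rw [map_mul, show toP (Y ^ p) = 1 from (QuotientGroup.eq_one_iff _).2 hz, mul_one]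
      · rw [(Commute.self_pow Y p).mul_pow]
        have h2 : Y ^ p * Y ^ p = 1 := by
          rcases (mem_center_EG_iff hQ h5 _).1 hz with h | h <;>
            refine Subtype.ext (orth_ext fun v => ?_) <;>
            show (Y ^ p).1.1 ((Y ^ p).1.1 v) = v
          · rw [h, h]
          · rw [h, h, neg_neg]
        have h3 : (Y ^ p) ^ p = Y ^ p := by
          conv_lhs => rw [hk, pow_succ, pow_mul, pow_two, ← hk, h2, one_pow, one_mul]
        rw [h3]; exact h2
  obtain ⟨e, f, hp⟩ := exists_hyp hQ (by omega)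
  have hfr := hp.finrank_core
  obtain ⟨⟨u, hu⟩, hu0, hqu⟩ := exists_singular (hp.nondeg_core hQ) (by omega)
  have hu0' : u ≠ 0 := fun h => hu0 (Subtype.ext h)
  replace hqu : Q u = 0 := hqu
  obtain ⟨P, hP0, -⟩ := exists_sylow_rE (p := p) hQ h5 hp hu hu0' hqu
  obtain ⟨g, hg⟩ := MulAction.exists_smul_eq (PG Q)
    (P.mapSurjective (QuotientGroup.mk'_surjective (Subgroup.center (EG Q)))) P'
  obtain ⟨g, rfl⟩ := toP_surj g
  have hcomm : ∀ k ∈ P0 Q e u f, Commute (g⁻¹ * X * g) k := by
    intro k hk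
    obtain ⟨j, hj⟩ := P.isPGroup' ⟨k, hP0 hk⟩
    refine toP_commute (p := p) hQ h5 (congrArg Subtype.val hj) ?_
    have hmem : toP g * toP k * (toP g)⁻¹ ∈ P' := by
      rw [← hg]
      exact ⟨toP k, ⟨k, hP0 hk, rfl⟩, rfl⟩
    have h1 := (hP' _ hmem).map (MulAut.conj (toP g)⁻¹).toMonoidHom
    rw [map_mul, map_mul, map_inv, hXY]
    simpa [MulAut.conj_apply, mul_assoc] using h1
  obtain ⟨c, hs, hc⟩ := shape hQ h5 hp hu hu0' hqu (X := g⁻¹ * X * g) (i := 1)
    (by rw [pow_one, show g⁻¹ * X * g = g⁻¹ * X * g⁻¹⁻¹ by rw [inv_inv], conj_pow, hX, mul_one,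
      mul_inv_cancel]) hcomm
  have hc0 : c ≠ 0 := by
    rintro rfl
    apply hx1
    have : g⁻¹ * X * g = 1 := hc.trans (Subtype.ext (by
      exact rho_eq_one hs (zero_smul ..)))
    rw [← hXY, show X = g * (g⁻¹ * X * g) * g⁻¹ by group, this, mul_one, mul_inv_cancel, map_one]
  have hl : LPair Q (g.1.1 e) (g.1.1 (c • u)) := by
    refine ⟨(g.1.2 e).trans hp.left, (g.1.2 _).trans (by rw [Q_smul, hqu, mul_zero]),
      (orth_polar g.1.2 _ _).trans hs.perp, LinearIndependent.pair_iff.2 fun s t hst => ?_⟩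
    rw [← map_smul, ← map_smul, ← map_add] at hst
    have hst' := g.1.1.injective (hst.trans (map_zero _).symm)
    have h1 := congrArg (polar Q f) hst'
    simp only [polar_add_right, polar_smul_right, hp.pol', (mem_core.1 hu).2, polar_zero_right,
      smul_eq_mul, mul_one, mul_zero, add_zero] at h1
    refine ⟨h1, ?_⟩
    rw [h1, zero_smul, zero_add, smul_smul, smul_eq_zero] at hst'
    exact (mul_eq_zero.1 (hst'.resolve_right hu0')).resolve_right hc0
  refine ⟨_, _, hl, ?_⟩
  rw [rt, ← hXY]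
  congr 1
  rw [show X = g * (g⁻¹ * X * g) * g⁻¹ by group, hc]
  exact Subtype.ext (rho_conj g.1 hs)

end Char

end Cfsg.Agent.Lib.AutPOmega
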