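import Cfsg.Agent.Lib.AutPOmega.OutBasic

/-!
Classes of products of two reflections modulo `EG Q`, and of diagonal isometries of hyperbolic pairs.
-/

set_option autoImplicit false

namespace Cfsg.Agent.Lib.AutPOmega

open Module QuadraticMap Cfsg.Agent.Lib.Forms Cfsg.Agent.Lib.OrthOmega Cfsg.Agent.Lib.OrthStd
open Semisim
open scoped Matrix

variable {F : Type*} [Field F] [Finite F]

theorem isSquare_div_of_not (h2 : (2 : F) ≠ 0) {x y : F} (hx : ¬ IsSquare x) (hy : ¬ IsSquare y) :
    IsSquare (x / y) := by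
  classical
  have := Fintype.ofFinite F
  have hy0 : y ≠ 0 := fun h => hy (h ▸ IsSquare.zero)
  have hx0 : x ≠ 0 := fun h => hx (h ▸ IsSquare.zero)
  rw [← quadraticChar_one_iff_isSquare (div_ne_zero hx0 hy0), div_eq_mul_inv, map_mul,
    (quadraticChar_neg_one_iff_not_isSquare).2 hx,
    (quadraticChar_neg_one_iff_not_isSquare (a := y⁻¹)).2 (by rwa [isSquare_inv])]
  norm_num

theorem isSquare_div_or (h2 : (2 : F) ≠ 0) {x y z : F} (hx : x ≠ 0) (hy : y ≠ 0)
    (h : ¬ IsSquare (y / x)) : IsSquare (z / x) ∨ IsSquare (z / y) := by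
  by_cases hz : IsSquare (z / x)
  · exact Or.inl hz
  · refine Or.inr ?_
    have := isSquare_div_of_not h2 hz h
    rwa [div_div_div_cancel_right₀ hx] at this

section Classes

variable {V : Type*} [AddCommGroup V] [Module F V] [FiniteDimensional F V]
  {Q : QuadraticForm F V}

omit [Finite F] in
theorem cls_eq_of_isSquare (hQ : Nondeg Q) {v z : V} (hv : Q v ≠ 0) (hz : Q z ≠ 0)
    (h : IsSquare (Q z / Q v)) :
    Abelianization.of (orefl Q z) = Abelianization.of (orefl Q v) := by
  obtain ⟨t, ht⟩ := h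
  have ht0 : t ≠ 0 := fun h0 => div_ne_zero hz hv (by rw [ht, h0, zero_mul])
  exact abelianization_orefl_eq hQ hv ht0 (by rw [← ht, div_mul_cancel₀ _ hv])

theorem cls_cases (hQ : Nondeg Q) (h2 : (2 : F) ≠ 0) {v w z : V} (hv : Q v ≠ 0) (hw : Q w ≠ 0)
    (h : ¬ IsSquare (Q w / Q v)) (hz : Q z ≠ 0) :
    Abelianization.of (orefl Q z) = Abelianization.of (orefl Q v) ∨
      Abelianization.of (orefl Q z) = Abelianization.of (orefl Q w) :=
  (isSquare_div_or h2 hv hw h).imp (cls_eq_of_isSquare hQ hv hz) (cls_eq_of_isSquare hQ hw hz)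

/-- Reflections in vectors whose values are in different square classes differ modulo the
commutator subgroup. -/
theorem cls_ne [Finite V] (hQ : Nondeg Q) (h2 : (2 : F) ≠ 0) (hn : 2 ≤ finrank F V) {v w : V}
    (hv : Q v ≠ 0) (hw : Q w ≠ 0) (h : ¬ IsSquare (Q w / Q v)) :
    Abelianization.of (orefl Q v) ≠ Abelianization.of (orefl Q w) := by
  classical
  intro he
  set a := Abelianization.of (orefl Q v) with hadef
  have ha : a * a = 1 := abelianization_orefl_sq v
  have hall : ∀ x : Abelianization (orth Q), x = 1 ∨ x = a := fun x => by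
    obtain ⟨g, rfl⟩ := QuotientGroup.mk_surjective x
    show Abelianization.of g = 1 ∨ Abelianization.of g = a
    have hg : g ∈ Subgroup.closure (reflSet Q) := by
      rw [closure_reflSet hQ (Or.inl (exists_ne01 h2))]; trivial
    induction hg using Subgroup.closure_induction with
    | mem r hr =>
      obtain ⟨z, hz, rfl⟩ := hr
      exact Or.inr ((cls_cases hQ h2 hv hw h hz).elim id fun h' => h'.trans he.symm)
    | one => exact Or.inl (map_one _)
    | mul x y _ _ hx hy =>
      rcases hx with hx | hx <;> rcases hy with hy | hy <;> simp [hx, hy, ha]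
    | inv x _ hx =>
      rcases hx with hx | hx
      · simp [hx]
      · simp [hx, inv_eq_of_mul_eq_one_left ha]
  have h4 := index_commutator_odd hQ h2 hn
  rw [Subgroup.index_eq_card] at h4
  have := Fintype.ofFinite (Abelianization (orth Q))
  have hle : Nat.card (Abelianization (orth Q)) ≤ 2 := by
    rw [Nat.card_eq_fintype_card, ← Finset.card_univ]
    refine (Finset.card_le_card (t := {1, a}) fun x _ => ?_).trans Finset.card_le_two
    simpa using hall x
  change Nat.card (Abelianization (orth Q)) = 4 at h4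
  omega

theorem cls_pair_ne_one [Finite V] (hQ : Nondeg Q) (h2 : (2 : F) ≠ 0) (hn : 2 ≤ finrank F V)
    {v w : V} (hv : Q v ≠ 0) (hw : Q w ≠ 0) (h : ¬ IsSquare (Q w / Q v)) :
    Abelianization.of (orefl Q v) * Abelianization.of (orefl Q w) ≠ 1 := fun he =>
  cls_ne hQ h2 hn hv hw h
    (mul_right_cancel (b := Abelianization.of (orefl Q w)) (he.trans (abelianization_orefl_sq w).symm))

omit [Finite F] [FiniteDimensional F V] in
theorem cls_pair_sq (v w : V) :
    (Abelianization.of (orefl Q v) * Abelianization.of (orefl Q w)) *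
      (Abelianization.of (orefl Q v) * Abelianization.of (orefl Q w)) = 1 := by
  rw [mul_mul_mul_comm, abelianization_orefl_sq, abelianization_orefl_sq, one_mul]

theorem cls_pair_eq [Finite V] (hQ : Nondeg Q) (h2 : (2 : F) ≠ 0) (hn : 2 ≤ finrank F V)
    {v w v' w' : V} (hv : Q v ≠ 0) (hw : Q w ≠ 0) (h : ¬ IsSquare (Q w / Q v))
    (hv' : Q v' ≠ 0) (hw' : Q w' ≠ 0) (h' : ¬ IsSquare (Q w' / Q v')) :
    Abelianization.of (orefl Q v') * Abelianization.of (orefl Q w') =
      Abelianization.of (orefl Q v) * Abelianization.of (orefl Q w) := by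
  have hne := cls_ne hQ h2 hn hv' hw' h'
  rcases cls_cases hQ h2 hv hw h hv' with e1 | e1 <;>
    rcases cls_cases hQ h2 hv hw h hw' with e2 | e2 <;> rw [e1, e2] at hne ⊢
  · exact absurd rfl hne
  · exact mul_comm _ _
  · exact absurd rfl hne

theorem cls_eq_one_iff [Finite V] (hQ : Nondeg Q) (h5 : 5 ≤ finrank F V) (g : orth Q) :
    Abelianization.of g = 1 ↔ g ∈ EG Q := by
  rw [← commutator_eq_EG hQ h5]
  exact QuotientGroup.eq_one_iff g

end Classes

/-! ### Diagonal isometries of hyperbolic pairs -/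

section Diag

omit [Finite F]

/-- The diagonal isometries of hyperbolic pairs. -/
def diagPlus (k : ℕ) : (Fin k → Fˣ) →* orth (qPlus (F := F) k) where
  toFun t := ⟨
    { toFun := fun v => Sum.elim (fun i => (t i : F) * v (.inl i))
        (fun i => ((t i)⁻¹ : Fˣ) * v (.inr i))
      map_add' := fun u v => by funext j; rcases j with i | i <;> simp [mul_add]
      map_smul' := fun s v => by funext j; rcases j with i | i <;> simp [mul_left_comm]
      invFun := fun v => Sum.elim (fun i => ((t i)⁻¹ : Fˣ) * v (.inl i))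
        (fun i => (t i : F) * v (.inr i))
      left_inv := fun v => by funext j; rcases j with i | i <;> simp
      right_inv := fun v => by funext j; rcases j with i | i <;> simp }, fun v => by
    simp only [qPlus_apply]
    refine Finset.sum_congr rfl fun i _ => ?_
    simp
    field_simp⟩
  map_one' := orth_ext fun v => by funext j; rcases j with i | i <;> simp
  map_mul' s t := orth_ext fun v => by
    funext j; rcases j with i | i <;> simp [mul_assoc, mul_comm, mul_left_comm]

theorem diagPlus_apply_inl (k : ℕ) (t : Fin k → Fˣ) (v : Fin k ⊕ Fin k → F) (i : Fin k) :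
    (diagPlus k t).1 v (.inl i) = (t i : F) * v (.inl i) := rfl

theorem diagPlus_apply_inr (k : ℕ) (t : Fin k → Fˣ) (v : Fin k ⊕ Fin k → F) (i : Fin k) :
    (diagPlus k t).1 v (.inr i) = (((t i)⁻¹ : Fˣ) : F) * v (.inr i) := rfl

/-- The vector `eᵢ - t fᵢ`. -/
def pairVec {k : ℕ} (i : Fin k) (t : F) : Fin k ⊕ Fin k → F :=
  Sum.elim (Pi.single i 1) (Pi.single i (-t))

theorem qPlus_pairVec {k : ℕ} (i : Fin k) (t : F) : qPlus k (pairVec i t) = -t := by
  rw [qPlus_apply, Finset.sum_eq_single i]
  · simp [pairVec]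
  · intro j _ hj; simp [pairVec, hj]
  · simp

theorem polar_pairVec {k : ℕ} (i : Fin k) (t : F) (v : Fin k ⊕ Fin k → F) :
    polar (qPlus k) (pairVec i t) v = v (.inr i) - t * v (.inl i) := by
  simp only [polar, qPlus_apply, ← Finset.sum_sub_distrib, Pi.add_apply]
  rw [Finset.sum_eq_single i]
  · simp [pairVec]; ring
  · intro j _ hj; simp [pairVec, hj]
  · simp

theorem diagPlus_single {k : ℕ} (i : Fin k) (t : Fˣ) :
    diagPlus k (Pi.mulSingle i t) =
      orefl (qPlus (F := F) k) (pairVec i 1) * orefl (qPlus k) (pairVec i (t : F)) := by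
  refine orth_ext fun v => ?_
  show _ = refl _ _ (refl _ _ v)
  rw [refl_apply, refl_apply, polar_pairVec, polar_pairVec, qPlus_pairVec, qPlus_pairVec]
  funext j
  rcases j with j | j <;> by_cases hj : j = i
  · subst hj
    simp [diagPlus_apply_inl, pairVec]
    field_simp
    ring
  · simp [diagPlus_apply_inl, pairVec, hj]
  · subst hj
    simp [diagPlus_apply_inr, pairVec]
    field_simp
    ring
  · simp [diagPlus_apply_inr, pairVec, hj]

theorem map_diagPlus_const {A : Type*} [CommGroup A] {k : ℕ} (Φ : orth (qPlus (F := F) k) →* A)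
    (t : Fˣ) (x : A)
    (hx : ∀ i, Φ (orefl (qPlus (F := F) k) (pairVec i 1)) *
      Φ (orefl (qPlus (F := F) k) (pairVec i (t : F))) = x) :
    Φ (diagPlus k fun _ => t) = x ^ k := by
  have h : (fun _ => t : Fin k → Fˣ) = ∏ i, Pi.mulSingle i t :=
    (Finset.univ_prod_mulSingle (fun _ : Fin k => t)).symm
  rw [← MonoidHom.comp_apply, h, map_prod]
  simp only [MonoidHom.comp_apply, diagPlus_single, map_mul, hx, Finset.prod_const,
    Finset.card_univ, Fintype.card_fin]

/-- The isometries of the hyperbolic part inside those of the minus form. -/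
def embPlus (k : ℕ) (a b : F) : orth (qPlus (F := F) k) →* orth (qMinusC k a b) where
  toFun g := ⟨(minusSplit k F).trans ((g.1.prodCongr (LinearEquiv.refl F (Fin 2 → F))).trans
      (minusSplit k F).symm), fun v => by
    show ((qPlus (F := F) k).prod (qBin a b)) (minusSplit k F ((minusSplit k F).symm _)) =
      ((qPlus (F := F) k).prod (qBin a b)) (minusSplit k F v)
    rw [LinearEquiv.apply_symm_apply, QuadraticMap.prod_apply, QuadraticMap.prod_apply]
    exact congrArg (· + _) (g.2 _)⟩
  map_one' := orth_ext fun v => (minusSplit k F).symm_apply_apply v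
  map_mul' g h := orth_ext fun v => rfl

theorem embPlus_apply (k : ℕ) (a b : F) (g : orth (qPlus (F := F) k))
    (v : (Fin k ⊕ Fin k) ⊕ Fin 2 → F) :
    (embPlus k a b g).1 v =
      Sum.elim (g.1 fun j => v (.inl j)) (fun j => v (.inr j)) := rfl

theorem qMinusC_elim (k : ℕ) (a b : F) (x : Fin k ⊕ Fin k → F) (z : Fin 2 → F) :
    qMinusC k a b (Sum.elim x z) = qPlus k x + qBin a b z := rfl

theorem embPlus_orefl (k : ℕ) (a b : F) (x : Fin k ⊕ Fin k → F) :
    embPlus k a b (orefl (qPlus (F := F) k) x) = orefl (qMinusC k a b) (Sum.elim x 0) := by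
  refine orth_ext fun v => ?_
  rw [embPlus_apply]
  show Sum.elim (refl (qPlus k) x fun j => v (.inl j)) _ = refl (qMinusC k a b) (Sum.elim x 0) v
  have hv : v = Sum.elim (fun j => v (.inl j)) (fun j => v (.inr j)) := by
    funext j; rcases j with j | j <;> rfl
  have hQ : qMinusC k a b (Sum.elim x 0) = qPlus k x := by
    rw [qMinusC_elim, QuadraticMap.map_zero, add_zero]
  have hpol : polar (qMinusC k a b) (Sum.elim x 0) v = polar (qPlus k) x fun j => v (.inl j) := by
    conv_lhs => rw [hv]
    simp only [polar, show ∀ (p q : Fin k ⊕ Fin k → F) (s : Fin 2 → F),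
      (Sum.elim p 0 + Sum.elim q s : (Fin k ⊕ Fin k) ⊕ Fin 2 → F) = Sum.elim (p + q) s from
        fun p q s => by funext j; rcases j with j | j <;> simp, qMinusC_elim,
      QuadraticMap.map_zero]
    ring
  rw [refl_apply, refl_apply, hQ, hpol]
  funext j
  rcases j with j | j <;> simp

/-- The square of multiplication on the binary part, divided by its norm, as two reflections. -/
theorem binary_rotation (k : ℕ) {a b : F} (u : Fin 2 → F) (hu : qBin a b u ≠ 0)
    (v : (Fin k ⊕ Fin k) ⊕ Fin 2 → F) :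
    ((orefl (qMinusC k a b) (Sum.elim 0 u) * orefl (qMinusC k a b) (Sum.elim 0 ![1, 0]) :
      orth (qMinusC k a b)) : ((Fin k ⊕ Fin k) ⊕ Fin 2 → F) ≃ₗ[F] _) v =
      Sum.elim (fun j => v (.inl j))
        ((qBin a b u)⁻¹ • binMul a b (u 0) (u 1) (binMul a b (u 0) (u 1) fun j => v (.inr j))) := by
  have hQ : ∀ z : Fin 2 → F, qMinusC k a b (Sum.elim 0 z) = qBin a b z := fun z => by
    rw [qMinusC_elim, QuadraticMap.map_zero, zero_add]
  have hpol : ∀ (z : Fin 2 → F) (w : (Fin k ⊕ Fin k) ⊕ Fin 2 → F),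
      polar (qMinusC k a b) (Sum.elim 0 z) w =
        2 * z 0 * w (.inr 0) + a * (z 0 * w (.inr 1) + z 1 * w (.inr 0)) +
          2 * b * z 1 * w (.inr 1) := fun z w => by
    simp [polar, ← quadFormMinus_eq, Cfsg.quadFormMinus]
    ring
  show refl _ _ (refl _ _ v) = _
  rw [refl_apply, refl_apply, hQ, hQ, hpol, hpol]
  funext j
  rw [qBin_apply] at hu ⊢
  rcases j with j | j
  · simp
  · have hr : (u 0 ^ 2 + a * u 0 * u 1 + b * u 1 ^ 2) *
        (u 0 ^ 2 + a * u 0 * u 1 + b * u 1 ^ 2)⁻¹ = 1 := mul_inv_cancel₀ hu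
    fin_cases j
    · simp [binMul, qBin_apply]
      linear_combination (v (.inr 0) + a * v (.inr 1)) * hr
    · simp [binMul, qBin_apply]
      linear_combination -(v (.inr 1)) * hr

end Diag

end Cfsg.Agent.Lib.AutPOmega
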